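import Groth.Agent.H20Borel.GBProper
import Groth.Agent.H20Mu.Conj
import Mathlib.RingTheory.Ideal.Height

/-!
# Existence and elementary transport of Borel subgroups
-/

set_option autoImplicit false
set_option linter.style.haveILetI false
set_option backward.isDefEq.respectTransparency false
set_option maxHeartbeats 1000000
set_option synthInstance.maxHeartbeats 100000

universe u

open CategoryTheory CategoryTheory.Limits MonoidalCategory CartesianMonoidalCategory MonObj AlgebraicGeometry
open Groth.Agent.H27Witt H20Mu H20Conj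

noncomputable section

namespace H20Borel

variable {k : Type u} [Field k] [IsAlgClosed k]

local notation "Pt" X => 𝟙_ (Over (Sk k)) ⟶ X

variable {G : Over (Sk k)} [GrpObj G] [IsAffine G.left] [LocallyOfFiniteType G.hom]

omit [IsAlgClosed k] [LocallyOfFiniteType G.hom] in
/-- The points of a closed subgroup scheme are closed. -/
theorem clo_range_le {B : Over (Sk k)} [GrpObj B] (i : B ⟶ G) [IsMonHom i] [IsClosedImmersion i.left]
    {h : Pt G} (hh : h ∈ clo (postHom i).range) : h ∈ (postHom i).range := by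
  haveI : IsAffine B.left := isAffine_of_isAffineHom i.left
  have hsurj : Function.Surjective (Fn.pull i : Fn G →ₐ[k] Fn B) :=
    (IsClosedImmersion.isAffine_surjective_of_isAffine i.left).2
  have hv : ∀ r ∈ RingHom.ker (Fn.pull i : Fn G →ₐ[k] Fn B), val h r = 0 := fun r hr =>
    mem_clo.mp hh r (mem_vanish.mpr fun g hg => by
      obtain ⟨z, rfl⟩ := hg
      show val (z ≫ i) r = 0
      rw [← val_pull, RingHom.mem_ker.mp hr, map_zero])
  obtain ⟨e, he⟩ := Fn.exists_point (X := B)
    ((Ideal.Quotient.liftₐ (RingHom.ker (Fn.pull i)) (val h) hv).comp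
      (Ideal.quotientKerAlgEquivOfSurjective hsurj).symm.toAlgHom)
  refine ⟨e, Fn.point_ext (k := k) (AlgHom.ext fun r => ?_)⟩
  show Fn.ev (e ≫ i) r = _
  rw [← Fn.ev_pull, he]
  show (Ideal.Quotient.liftₐ _ (val h) hv) ((Ideal.quotientKerAlgEquivOfSurjective hsurj).symm (Fn.pull i r)) = _
  rw [show (Ideal.quotientKerAlgEquivOfSurjective hsurj).symm (Fn.pull i r) = Ideal.Quotient.mk _ r from
    (AlgEquiv.symm_apply_eq _).mpr rfl]
  rfl

/-- The candidates for the points of a Borel subgroup. -/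
def IsCand (R₀ R : Subgroup (Pt G)) : Prop :=
  R₀ ≤ R ∧ (vanish (R : Set (Pt G))).IsPrime ∧ Group.IsSolvable R ∧ ∀ g ∈ clo R, g ∈ R

omit [IsAlgClosed k] [IsAffine G.left] [LocallyOfFiniteType G.hom] in
theorem vanish_clo (R : Subgroup (Pt G)) : vanish (clo R : Set (Pt G)) = vanish (R : Set (Pt G)) :=
  le_antisymm (fun a ha => mem_vanish.mpr fun g hg => mem_vanish.mp ha g fun r hr => mem_vanish.mp hr g hg)
    fun a ha => mem_vanish.mpr fun g hg => mem_clo.mp hg a ha

/-- **Borel subgroups exist**, containing any given connected solvable closed group of points. -/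
theorem exists_isBorelOver_ge (R₀ : Subgroup (Pt G)) (hp : (vanish (R₀ : Set (Pt G))).IsPrime)
    (hs : Group.IsSolvable (clo R₀)) :
    ∃ (B : Over (Sk k)) (_ : GrpObj B) (iB : B ⟶ G), Red.IsBorelOver k iB ∧
      ∀ g ∈ R₀, ∃ z : Pt B, z ≫ iB = g := by
  haveI := Fn.finiteType G
  haveI : IsNoetherianRing (Fn G) := Algebra.FiniteType.isNoetherianRing k (Fn G)
  haveI : Nonempty {R : Subgroup (Pt G) // IsCand R₀ R} :=
    ⟨⟨clo R₀, fun g hg r hr => mem_vanish.mp hr g hg, (vanish_clo R₀).symm ▸ hp, hs, fun g hg r hr =>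
      mem_clo.mp hg r ((vanish_clo R₀).symm ▸ hr)⟩⟩
  let ht : {R : Subgroup (Pt G) // IsCand R₀ R} → ℕ∞ := fun R => (vanish (R.1 : Set (Pt G))).height
  set M := Function.argmin ht with hM
  obtain ⟨hle, hMp, hMs, hMc⟩ := M.2
  haveI := hMs
  obtain ⟨B, gB, iB, hm, hci, -, hsm, hconn, hsolB, hpts, hlift⟩ := exists_subgroup_scheme M.1 hMp
    (Group.isSolvable_of_isSolvable_injective (f := Subgroup.inclusion (fun g hg => hMc g hg : clo M.1 ≤ M.1))
      (Subgroup.inclusion_injective _))
  letI := gB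
  haveI := hm
  haveI : AlgebraicGeometry.IsReduced (𝟙_ (Over (Sk k))).left :=
    inferInstanceAs (AlgebraicGeometry.IsReduced (Spec (CommRingCat.of k)))
  haveI : IsAffine (𝟙_ (Over (Sk k))).left := inferInstanceAs (IsAffine (Spec (CommRingCat.of k)))
  haveI : LocallyOfFiniteType (𝟙_ (Over (Sk k))).hom := inferInstanceAs (LocallyOfFiniteType (𝟙 (Sk k)))
  have hM' : ∀ g ∈ M.1, ∃ z : Pt B, z ≫ iB = g := fun g hg => hlift g fun z => by
    rw [toUnit_unique z (𝟙 _), Category.id_comp]
    exact fun r hr => mem_vanish.mp hr g hg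
  refine ⟨B, gB, iB, ⟨hm, hci, hsm, hconn, hsolB, ?_⟩, fun g hg => hM' g (hle hg)⟩
  intro B' _ i' _ f hci' hsm' hconn' hsol' hf
  haveI := hci'; haveI := hsm'; haveI := hconn'; haveI := hci
  haveI : IsAffine B'.left := isAffine_of_isAffineHom i'.left
  haveI : IsAffine B.left := isAffine_of_isAffineHom iB.left
  obtain ⟨n, hn⟩ := hsol'
  haveI : Group.IsSolvable (Pt B') := ⟨n, hn _⟩
  haveI : Mono i' := Over.mono_of_mono_left _
  haveI : Mono iB := Over.mono_of_mono_left _
  have hMle : M.1 ≤ (postHom i').range := fun g hg => by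
    obtain ⟨z, rfl⟩ := hM' g hg
    exact ⟨z ≫ f, show (z ≫ f) ≫ i' = z ≫ iB by rw [Category.assoc, hf]⟩
  haveI := isPrime_range i'
  have hc : IsCand R₀ (postHom i').range := ⟨hle.trans hMle, inferInstance,
    Group.isSolvable_of_surjective (postHom i').rangeRestrict_surjective, fun g hg => clo_range_le i' hg⟩
  have hanti : vanish ((postHom i').range : Set (Pt G)) ≤ vanish (M.1 : Set (Pt G)) :=
    fun a ha => mem_vanish.mpr fun g hg => mem_vanish.mp ha g (hMle hg)
  have heq : vanish ((postHom i').range : Set (Pt G)) = vanish (M.1 : Set (Pt G)) := by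
    by_contra hne
    haveI := hMp
    exact Function.not_lt_argmin ht ⟨_, hc⟩ (Ideal.height_strict_mono_of_isPrime (lt_of_le_of_ne hanti hne))
  haveI : AlgebraicGeometry.IsReduced B'.left := Groth.Agent.H13AlgSp.isReduced_of_smooth_mor B'.hom
  obtain ⟨g, hg⟩ := hlift i' fun z a ha => mem_vanish.mp (show a ∈ vanish ((postHom i').range : Set (Pt G)) from heq.symm ▸ ha) _ ⟨z, rfl⟩
  exact ⟨⟨g, by rw [← cancel_mono iB, Category.assoc, hg, hf, Category.id_comp],
    by rw [← cancel_mono i', Category.assoc, hf, hg, Category.id_comp]⟩⟩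

/-- Borel subgroups exist. -/
theorem exists_isBorelOver : ∃ (B : Over (Sk k)) (_ : GrpObj B) (iB : B ⟶ G), Red.IsBorelOver k iB := by
  have hp : (vanish ((⊥ : Subgroup (Pt G)) : Set (Pt G))).IsPrime := by
    rw [Subgroup.coe_bot, show ({1} : Set (Pt G)) = {(1 : Pt G)} from rfl]
    exact isPrime_singleton _
  have hbot : clo (⊥ : Subgroup (Pt G)) = ⊥ := by
    refine (Subgroup.eq_bot_iff_forall _).2 fun g hg => Fn.point_ext (k := k) (AlgHom.ext fun r => ?_)
    have h := mem_clo.mp hg (r - algebraMap k (Fn G) (val (1 : Pt G) r)) (mem_vanish.mpr fun h hh => by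
      rw [Subgroup.mem_bot.mp hh, map_sub, AlgHom.commutes, Algebra.algebraMap_self, RingHom.id_apply, sub_self])
    rw [map_sub, AlgHom.commutes, Algebra.algebraMap_self, RingHom.id_apply, sub_eq_zero] at h
    exact h
  obtain ⟨B, gB, iB, hB, -⟩ := exists_isBorelOver_ge (G := G) ⊥ hp (by rw [hbot]; infer_instance)
  exact ⟨B, gB, iB, hB⟩

omit [IsAlgClosed k] [IsAffine G.left] [LocallyOfFiniteType G.hom] in
/-- Borel subgroups are carried to Borel subgroups by automorphisms of the group. -/
theorem isBorelOver_comp_iso {B : Over (Sk k)} [GrpObj B] {iB : B ⟶ G} (hB : Red.IsBorelOver k iB) (c : G ⟶ G)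
    [IsIso c] [IsMonHom c] : Red.IsBorelOver k (iB ≫ c) := by
  obtain ⟨hm, hci, hsm, hconn, hsol, hmax⟩ := hB
  replace hmax := PLift.up hmax -- kept out of instance search
  haveI := hm; haveI := hci
  haveI : IsIso c.left := inferInstanceAs (IsIso ((Over.forget _).map c))
  haveI : IsIso (inv c).left := inferInstanceAs (IsIso ((Over.forget _).map (inv c)))
  haveI : IsMonHom (inv c) := inferInstanceAs (IsMonHom (asIso c).inv)
  refine ⟨inferInstance, by rw [Over.comp_left]; infer_instance, hsm, hconn, hsol, ?_⟩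
  intro B' _ i' _ f hci' hsm' hconn' hsol' hf
  haveI := hci'
  exact hmax.down B' (i' ≫ inv c) f (by rw [Over.comp_left]; infer_instance) hsm' hconn' hsol'
    (by rw [← Category.assoc, hf, Category.assoc, IsIso.hom_inv_id, Category.comp_id])

end H20Borel
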