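import Groth.Agent.H19Quot.Homogeneous
import Groth.Agent.H19Grp.QuotientDesc
import Mathlib.AlgebraicGeometry.AlgClosed.Basic

/-!
# Morphisms covered by finitely many sections; lifting rational points; separatedness of quotients
-/

set_option autoImplicit false
set_option linter.style.haveILetI false
set_option backward.isDefEq.respectTransparency false

universe u

open CategoryTheory CategoryTheory.Limits MonoidalCategory CartesianMonoidalCategory MonObj AlgebraicGeometry

noncomputable section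

namespace H20Borel

/-- A morphism covered by finitely many sections is universally closed. -/
theorem universallyClosed_of_sections {P Y : Scheme.{u}} (p : P ⟶ Y) {κ : Type*} [Finite κ] (σ : κ → (Y ⟶ P))
    (hσ : ∀ i, σ i ≫ p = 𝟙 Y) (h : (Set.univ : Set P) ⊆ ⋃ i, Set.range (σ i)) : UniversallyClosed p := by
  rw [universallyClosed_eq]
  intro P' Y' i₁ i₂ f' hf C hC
  let τ : κ → (Y' ⟶ P') := fun i => hf.lift (𝟙 Y') (i₂ ≫ σ i) (by rw [Category.assoc, hσ, Category.comp_id, Category.id_comp])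
  have hτ1 : ∀ i, τ i ≫ i₁ = i₂ ≫ σ i := fun i => hf.lift_snd _ _ _
  have hτ2 : ∀ i, τ i ≫ f' = 𝟙 Y' := fun i => hf.lift_fst _ _ _
  have hsq : ∀ i, IsPullback (τ i) i₂ i₁ (σ i) := fun i =>
    IsPullback.of_right (by rw [hτ2, hσ]; exact IsPullback.of_horiz_isIso ⟨by rw [Category.id_comp, Category.comp_id]⟩)
      (hτ1 i) hf
  have hcov : ∀ x : P', ∃ i y, τ i y = x := fun x => by
    obtain ⟨i, hi⟩ := Set.mem_iUnion.1 (h (Set.mem_univ (i₁ x)))
    refine ⟨i, ?_⟩
    have : x ∈ Set.range (pullback.fst i₁ (σ i)) := by rw [Scheme.Pullback.range_fst]; exact hi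
    obtain ⟨z, rfl⟩ := this
    exact ⟨(hsq i).isoPullback.inv z, by rw [← Scheme.Hom.comp_apply, (hsq i).isoPullback_inv_fst]⟩
  have e : f' '' C = ⋃ i, τ i ⁻¹' C := by
    ext y
    simp only [Set.mem_image, Set.mem_iUnion, Set.mem_preimage]
    constructor
    · rintro ⟨x, hx, rfl⟩
      obtain ⟨i, y, rfl⟩ := hcov x
      exact ⟨i, by rwa [← Scheme.Hom.comp_apply (τ i) f', hτ2]⟩
    · rintro ⟨i, hi⟩
      exact ⟨τ i y, hi, by rw [← Scheme.Hom.comp_apply, hτ2]; rfl⟩
  rw [e]
  exact isClosed_iUnion_of_finite fun i => hC.preimage (τ i).continuous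

variable {k : Type u} [Field k] [IsAlgClosed k]

local notation "S₀" => Spec (CommRingCat.of k)

/-- A rational point of the target of a surjection lifts. -/
theorem exists_pt_lift {G X : Over S₀} [LocallyOfFiniteType G.hom] [LocallyOfFiniteType X.hom]
    [CompactSpace G.left] (f : G ⟶ X) [Surjective f.left]
    (x : 𝟙_ (Over S₀) ⟶ X) : ∃ g : 𝟙_ (Over S₀) ⟶ G, g ≫ f = x := by
  have hxf : x.left ≫ X.hom = 𝟙 S₀ := Over.w x
  have hcl : IsClosed ({x.left (IsLocalRing.closedPoint k)} : Set X.left) :=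
    (pointEquivClosedPoint X.hom ⟨x.left, hxf⟩).2
  have hF : IsClosed (f.left ⁻¹' {x.left (IsLocalRing.closedPoint k)}) := hcl.preimage f.left.continuous
  obtain ⟨p, hp, hpc⟩ := hF.exists_closed_singleton (by
    obtain ⟨q, hq⟩ := f.left.surjective (x.left (IsLocalRing.closedPoint k))
    exact ⟨q, hq⟩)
  refine ⟨Over.homMk (pointOfClosedPoint G.hom p hpc) (pointOfClosedPoint_comp _ _ _), Over.OverMorphism.ext ?_⟩
  refine ext_of_apply_closedPoint_eq X.hom ?_ hxf ?_
  · rw [Over.comp_left, Category.assoc, Over.w]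
    exact pointOfClosedPoint_comp _ _ _
  · rw [Over.comp_left, Scheme.Hom.comp_apply]
    exact (congrArg _ (pointOfClosedPoint_apply G.hom p hpc _)).trans hp

omit [IsAlgClosed k] in
/-- Quotients of affine groups are separated. -/
theorem isSeparated_of_isQuotient {G H X : Over S₀} [GrpObj G] [GrpObj H] [LocallyOfFiniteType G.hom] (i : H ⟶ G)
    [IsMonHom i] [IsClosedImmersion i.left] (a : AlgGrp.Action G X) (o : 𝟙_ (Over S₀) ⟶ X)
    (hX : AGF.IsQuotient i X a o) : IsSeparated X.hom := by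
  haveI : Mono i := Over.mono_of_mono_left _
  obtain ⟨X', a', o', hX', hlfp', hsep⟩ := Groth.Agent.H19Quot.exists_isQuotient i
  haveI := hX.1
  haveI := hlfp'
  haveI := Groth.Agent.H19Grp.QuotientDesc.lfp_orbitMap a o
  obtain ⟨f, hf, -⟩ := Groth.Agent.H19Grp.QuotientDesc.existsUnique_of_isQuotient a o i hX (a'.orbitMap o')
    fun T g h => ((Groth.Agent.H19Grp.QuotientDesc.comp_orbitMap_eq_iff a' o' i hX' g _).2 ⟨h, rfl⟩).symm
  obtain ⟨f', hf', -⟩ := Groth.Agent.H19Grp.QuotientDesc.existsUnique_of_isQuotient a' o' i hX' (a.orbitMap o)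
    fun T g h => ((Groth.Agent.H19Grp.QuotientDesc.comp_orbitMap_eq_iff a o i hX g _).2 ⟨h, rfl⟩).symm
  have h1 : f ≫ f' = 𝟙 X := (Groth.Agent.H19Grp.QuotientDesc.existsUnique_of_isQuotient a o i hX (a.orbitMap o)
    fun T g h => ((Groth.Agent.H19Grp.QuotientDesc.comp_orbitMap_eq_iff a o i hX g _).2 ⟨h, rfl⟩).symm).unique
      (by rw [← Category.assoc, hf, hf']) (Category.comp_id _)
  haveI : Mono f.left := by
    haveI : Mono (f.left ≫ f'.left) := by rw [← Over.comp_left, h1, Over.id_left]; infer_instance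
    exact mono_of_mono f.left f'.left
  rw [← Over.w f]
  haveI := hsep
  infer_instance

end H20Borel
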