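import Groth.Agent.H20Borel.FixLine
import Groth.Agent.H20Conj.Main

/-!
# Two solvable connected subgroups are conjugate into a common solvable closed subgroup
-/

set_option autoImplicit false

universe u

noncomputable section

open Matrix H20Conj
open scoped commutatorElement

namespace H20Borel

variable {k : Type u} [Field k] {N : ℕ}

/-- A subgroup with a full flag is solvable. -/
theorem isSolvable_of_flag {T : Subgroup (GLk k N)} (F : Flag T) : Group.IsSolvable T := by
  have hstep : ∀ n, (derivedSeries T (n + 1)).map T.subtype ≤ F.U (n + 1) := by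
    intro n
    induction n with
    | zero =>
      rw [derivedSeries_succ, Subgroup.map_commutator, Subgroup.commutator_le]
      rintro _ ⟨g, -, rfl⟩ _ ⟨h, -, rfl⟩
      exact F.commutator_mem g.2 h.2
    | succ n ih =>
      rw [derivedSeries_succ, Subgroup.map_commutator]
      refine (Subgroup.commutator_mono ih ih).trans ?_
      rw [Subgroup.commutator_le]
      intro g hg h hh
      have hd : 1 ≤ n + 1 := by omega
      have h1 : g * h ∈ F.U (n + 1) := mul_mem hg hh
      refine F.gr_eq_zero (mul_mem (mul_mem h1 (inv_mem hg)) (inv_mem hh)) ?_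
      rw [commutatorElement_def, F.gr_mul hd (mul_mem h1 (inv_mem hg)) (inv_mem hh), F.gr_mul hd h1 (inv_mem hg),
        F.gr_mul hd hg hh, F.gr_inv hd hg, F.gr_inv hd hh]
      abel
  refine ⟨F.len + 1, (Subgroup.eq_bot_iff_forall _).2 fun g hg => Subtype.ext ?_⟩
  have h := (hstep F.len ⟨g, hg, rfl⟩).2
  exact Units.ext (sub_eq_zero.1 (F.E_len (Nat.le_succ _) h))

/-- Transporting the connectedness along a conjugation. -/
theorem isIrredFn_map_conj {S : Subgroup (GLk k N)} (hS : IsIrredFn (regAlg S)) (h₀ : GLk k N) :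
    IsIrredFn (regAlg (S.map (MulAut.conj h₀).toMonoidHom)) := by
  let e : S →* S.map (MulAut.conj h₀).toMonoidHom := (MulAut.conj h₀).toMonoidHom.subgroupMap S
  have he : Function.Surjective e := (MulAut.conj h₀).toMonoidHom.subgroupMap_surjective S
  have key : ∀ f ∈ regAlg (S.map (MulAut.conj h₀).toMonoidHom), f ∘ e ∈ regAlg S := by
    intro f hf
    let P : (↥(S.map (MulAut.conj h₀).toMonoidHom) → k) →ₐ[k] (S → k) :=
      Pi.algHom k (fun _ : S => k) fun s => Pi.evalAlgHom k (fun _ => k) (e s)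
    refine (show regAlg (S.map (MulAut.conj h₀).toMonoidHom) ≤ (regAlg S).comap P from ?_) hf
    rw [regAlg, Algebra.adjoin_le_iff]
    rintro _ ⟨x, rfl⟩
    obtain ⟨p, q⟩ | ⟨p, q⟩ := x
    · have := (mulVec_mem S ((LinearMap.proj p).comp (h₀ : Mat k N).mulVecLin)
        (((h₀⁻¹ : GLk k N) : Mat k N) *ᵥ Pi.single q 1)).1
      show _ ∈ regAlg S
      convert this using 1
      funext s
      show ((h₀ * s.1 * h₀⁻¹ : GLk k N) : Mat k N) p q = _
      simp only [LinearMap.comp_apply, LinearMap.proj_apply, Matrix.mulVecLin_apply, Matrix.mulVec_mulVec,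
        ← Units.val_mul, Matrix.mulVec_single_one, Matrix.col_apply, _root_.mul_inv_rev, _root_.inv_inv, mul_assoc]
      simp only [Units.val_mul, ← mul_assoc, InvMemClass.coe_inv]
      rfl
    · have := (mulVec_mem S ((LinearMap.proj p).comp (h₀ : Mat k N).mulVecLin)
        (((h₀⁻¹ : GLk k N) : Mat k N) *ᵥ Pi.single q 1)).2
      show _ ∈ regAlg S
      convert this using 1
      funext s
      show (((h₀ * s.1 * h₀⁻¹)⁻¹ : GLk k N) : Mat k N) p q = _
      simp only [LinearMap.comp_apply, LinearMap.proj_apply, Matrix.mulVecLin_apply, Matrix.mulVec_mulVec,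
        ← Units.val_mul, Matrix.mulVec_single_one, Matrix.col_apply, _root_.mul_inv_rev, _root_.inv_inv, mul_assoc]
      simp only [Units.val_mul, ← mul_assoc, InvMemClass.coe_inv]
      rfl
  intro f hf g hg hfg
  have hz : ∀ {x : ↥(S.map (MulAut.conj h₀).toMonoidHom) → k}, x ∘ e = 0 → x = 0 := fun {x} hx => funext fun s => by
    obtain ⟨s, rfl⟩ := he s
    exact congrFun hx s
  rcases hS _ (key f hf) _ (key g hg) (funext fun s => congrFun hfg (e s)) with h | h
  exacts [Or.inl (hz h), Or.inr (hz h)]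

variable [IsAlgClosed k]

/-- **Two connected solvable subgroups are conjugate into a common solvable closed subgroup.** -/
theorem exists_common_solvable (H : Subgroup (GLk k N)) (hH : IsZClosed (H : Set (GLk k N)))
    {S S' : Subgroup (GLk k N)} (hS : IsIrredFn (regAlg S)) (hS' : IsIrredFn (regAlg S'))
    [Group.IsSolvable S] [Group.IsSolvable S'] (hSH : S ≤ H) (hS'H : S' ≤ H) :
    ∃ (T : Subgroup (GLk k N)) (u : GLk k N), IsZClosed (T : Set (GLk k N)) ∧ T ≤ H ∧ Group.IsSolvable T ∧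
      S ≤ T ∧ u ∈ H ∧ ∀ g ∈ S', u * g * u⁻¹ ∈ T := by
  suffices key : ∀ I : Ideal (EPoly k N), ∀ H : Subgroup (GLk k N), vIdeal (H : Set (GLk k N)) = I →
      IsZClosed (H : Set (GLk k N)) → ∀ S' : Subgroup (GLk k N), IsIrredFn (regAlg S') → Group.IsSolvable S' →
      S ≤ H → S' ≤ H → ∃ (T : Subgroup (GLk k N)) (u : GLk k N), IsZClosed (T : Set (GLk k N)) ∧ T ≤ H ∧
        Group.IsSolvable T ∧ S ≤ T ∧ u ∈ H ∧ ∀ g ∈ S', u * g * u⁻¹ ∈ T from
    key _ H rfl hH S' hS' inferInstance hSH hS'H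
  intro I
  induction I using IsNoetherian.induction with
  | hgt I ih =>
  intro H hHI hH S' hS' hsol hSH hS'H
  suffices hflag : ∀ (W : Submodule k (Vec k N)) (Wc : ℕ → Submodule k (Vec k N)) (n : ℕ),
      Monotone Wc → Wc 0 = ⊥ → (∀ i, n ≤ i → Wc i = W) →
      (∀ h ∈ H, ∀ i, ∃ a : k, ∀ x ∈ Wc (i + 1), (h : Mat k N) *ᵥ x - a • x ∈ Wc i) →
      (∀ h ∈ H, Stab W h) → ∃ (T : Subgroup (GLk k N)) (u : GLk k N), IsZClosed (T : Set (GLk k N)) ∧ T ≤ H ∧
        Group.IsSolvable T ∧ S ≤ T ∧ u ∈ H ∧ ∀ g ∈ S', u * g * u⁻¹ ∈ T from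
    hflag ⊥ (fun _ => ⊥) 0 monotone_const rfl (fun _ _ => rfl)
      (fun h _ _ => ⟨1, fun x hx => by rw [Submodule.mem_bot] at hx ⊢; simp [hx]⟩)
      (fun h _ x hx => by rw [Submodule.mem_bot] at hx ⊢; simp [hx])
  intro W
  induction W using IsNoetherian.induction with
  | hgt W ihW =>
  intro Wc n hmono h0 htop hsc hW
  by_cases hWt : W = ⊤
  · exact ⟨H, 1, hH, le_rfl, isSolvable_of_flag ⟨Wc, n, hmono, h0, (htop n le_rfl).trans hWt, hsc⟩, hSH,
      H.one_mem, fun g hg => by simpa using hS'H hg⟩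
  obtain ⟨z, hz, h₀, hh₀, hSz, hS'z⟩ := exists_step_solvable hH hW hWt hS hS' hSH hS'H
  let W' := Submodule.span k {z} ⊔ W
  have hWW' : W < W' := lt_of_le_of_ne le_sup_right fun hh => hz (hh.ge (Submodule.mem_sup_left
    (Submodule.mem_span_singleton_self z)))
  by_cases hall : ∀ h ∈ H, Stab W' h
  · refine ihW W' hWW' (fun i => if i ≤ n then Wc i else W') (n + 1) ?_ (by simp [h0])
      (fun i hi => by rw [if_neg (by omega)]) (fun h hh i => ?_) hall
    · intro i j hij
      dsimp only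
      split_ifs with h1 h2
      · exact hmono hij
      · exact ((hmono h1).trans (htop n le_rfl).le).trans hWW'.le
      · omega
      · exact le_rfl
    · by_cases hi : i + 1 ≤ n
      · rw [if_pos hi, if_pos (by omega)]
        exact hsc h hh i
      rw [if_neg hi]
      by_cases hin : i ≤ n
      · rw [if_pos hin, show i = n by omega, htop n le_rfl]
        obtain ⟨x₁, hx₁, x₂, hx₂, hx⟩ := Submodule.mem_sup.mp
          (hall h hh z (Submodule.mem_sup_left (Submodule.mem_span_singleton_self z)))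
        obtain ⟨a, rfl⟩ := Submodule.mem_span_singleton.mp hx₁
        refine ⟨a, fun x hx' => ?_⟩
        obtain ⟨y₁, hy₁, y₂, hy₂, rfl⟩ := Submodule.mem_sup.mp hx'
        obtain ⟨b, rfl⟩ := Submodule.mem_span_singleton.mp hy₁
        rw [Matrix.mulVec_add, Matrix.mulVec_smul, ← hx, smul_add, smul_add,
          show b • a • z = a • b • z from smul_comm b a z]
        rw [show a • b • z + b • x₂ + (h : Mat k N) *ᵥ y₂ - (a • b • z + a • y₂) =
          b • x₂ + ((h : Mat k N) *ᵥ y₂ - a • y₂) by abel]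
        exact add_mem (W.smul_mem _ hx₂) (sub_mem (hW h hh _ hy₂) (W.smul_mem _ hy₂))
      · rw [if_neg hin]
        exact ⟨0, fun x hx => by simpa using hall h hh x hx⟩
  · push Not at hall
    obtain ⟨g, hg, hgW⟩ := hall
    let H' : Subgroup (GLk k N) := H ⊓ stabSub W'
    have hlt : vIdeal (H : Set (GLk k N)) < vIdeal (H' : Set (GLk k N)) :=
      vIdeal_lt (isZClosed_inter hH (isZClosed_stabSub W'))
        ⟨Set.inter_subset_left, fun hsub => hgW (hsub hg).2⟩
    haveI := hsol
    obtain ⟨T, u, hT, hTH, hTs, hST, hu, hu'⟩ := ih _ (hHI ▸ hlt) H' rfl (isZClosed_inter hH (isZClosed_stabSub W'))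
      (S'.map (MulAut.conj h₀).toMonoidHom) (isIrredFn_map_conj hS' h₀)
      (Group.isSolvable_of_surjective ((MulAut.conj h₀).toMonoidHom.subgroupMap_surjective S'))
      (fun x hx => ⟨hSH hx, hSz x hx⟩)
      (by
        rintro _ ⟨x, hx, rfl⟩
        exact ⟨H.mul_mem (H.mul_mem hh₀ (hS'H hx)) (H.inv_mem hh₀), hS'z x hx⟩)
    refine ⟨T, u * h₀, hT, hTH.trans inf_le_left, hTs, hST, H.mul_mem hu.1 hh₀, fun x hx => ?_⟩
    have := hu' _ ⟨x, hx, rfl⟩
    rwa [show u * h₀ * x * (u * h₀)⁻¹ = u * (MulAut.conj h₀).toMonoidHom x * u⁻¹ by simp <;> group]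

end H20Borel
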