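import Groth.Agent.H20Borel.PointsSub
import Groth.Agent.H20Borel.FlagSolv

/-!
# Connectedness of groups of points: generation, images
-/

set_option autoImplicit false
set_option linter.style.haveILetI false
set_option backward.isDefEq.respectTransparency false

universe u

open CategoryTheory CategoryTheory.Limits MonoidalCategory CartesianMonoidalCategory MonObj AlgebraicGeometry
open Groth.Agent.H27Witt H20Mu H20Conj

noncomputable section

namespace H20Borel

variable {k : Type u} [Field k]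

local notation "Pt" X => 𝟙_ (Over (Sk k)) ⟶ X

variable {G : Over (Sk k)} [GrpObj G]

theorem mem_or_mem_of_prime {A : Set (Pt G)} (hA : (vanish A).IsPrime) {a b : Fn G}
    (h : ∀ g ∈ A, val g a = 0 ∨ val g b = 0) : (∀ g ∈ A, val g a = 0) ∨ ∀ g ∈ A, val g b = 0 := by
  have : a * b ∈ vanish A := mem_vanish.mpr fun g hg => by rw [map_mul, mul_eq_zero]; exact h g hg
  exact (hA.mem_or_mem this).imp mem_vanish.mp mem_vanish.mp

theorem isPrime_mul {A C : Set (Pt G)} (hA : (vanish A).IsPrime) (hC : (vanish C).IsPrime)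
    (hA0 : A.Nonempty) (hC0 : C.Nonempty) : (vanish (Set.image2 (· * ·) A C)).IsPrime := by
  refine ⟨fun h => ?_, fun {a b} hab => ?_⟩
  · obtain ⟨x, hx⟩ := hA0; obtain ⟨y, hy⟩ := hC0
    have := mem_vanish.mp (h ▸ Submodule.mem_top : (1 : Fn G) ∈ vanish (Set.image2 (· * ·) A C)) _ ⟨x, hx, y, hy, rfl⟩
    simp at this
  by_contra hcon
  rw [not_or, mem_vanish, mem_vanish] at hcon
  push Not at hcon
  obtain ⟨⟨_, ⟨x₁, hx₁, y₁, hy₁, rfl⟩, ha⟩, ⟨_, ⟨x₂, hx₂, y₂, hy₂, rfl⟩, hb⟩⟩ := hcon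
  have h1 : ∀ x ∈ A, val x (Fn.pull (rg G y₁) a) = 0 ∨ val x (Fn.pull (rg G y₂) b) = 0 := by
    intro x hx
    have h2 : ∀ y ∈ C, val y (Fn.pull (lg G x) a) = 0 ∨ val y (Fn.pull (lg G x) b) = 0 := fun y hy => by
      rw [val_pull, val_pull, comp_lg, ← mul_eq_zero, ← map_mul]
      exact mem_vanish.mp hab _ ⟨x, hx, y, hy, rfl⟩
    rw [val_pull, val_pull, comp_rg, comp_rg]
    refine (mem_or_mem_of_prime hC h2).imp (fun h => ?_) (fun h => ?_)
    · simpa only [val_pull, comp_lg] using h y₁ hy₁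
    · simpa only [val_pull, comp_lg] using h y₂ hy₂
  rcases mem_or_mem_of_prime hA h1 with h | h
  · exact ha (by simpa only [val_pull, comp_rg] using h x₁ hx₁)
  · exact hb (by simpa only [val_pull, comp_rg] using h x₂ hx₂)

/-- The group generated by two connected groups of points is connected. -/
theorem isPrime_sup {A C : Subgroup (Pt G)} (hA : (vanish (A : Set (Pt G))).IsPrime)
    (hC : (vanish (C : Set (Pt G))).IsPrime) :
    (vanish ((Subgroup.closure ((A : Set (Pt G)) ∪ C) : Subgroup (Pt G)) : Set (Pt G))).IsPrime := by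
  let D : Set (Pt G) := Set.image2 (· * ·) (A : Set (Pt G)) C
  let P : ℕ → Set (Pt G) := fun n => Nat.rec (A : Set (Pt G)) (fun _ Q => Set.image2 (· * ·) D Q) n
  have h1D : (1 : Pt G) ∈ D := ⟨1, A.one_mem, 1, C.one_mem, one_mul 1⟩
  have hPne : ∀ n, (1 : Pt G) ∈ P n := fun n => by
    induction n with
    | zero => exact A.one_mem
    | succ n ih => exact ⟨1, h1D, 1, ih, one_mul 1⟩
  have hprime : ∀ n, (vanish (P n)).IsPrime := fun n => by
    induction n with
    | zero => exact hA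
    | succ n ih => exact isPrime_mul (isPrime_mul hA hC ⟨1, A.one_mem⟩ ⟨1, C.one_mem⟩) ih ⟨1, h1D⟩ ⟨1, hPne n⟩
  have hmono : Monotone P := monotone_nat_of_le_succ fun n x hx => ⟨1, h1D, x, hx, one_mul x⟩
  have hle : ∀ n, P n ⊆ (Subgroup.closure ((A : Set (Pt G)) ∪ C) : Subgroup (Pt G)) := fun n => by
    induction n with
    | zero => exact fun x hx => Subgroup.subset_closure (Or.inl hx)
    | succ n ih =>
      rintro _ ⟨_, ⟨a, ha, c, hc, rfl⟩, y, hy, rfl⟩
      exact mul_mem (mul_mem (Subgroup.subset_closure (Or.inl ha)) (Subgroup.subset_closure (Or.inr hc))) (ih hy)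
  have hex : ∀ g ∈ Subgroup.closure ((A : Set (Pt G)) ∪ C), ∃ n, g ∈ P n := by
    intro g hg
    have step : ∀ x, x ∈ (A : Set (Pt G)) ∪ C → ∀ y, (∃ n, y ∈ P n) → ∃ n, x * y ∈ P n := by
      rintro x hx y ⟨n, hy⟩
      refine ⟨n + 1, x, ?_, y, hy, rfl⟩
      rcases hx with h | h
      · exact ⟨x, h, 1, C.one_mem, mul_one x⟩
      · exact ⟨1, A.one_mem, x, h, one_mul x⟩
    induction hg using Subgroup.closure_induction_left with
    | one => exact ⟨0, A.one_mem⟩
    | mul_left x hx y _ ih => exact step x hx y ih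
    | inv_mul_cancel x hx y _ ih => exact step x⁻¹ (hx.imp A.inv_mem C.inv_mem) y ih
  refine ⟨fun h => ?_, fun {a b} hab => ?_⟩
  · have := mem_vanish.mp ((h ▸ Submodule.mem_top) : (1 : Fn G) ∈ vanish _) 1 (hle 0 A.one_mem)
    simp at this
  by_contra hcon
  rw [not_or, mem_vanish, mem_vanish] at hcon
  push Not at hcon
  obtain ⟨⟨x, hx, ha⟩, ⟨y, hy, hb⟩⟩ := hcon
  obtain ⟨n, hn⟩ := hex x hx
  obtain ⟨m, hm⟩ := hex y hy
  rcases (hprime (max n m)).mem_or_mem (x := a) (y := b)
    (mem_vanish.mpr fun g hg => mem_vanish.mp hab g (hle _ hg)) with h | h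
  · exact ha (mem_vanish.mp h x (hmono (le_max_left n m) hn))
  · exact hb (mem_vanish.mp h y (hmono (le_max_right n m) hm))

variable [IsAlgClosed k] {B : Over (Sk k)} [GrpObj B] [IsAffine B.left] [Smooth B.hom] [ConnectedSpace B.left]
  (f : B ⟶ G) [IsMonHom f]

/-- The group of points of the image. -/
def postHom : (Pt B) →* (Pt G) :=
  MonoidHom.mk' (fun x => x ≫ f) fun a b => MonObj.mul_comp a b f

/-- The image of a connected group is connected. -/
theorem isPrime_range : (vanish ((postHom f).range : Set (Pt G))).IsPrime := by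
  haveI := Fn.isDomain B
  convert RingHom.ker_isPrime (Fn.pull f : Fn G →ₐ[k] Fn B)
  ext a
  rw [mem_vanish, RingHom.mem_ker]
  refine ⟨fun h => Fn.ext_points fun x => ?_, fun h => ?_⟩
  · show val x (Fn.pull f a) = val x 0
    rw [val_pull, map_zero]
    exact h _ ⟨x, rfl⟩
  · rintro _ ⟨x, rfl⟩
    show val (x ≫ f) a = 0
    rw [← val_pull, h, map_zero]

/-- The image of a connected group in `GL_N` is connected. -/
theorem isIrredFn_range {N : ℕ} (φ : (Pt G) →* GLk k N) (F : Fin N → Fin N → Fn G)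
    (hF : ∀ g p q, (φ g : Mat k N) p q = val g (F p q)) :
    IsIrredFn (regAlg (φ.comp (postHom f)).range) := by
  haveI := Fn.isDomain B
  let S := (φ.comp (postHom f)).range
  let q : (Pt B) → S := fun x => ⟨φ (x ≫ f), x, rfl⟩
  have hq : Function.Surjective q := fun ⟨_, x, hx⟩ => ⟨x, Subtype.ext hx⟩
  let Φ : Fn B →ₐ[k] ((Pt B) → k) := Pi.algHom k (fun _ : Pt B => k) fun x => val x
  let Q : (S → k) →ₐ[k] ((Pt B) → k) := Pi.algHom k (fun _ : Pt B => k) fun x => Pi.evalAlgHom k (fun _ => k) (q x)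
  have hle : regAlg S ≤ Φ.range.comap Q := by
    rw [regAlg, Algebra.adjoin_le_iff]
    rintro _ ⟨⟨a, b⟩ | ⟨a, b⟩, rfl⟩
    · refine ⟨Fn.pull f (F a b), funext fun x => ?_⟩
      show val x (Fn.pull f (F a b)) = (φ (x ≫ f) : Mat k N) a b
      rw [hF, val_pull]
    · refine ⟨Fn.pull ((𝟙 B)⁻¹ : B ⟶ B) (Fn.pull f (F a b)), funext fun x => ?_⟩
      show val x (Fn.pull _ (Fn.pull f (F a b))) = (((φ (x ≫ f))⁻¹ : GLk k N) : Mat k N) a b
      rw [val_pull, val_pull, GrpObj.comp_inv, Category.comp_id, ← map_inv, hF]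
      exact congrArg (fun y => val y (F a b)) (map_inv (postHom f) x)
  have hΦ : Function.Injective Φ := fun a b h => Fn.ext_points fun x => congrFun h x
  have hQ : Function.Injective Q := fun a b h => funext fun s => by
    obtain ⟨x, rfl⟩ := hq s
    exact congrFun h x
  intro a ha b hb hab
  obtain ⟨a', ha'⟩ := hle ha
  obtain ⟨b', hb'⟩ := hle hb
  have : a' * b' = 0 := hΦ (by
    rw [map_mul, map_zero]
    exact (congrArg₂ (· * ·) ha' hb').trans ((map_mul Q a b).symm.trans (by rw [hab, map_zero])))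
  rcases mul_eq_zero.mp this with h | h
  · exact Or.inl (hQ (by rw [map_zero, ← map_zero Φ, ← h]; exact ha'.symm))
  · exact Or.inr (hQ (by rw [map_zero, ← map_zero Φ, ← h]; exact hb'.symm))

end H20Borel
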