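import Groth.Agent.H20Borel.FixSolvable

/-!
# The Borel fixed point theorem: reduction to commutator-fixed points
-/

set_option autoImplicit false
set_option linter.style.haveILetI false
set_option backward.isDefEq.respectTransparency false
set_option maxHeartbeats 1000000
set_option synthInstance.maxHeartbeats 100000

universe u

open CategoryTheory CategoryTheory.Limits MonoidalCategory CartesianMonoidalCategory MonObj AlgebraicGeometry
open Groth.Agent.H27Witt H20Mu
open scoped commutatorElement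

noncomputable section

namespace H20Borel

variable {k : Type u} [Field k] [IsAlgClosed k]

local notation "Pt" X => 𝟙_ (Over (Sk k)) ⟶ X

variable {G X : Over (Sk k)} [GrpObj G] [IsAffine G.left] [Smooth G.hom] [IsProper X.hom]
  (a : AlgGrp.Action G X)

/-- A boundary point in the orbit closure with a smaller orbit. -/
theorem exists_boundary (x : Pt X) (h : ¬ IsClosed (Set.range (a.orbitMap x).left.base)) :
    ∃ y : Pt X, y.left (IsLocalRing.closedPoint k) ∈ closure (Set.range (a.orbitMap x).left.base) ∧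
      topologicalKrullDim (Set.range (a.orbitMap y).left.base) <
        topologicalKrullDim (Set.range (a.orbitMap x).left.base) := by
  haveI : UniversallyOpen G.hom := inferInstance
  haveI : QuasiCompact X.hom := inferInstance
  haveI : QuasiCompact G.hom := inferInstance
  set O := Set.range (a.orbitMap x).left.base with hO
  have hinv : NRQuot.IsInvariantSet a O := Groth.Agent.H19Grp.isInvariantSet_range_orbitMap x
  have hcinv := Groth.Agent.H19Grp.isInvariantSet_closure hinv
  haveI : CompactSpace X.left := QuasiCompact.compactSpace_of_compactSpace X.hom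
  have hBc : IsClosed (closure O \ O) :=
    by simpa [coborder] using (Groth.Agent.S7984.result k G X a x).isOpen_coborder.isClosed_compl
  have hBne : (closure O \ O).Nonempty := by
    by_contra h0
    exact h (closure_subset_iff_isClosed.1 (Set.sdiff_eq_empty.1 (Set.not_nonempty_iff_eq_empty.1 h0)))
  obtain ⟨p, hp, hpc⟩ := hBc.exists_closed_singleton hBne
  let y : Pt X := Over.homMk (pointOfClosedPoint X.hom p hpc) (pointOfClosedPoint_comp _ _ _)
  refine ⟨y, ?_, ?_⟩
  · rw [show y.left (IsLocalRing.closedPoint k) = p from pointOfClosedPoint_apply _ _ _ _]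
    exact hp.1
  have hsub : Set.range (a.orbitMap y).left.base ⊆ closure O \ O := by
    rintro _ ⟨g, rfl⟩
    let w : (G ⊗ X).left := (lift (𝟙 G) (toUnit G ≫ y)).left g
    have hw : (snd G X).left w = p := by
      rw [← Scheme.Hom.comp_apply, ← Over.comp_left, lift_snd, Over.comp_left, Scheme.Hom.comp_apply]
      exact pointOfClosedPoint_apply _ _ _ _
    refine ⟨hcinv w (show (snd G X).left w ∈ closure O from hw ▸ hp.1), fun hmem => hp.2 ?_⟩
    let e : G ⊗ X ⟶ G ⊗ X := lift (fst G X)⁻¹ a.act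
    have he : e ≫ a.act = snd G X := by
      show lift (fst G X)⁻¹ a.act ≫ a.act = _
      have h1 : a.act = lift (fst G X) (snd G X) ≫ a.act := by rw [lift_fst_snd, Category.id_comp]
      nth_rewrite 1 [h1]
      rw [← Groth.Agent.H19Grp.act_mul, inv_mul_cancel, Groth.Agent.H19Grp.act_one]
    have h2 := hinv (e.left w) (show (snd G X).left (e.left w) ∈ O by
      rw [← Scheme.Hom.comp_apply, ← Over.comp_left, lift_snd]
      exact hmem)
    rw [← Scheme.Hom.comp_apply, ← Over.comp_left, he, hw] at h2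
    exact h2
  obtain ⟨Z, z, hz, -, hZc, -, hzr, hzd⟩ := Groth.Agent.H19Quot.exists_orbit a x
  obtain ⟨Z', z', hz', -, hZc', hZn', hzr', hzd'⟩ := Groth.Agent.H19Quot.exists_orbit a y
  rw [← hzd, ← hzd']
  exact Groth.Agent.H19Quot.dim_lt_of_boundary X.hom z.left z'.left (by rw [hzr, hzr']; exact hsub)

/-- The points fixed by a normal group of points are closed and stable. -/
theorem le_stab_of_mem_closure {C : Subgroup (Pt G)} [C.Normal] {x y : Pt X} (hx : C ≤ stab a x)
    (hy : y.left (IsLocalRing.closedPoint k) ∈ closure (Set.range (a.orbitMap x).left.base)) :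
    C ≤ stab a y := by
  intro c hc
  haveI : LocallyOfFiniteType G.hom := inferInstance
  let α : X ⟶ X := lift (toUnit X ≫ c) (𝟙 X) ≫ a.act
  have hα : ∀ z : Pt X, z ≫ α = lift c z ≫ a.act := fun z => by
    rw [comp_lift_assoc, Category.comp_id, ← Category.assoc, comp_toUnit,
      toUnit_unique (toUnit (𝟙_ (Over (Sk k)))) (𝟙 _), Category.id_comp]
  have horb : a.orbitMap x ≫ α = a.orbitMap x := by
    refine hom_ext_pts fun g => ?_
    rw [← Category.assoc]
    show ((g : Pt G) ≫ a.orbitMap x) ≫ α = (g : Pt G) ≫ a.orbitMap x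
    rw [pt_orbitMap, hα]
    have h := hx ((inferInstance : C.Normal).conj_mem c hc (g : Pt G)⁻¹)
    rw [mem_stab, Fixes, inv_inv] at h
    conv_rhs => rw [← h]
    rw [← mul_act', ← mul_act']
    congr 2
    group
  let E : Over (Sk k) := equalizer α (𝟙 X)
  let eι : E ⟶ X := equalizer.ι α (𝟙 X)
  haveI : IsClosedImmersion eι.left := inferInstance
  have hle : closure (Set.range (a.orbitMap x).left.base) ⊆ Set.range eι.left.base := by
    refine closure_minimal ?_ eι.left.isClosedEmbedding.isClosed_range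
    rintro _ ⟨p, rfl⟩
    let l : G ⟶ E := equalizer.lift (a.orbitMap x) (by rw [horb, Category.comp_id])
    refine ⟨l.left p, ?_⟩
    rw [← Scheme.Hom.comp_apply, ← Over.comp_left, equalizer.lift_ι]
  haveI : AlgebraicGeometry.IsReduced (𝟙_ (Over (Sk k))).left :=
    inferInstanceAs (AlgebraicGeometry.IsReduced (Spec (CommRingCat.of k)))
  obtain ⟨y₁, hy₁⟩ := Groth.Agent.H17.exists_lift_immersion_of_range_subset y.left eι.left (by
    rintro _ ⟨p, rfl⟩
    rw [Subsingleton.elim (α := PrimeSpectrum k) p (IsLocalRing.closedPoint k)]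
    exact hle hy)
  let y₀ : Pt E := Over.homMk y₁ (by rw [← Over.w eι, ← Category.assoc, hy₁, Over.w])
  have hy₀ : y₀ ≫ eι = y := Over.OverMorphism.ext hy₁
  show Fixes a c y
  rw [Fixes, ← hα, ← hy₀, Category.assoc, equalizer.condition, Category.comp_id]

variable [ConnectedSpace G.left]

/-- Borel fixed points for a group whose commutators fix a point. -/
theorem exists_fixed_of_commutator (x₀ : Pt X) (h₀ : commutator (Pt G) ≤ stab a x₀) :
    ∃ x : Pt X, ∀ g : Pt G, Fixes a g x := by
  let S := {x : Pt X // commutator (Pt G) ≤ stab a x}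
  haveI : Nonempty S := ⟨⟨x₀, h₀⟩⟩
  let f : S → WithBot ℕ∞ := fun x => topologicalKrullDim (Set.range (a.orbitMap x.1).left.base)
  let m := Function.argmin f
  refine ⟨m.1, fixes_of_isClosed_orbit a m.1 m.2 ?_⟩
  by_contra h
  obtain ⟨y, hy, hlt⟩ := exists_boundary a m.1 h
  exact Function.not_lt_argmin f ⟨y, le_stab_of_mem_closure a m.2 hy⟩ hlt

omit [ConnectedSpace G.left] in
/-- Connectedness of the commutator group. -/
theorem isPrime_commutator {R : Subgroup (Pt G)} (hR : (vanish (R : Set (Pt G))).IsPrime) :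
    (vanish ((⁅R, R⁆ : Subgroup (Pt G)) : Set (Pt G))).IsPrime := by
  haveI : LocallyOfFiniteType G.hom := inferInstance
  let S : Set (Pt G) := Set.image2 (fun p q => ⁅p, q⁆) (R : Set (Pt G)) R
  have h1S : (1 : Pt G) ∈ S := ⟨1, R.one_mem, 1, R.one_mem, commutatorElement_one_right 1⟩
  have hSinv : ∀ s ∈ S, s⁻¹ ∈ S := by
    rintro _ ⟨p, hp, q, hq, rfl⟩
    exact ⟨q, hq, p, hp, (commutatorElement_inv p q).symm⟩
  let cm : (Pt G) → (G ⟶ G) := fun q => 𝟙 G * (toUnit G ≫ q) * (𝟙 G)⁻¹ * (toUnit G ≫ q⁻¹)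
  let cn : (Pt G) → (G ⟶ G) := fun p => (toUnit G ≫ p) * 𝟙 G * (toUnit G ≫ p⁻¹) * (𝟙 G)⁻¹
  have hcm : ∀ p q : Pt G, p ≫ cm q = ⁅p, q⁆ := fun p q => by
    simp only [cm, MonObj.comp_mul, GrpObj.comp_inv, Category.comp_id, ← Category.assoc,
      toUnit_unique (p ≫ toUnit G) (𝟙 _), Category.id_comp, commutatorElement_def]
  have hcn : ∀ p q : Pt G, q ≫ cn p = ⁅p, q⁆ := fun p q => by
    simp only [cn, MonObj.comp_mul, GrpObj.comp_inv, Category.comp_id, ← Category.assoc,
      toUnit_unique (q ≫ toUnit G) (𝟙 _), Category.id_comp, commutatorElement_def]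
  have hS : (vanish S).IsPrime := by
    refine ⟨fun h => ?_, fun {u v} huv => ?_⟩
    · have := mem_vanish.mp (h ▸ Submodule.mem_top : (1 : Fn G) ∈ vanish S) 1 h1S
      simp at this
    by_contra hcon
    rw [not_or, mem_vanish, mem_vanish] at hcon
    push Not at hcon
    obtain ⟨⟨_, ⟨p₁, hp₁, q₁, hq₁, rfl⟩, hu⟩, ⟨_, ⟨p₂, hp₂, q₂, hq₂, rfl⟩, hv⟩⟩ := hcon
    have h1 : ∀ p ∈ (R : Set (Pt G)), val p (Fn.pull (cm q₁) u) = 0 ∨ val p (Fn.pull (cm q₂) v) = 0 := by
      intro p hp
      have h2 : ∀ q ∈ (R : Set (Pt G)), val q (Fn.pull (cn p) u) = 0 ∨ val q (Fn.pull (cn p) v) = 0 := fun q hq => by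
        rw [val_pull, val_pull, hcn, ← mul_eq_zero, ← map_mul]
        exact mem_vanish.mp huv _ ⟨p, hp, q, hq, rfl⟩
      rw [val_pull, val_pull, hcm, hcm]
      refine (mem_or_mem_of_prime hR h2).imp (fun h => ?_) (fun h => ?_)
      · simpa only [val_pull, hcn] using h q₁ hq₁
      · simpa only [val_pull, hcn] using h q₂ hq₂
    rcases mem_or_mem_of_prime hR h1 with h | h
    · exact hu (by simpa only [val_pull, hcm] using h p₁ hp₁)
    · exact hv (by simpa only [val_pull, hcm] using h p₂ hp₂)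
  let P : ℕ → Set (Pt G) := fun n => Nat.rec S (fun _ Q => Set.image2 (· * ·) S Q) n
  have hP1 : ∀ n, (1 : Pt G) ∈ P n := fun n => by
    induction n with
    | zero => exact h1S
    | succ n ih => exact ⟨1, h1S, 1, ih, one_mul 1⟩
  have hprime : ∀ n, (vanish (P n)).IsPrime := fun n => by
    induction n with
    | zero => exact hS
    | succ n ih => exact isPrime_mul hS ih ⟨1, h1S⟩ ⟨1, hP1 n⟩
  have hmono : Monotone P := monotone_nat_of_le_succ fun n x hx => ⟨1, h1S, x, hx, one_mul x⟩
  have hSle : S ⊆ (⁅R, R⁆ : Subgroup (Pt G)) := by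
    rintro _ ⟨p, hp, q, hq, rfl⟩
    exact Subgroup.commutator_mem_commutator hp hq
  have hle : ∀ n, P n ⊆ (⁅R, R⁆ : Subgroup (Pt G)) := fun n => by
    induction n with
    | zero => exact hSle
    | succ n ih =>
      rintro _ ⟨s, hs, y, hy, rfl⟩
      exact mul_mem (hSle hs) (ih hy)
  have hex : ∀ g ∈ (⁅R, R⁆ : Subgroup (Pt G)), ∃ n, g ∈ P n := by
    intro g hg
    rw [Subgroup.commutator_def] at hg
    induction hg using Subgroup.closure_induction_left with
    | one => exact ⟨0, h1S⟩
    | mul_left x hx y _ ih =>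
      obtain ⟨n, hn⟩ := ih
      obtain ⟨p, hp, q, hq, rfl⟩ := hx
      exact ⟨n + 1, _, ⟨p, hp, q, hq, rfl⟩, y, hn, rfl⟩
    | inv_mul_cancel x hx y _ ih =>
      obtain ⟨n, hn⟩ := ih
      obtain ⟨p, hp, q, hq, rfl⟩ := hx
      exact ⟨n + 1, _, hSinv _ ⟨p, hp, q, hq, rfl⟩, y, hn, rfl⟩
  refine ⟨fun h => ?_, fun {u v} huv => ?_⟩
  · have := mem_vanish.mp ((h ▸ Submodule.mem_top) : (1 : Fn G) ∈ vanish _) 1 (hle 0 h1S)
    simp at this
  by_contra hcon
  rw [not_or, mem_vanish, mem_vanish] at hcon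
  push Not at hcon
  obtain ⟨⟨x, hx, hu⟩, ⟨y, hy, hv⟩⟩ := hcon
  obtain ⟨n, hn⟩ := hex x hx
  obtain ⟨m, hm⟩ := hex y hy
  rcases (hprime (max n m)).mem_or_mem (x := u) (y := v)
    (mem_vanish.mpr fun g hg => mem_vanish.mp huv g (hle _ hg)) with h | h
  · exact hu (mem_vanish.mp h x (hmono (le_max_left n m) hn))
  · exact hv (mem_vanish.mp h y (hmono (le_max_right n m) hm))

omit [ConnectedSpace G.left] in
/-- Commutators of the closure lie in the closure of the commutators, as far as fixed points go. -/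
theorem commutator_clo_fixes {R : Subgroup (Pt G)} {y : Pt X} (h : ⁅R, R⁆ ≤ stab a y) :
    ⁅clo R, clo R⁆ ≤ stab a y := by
  haveI : LocallyOfFiniteType G.hom := inferInstance
  have step : ∀ (S : Subgroup (Pt G)) (φ : G ⟶ G), (∀ p ∈ R, p ≫ φ ∈ S) → S ≤ stab a y →
      ∀ p ∈ clo R, Fixes a (p ≫ φ) y := by
    intro S φ hφ hS p hp
    obtain ⟨I, hI⟩ := exists_ideal (φ ≫ a.orbitMap y) y
    rw [Fixes, ← pt_orbitMap, Category.assoc, hI]
    exact fun r hr => mem_clo.mp hp r (mem_vanish.mpr fun q hq => (hI q).mp (by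
      rw [← Category.assoc, pt_orbitMap]; exact hS (hφ q hq)) r hr)
  rw [Subgroup.commutator_le]
  intro p hp q hq
  let cm : G ⟶ G := 𝟙 G * (toUnit G ≫ q) * (𝟙 G)⁻¹ * (toUnit G ≫ q⁻¹)
  have hcm : ∀ p' : Pt G, p' ≫ cm = ⁅p', q⁆ := fun p' => by
    simp only [cm, MonObj.comp_mul, GrpObj.comp_inv, Category.comp_id, ← Category.assoc,
      toUnit_unique (p' ≫ toUnit G) (𝟙 _), Category.id_comp, commutatorElement_def]
  refine hcm p ▸ step (stab a y) cm (fun p' hp' => ?_) le_rfl p hp
  rw [hcm]
  let cn : G ⟶ G := (toUnit G ≫ p') * 𝟙 G * (toUnit G ≫ p'⁻¹) * (𝟙 G)⁻¹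
  have hcn : ∀ q' : Pt G, q' ≫ cn = ⁅p', q'⁆ := fun q' => by
    simp only [cn, MonObj.comp_mul, GrpObj.comp_inv, Category.comp_id, ← Category.assoc,
      toUnit_unique (q' ≫ toUnit G) (𝟙 _), Category.id_comp, commutatorElement_def]
  exact hcn q ▸ step (stab a y) cn (fun q' hq' => by
    rw [hcn]; exact h (Subgroup.commutator_mem_commutator hp' hq')) le_rfl q hq

omit [ConnectedSpace G.left] in
/-- Induction on the derived length. -/
theorem exists_fixed_of_derived [hsol : Group.IsSolvable (Pt G)] (x₀ : Pt X) :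
    ∀ (n : ℕ) (R : Subgroup (Pt G)), (vanish (R : Set (Pt G))).IsPrime →
      (∃ l, R = derivedSeries (Pt G) l ∧ derivedSeries (Pt G) (l + n) = ⊥) → ∃ x : Pt X, R ≤ stab a x := by
  haveI : LocallyOfFiniteType G.hom := inferInstance
  intro n
  induction n with
  | zero =>
    rintro R - ⟨l, rfl, hl⟩
    exact ⟨x₀, by rw [show derivedSeries (Pt G) l = ⊥ from hl]; exact bot_le⟩
  | succ n ih =>
    rintro R hR ⟨l, rfl, hl⟩
    obtain ⟨y, hy⟩ := ih ⁅derivedSeries (Pt G) l, derivedSeries (Pt G) l⁆ (isPrime_commutator hR)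
      ⟨l + 1, rfl, by rw [← hl]; congr 1; omega⟩
    obtain ⟨H, gH, i, hi, hicl, hHaff, hHsm, hHconn, -, hHclo, hlift⟩ :=
      exists_subgroup_scheme (derivedSeries (Pt G) l) hR inferInstance
    letI := gH
    haveI := hi; haveI := hicl; haveI := hHaff; haveI := hHsm; haveI := hHconn
    haveI : Mono i := Over.mono_of_mono_left _
    let b : AlgGrp.Action H X :=
      { act := (i ▷ X) ≫ a.act
        one_act := by rw [← comp_whiskerRight_assoc, IsMonHom.one_hom, a.one_act]
        mul_act := by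
          have h := mul_act' a (fst (H ⊗ H) X ≫ fst H H ≫ i) (fst (H ⊗ H) X ≫ snd H H ≫ i) (snd (H ⊗ H) X)
          rw [← comp_whiskerRight_assoc, IsMonHom.mul_hom, comp_whiskerRight_assoc]
          refine Eq.trans ?_ (h.trans ?_)
          · rw [Hom.mul_def, ← Category.assoc]
            congr 1
            apply CartesianMonoidalCategory.hom_ext <;> simp
            rw [← Category.assoc]
            congr 1
            apply CartesianMonoidalCategory.hom_ext <;> simp
          · simp only [← Category.assoc]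
            congr 1
            apply CartesianMonoidalCategory.hom_ext <;> simp
            simp only [← Category.assoc]
            congr 1
            apply CartesianMonoidalCategory.hom_ext <;> simp }
    have hb : ∀ (p : Pt H) (z : Pt X), lift p z ≫ b.act = lift (p ≫ i) z ≫ a.act := fun p z => by
      show lift p z ≫ (i ▷ X) ≫ a.act = _
      rw [lift_whiskerRight_assoc]
    obtain ⟨x, hx⟩ := exists_fixed_of_commutator b y (by
      rw [commutator_def, Subgroup.commutator_le]
      intro p _ q _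
      rw [mem_stab, Fixes, hb]
      have e : ⁅p, q⁆ ≫ i = ⁅p ≫ i, q ≫ i⁆ := by
        simp only [commutatorElement_def, MonObj.mul_comp, GrpObj.inv_comp]
      rw [e]
      exact commutator_clo_fixes a hy (Subgroup.commutator_mem_commutator (hHclo p) (hHclo q)))
    refine ⟨x, fun g hg => ?_⟩
    haveI : AlgebraicGeometry.IsReduced (𝟙_ (Over (Sk k))).left :=
      inferInstanceAs (AlgebraicGeometry.IsReduced (Spec (CommRingCat.of k)))
    haveI : IsAffine (𝟙_ (Over (Sk k))).left := inferInstanceAs (IsAffine (Spec (CommRingCat.of k)))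
    haveI : LocallyOfFiniteType (𝟙_ (Over (Sk k))).hom := inferInstanceAs (LocallyOfFiniteType (𝟙 (Sk k)))
    obtain ⟨p, hp⟩ := hlift g fun z => by
      rw [toUnit_unique z (𝟙 _), Category.id_comp]
      exact fun r hr => mem_vanish.mp hr g hg
    rw [mem_stab, Fixes, ← hp, ← hb]
    exact hx p

end H20Borel
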