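import Groth.Agent.H20Torus.Scheme
import Groth.Agent.H20Semi.Points
import Groth.Agent.S7986

/-!
# The rational points of a connected group without subtorus form a nilpotent group
-/

set_option autoImplicit false
set_option linter.style.haveILetI false
set_option backward.isDefEq.respectTransparency false

universe u

open CategoryTheory MonoidalCategory CartesianMonoidalCategory MonObj AlgebraicGeometry
open Groth.Agent Groth.Agent.H27Witt

noncomputable section

namespace H20Borel

theorem isSolvable_pts_of_hasNoSubtorus {k : Type u} [Field k] [IsAlgClosed k] (U : Over (Sk k)) [GrpObj U]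
    [IsAffine U.left] [ConnectedSpace ↥U.left] [Smooth U.hom] (hU : Red.HasNoSubtorus k U) :
    Group.IsSolvable (𝟙_ (Over (Sk k)) ⟶ U) := by
  obtain ⟨B, _, _, hft, -, hB, ⟨e⟩⟩ := Groth.Agent.H20Torus.exists_isUnipotent_model U hU
  haveI := hft
  let e' : U ≅ H21Hom.specGrp k B := (Grp.forget _).mapIso e
  haveI : IsMonHom e'.hom := e.hom.hom.isMonHom_hom
  let i : (Spec (CommRingCat.of k)).asOver (Spec (CommRingCat.of k)) ⟶ 𝟙_ (Over (Sk k)) := toUnit _
  haveI : IsIso i.left := by
    have h : i.left ≫ (𝟙_ (Over (Sk k))).hom = ((Spec (CommRingCat.of k)).asOver (Spec (CommRingCat.of k))).hom := Over.w i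
    have h1 : ((Spec (CommRingCat.of k)).asOver (Spec (CommRingCat.of k))).hom = 𝟙 _ := by
      show Spec.map (CommRingCat.ofHom (algebraMap k k)) = _
      rw [Algebra.algebraMap_self, CommRingCat.ofHom_id]
      exact Spec.map_id _
    rw [h1, show (𝟙_ (Over (Sk k))).hom = 𝟙 _ from rfl, Category.comp_id] at h
    rw [h]
    infer_instance
  haveI : IsIso i := H21Diag.isIso_of_left i
  let ψ : (𝟙_ (Over (Sk k)) ⟶ U) →* WithConv (B →ₐ[k] k) :=
    { toFun := fun z => Spec.mapMulEquiv.symm (i ≫ z ≫ e'.hom)
      map_one' := by rw [MonObj.one_comp, MonObj.comp_one, map_one]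
      map_mul' := fun a b => by rw [MonObj.mul_comp, MonObj.comp_mul, map_mul] }
  have hinj : Function.Injective ψ := fun a b h => by
    have h2 := Spec.mapMulEquiv.symm.injective h
    rwa [cancel_epi, cancel_mono] at h2
  haveI := Groth.Agent.S7986.result k B hB
  exact Group.isSolvable_of_isSolvable_injective (f := ψ) hinj

end H20Borel
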