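import Groth.Agent.H20Borel.MaxTorus
import Groth.Agent.H20Borel.NoSubtorus
import Groth.Agent.H20Borel.FixBorel
import Groth.Agent.H21Split.TypeR.SubScheme
import Groth.Agent.H27Witt.Ext
import Groth.Agent.H21Split.Red0.GeomSplit

/-!
# The centralizer of a maximal torus has a solvable group of points
-/

set_option autoImplicit false
set_option linter.style.haveILetI false
set_option backward.isDefEq.respectTransparency false
set_option maxHeartbeats 1000000
set_option synthInstance.maxHeartbeats 100000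

universe u

open CategoryTheory CategoryTheory.Limits MonoidalCategory CartesianMonoidalCategory MonObj AlgebraicGeometry
open Groth.Agent.H27Witt H20Mu H20Conj
open scoped commutatorElement

noncomputable section

namespace H20Borel

variable {k : Type u} [Field k]

local notation "Pt" X => 𝟙_ (Over (Sk k)) ⟶ X

namespace MatRep

variable {G : Over (Sk k)} [GrpObj G] (M : MatRep G)

/-- The matrix of a rational point. -/
def ptMat : (Pt G) →* Matrix (Fin M.N) (Fin M.N) k :=
  ((Fn.gammaAlg (k := k)).mapMatrix.toRingHom.toMonoidHom : Matrix (Fin M.N) (Fin M.N) (Fn (T0 k)) →* _).comp M.mat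

theorem ptMat_apply (g : Pt G) (a b : Fin M.N) : M.ptMat g a b = val g (M.F a b) := rfl

theorem ptMat_diag {T : Over (Sk k)} {iT : T ⟶ G} {χ : Fin M.N → Fn T} (hd : M.IsDiagFor iT χ) (t : Pt T) :
    M.ptMat (t ≫ iT) = Matrix.diagonal fun a => val t (χ a) := by
  ext a b
  rw [ptMat_apply, ← val_pull, hd a b, Matrix.diagonal_apply, apply_ite (val t), map_zero]

theorem ptMat_injective [IsAffine G.left] : Function.Injective M.ptMat := by
  intro g h e
  refine Fn.point_ext (AlgHom.ext fun z => ?_)
  obtain ⟨p, rfl⟩ := M.gen z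
  show val g _ = val h _
  rw [← AlgHom.comp_apply, ← AlgHom.comp_apply, MvPolynomial.comp_aeval, MvPolynomial.comp_aeval]
  exact congrArg (fun f : Fin M.N × Fin M.N → k => MvPolynomial.aeval (R := k) f p)
    (funext fun ab => congrFun (congrFun e ab.1) ab.2)

theorem entry_zero [IsAffine G.left] {T : Over (Sk k)} {iT : T ⟶ G} {χ : Fin M.N → Fn T} (hd : M.IsDiagFor iT χ)
    {X : Over (Sk k)} (g : X ⟶ G) (t : Pt T)
    (hg : g * ((toUnit X ≫ t) ≫ iT) = ((toUnit X ≫ t) ≫ iT) * g) {a b : Fin M.N}
    (hab : val t (χ a) ≠ val t (χ b)) : M.mat g a b = 0 := by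
  have h1 : M.mat g a b * Fn.pull (toUnit X ≫ t) (χ b) = Fn.pull (toUnit X ≫ t) (χ a) * M.mat g a b := by
    have := congrFun (congrFun ((M.commute_iff g _).mp hg).eq a) b
    rwa [M.mat_diag hd, Matrix.mul_diagonal, Matrix.diagonal_mul] at this
  rw [pull_const, pull_const, _root_.mul_comm (M.mat g a b), ← Algebra.smul_def, ← Algebra.smul_def] at h1
  have h2 : (val t (χ b) - val t (χ a)) • M.mat g a b = 0 := by rw [sub_smul, h1, sub_self]
  exact ((IsUnit.mk0 _ (sub_ne_zero.mpr hab.symm)).smul_eq_zero).mp h2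

/-- A point whose matrix is block diagonal for the characters centralizes the torus. -/
theorem exists_factor_centralizer [IsAffine G.left] {T : Over (Sk k)} [GrpObj T] {iT : T ⟶ G}
    {χ : Fin M.N → Fn T} (hd : M.IsDiagFor iT χ) {C : Over (Sk k)} [GrpObj C] {c : C ⟶ G} (hc : Red.IsCentralizerOf iT c)
    {X : Over (Sk k)} (g : X ⟶ G) (hg : ∀ a b, χ a ≠ χ b → M.mat g a b = 0) : ∃ z : X ⟶ C, z ≫ c = g := by
  refine (hc.2.2 X g).mpr fun X' x h => (M.commute_iff _ _).mpr ?_
  ext a b
  rw [M.mat_diag hd, Matrix.mul_diagonal, Matrix.diagonal_mul, M.mat_comp]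
  by_cases hab : χ a = χ b
  · rw [hab, _root_.mul_comm]
  · rw [hg a b hab, map_zero, zero_mul, mul_zero]

end MatRep

variable [IsAlgClosed k]

/-- A regular rational point of a torus. -/
theorem exists_regular {T : Over (Sk k)} [GrpObj T] (hT : Red.IsTorus T) {ι₀ : Type*} [Fintype ι₀]
    (χ : ι₀ → Fn T) : ∃ t : Pt T, ∀ a b, χ a ≠ χ b → val t (χ a) ≠ val t (χ b) := by
  classical
  obtain ⟨hTa, hTs, hTc⟩ := torus_props T hT
  haveI := hTa; haveI := hTs; haveI := hTc
  haveI := Fn.isDomain T
  have hne : ∏ x ∈ Finset.univ.filter (fun x : ι₀ × ι₀ => χ x.1 ≠ χ x.2), (χ x.1 - χ x.2) ≠ 0 :=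
    Finset.prod_ne_zero_iff.mpr fun x hx => sub_ne_zero.mpr (Finset.mem_filter.mp hx).2
  by_contra h
  push Not at h
  refine hne (Fn.ext_points fun t => ?_)
  obtain ⟨a, b, hab, e⟩ := h t
  show val t _ = val t 0
  rw [map_zero, map_prod]
  refine Finset.prod_eq_zero (i := (a, b)) (Finset.mem_filter.mpr ⟨Finset.mem_univ _, hab⟩) ?_
  rw [map_sub, e, sub_self]

variable {G : Over (Sk k)} [GrpObj G] [IsAffine G.left] [Smooth G.hom]

omit [IsAlgClosed k] [IsAffine G.left] [Smooth G.hom] in
theorem eq_of_finite_of_isPrime {E : Set (Pt G)} [IsAffine G.left] (hE : E.Finite) (hp : (vanish E).IsPrime)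
    {x y : Pt G} (hx : x ∈ E) (hy : y ∈ E) : x = y := by
  classical
  have hle : hE.toFinset.inf (fun g => RingHom.ker (val g)) ≤ vanish E := fun a ha =>
    mem_vanish.mpr fun g hg => (Finset.inf_le (f := fun g => RingHom.ker (val g)) (hE.mem_toFinset.mpr hg) ha :)
  obtain ⟨g, -, hg⟩ := hp.inf_le'.mp hle
  suffices h : ∀ z ∈ E, z = g by rw [h x hx, h y hy]
  intro z hz
  refine Fn.point_ext (AlgHom.ext fun a => ?_)
  show val z a = val g a
  have h0 : val g (a - algebraMap k _ (val g a)) = 0 := by
    rw [map_sub, AlgHom.commutes]; exact sub_self _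
  have h1 := mem_vanish.mp (hg (RingHom.mem_ker.mpr h0)) z hz
  rw [map_sub, AlgHom.commutes, sub_eq_zero] at h1
  exact h1

/-- **The centralizer of a maximal torus is solvable on rational points.** -/
theorem isSolvable_centralizer {T : Over (Sk k)} [GrpObj T] (iT : T ⟶ G) [IsMonHom iT] [Mono iT]
    (hT : Red.IsTorus T)
    (hmax : ∀ (d : Red.Gm (Sk k) ⟶ G), IsMonHom d →
      (∀ (u : Pt (Red.Gm (Sk k))) (t : Pt T), Commute (u ≫ d) (t ≫ iT)) → ∀ u, ∃ t : Pt T, t ≫ iT = u ≫ d)
    {C : Over (Sk k)} [GrpObj C] (c : C ⟶ G) [IsMonHom c] [IsClosedImmersion c.left] [Smooth C.hom]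
    [ConnectedSpace C.left] (hc : Red.IsCentralizerOf iT c) : Group.IsSolvable (postHom c).range := by
  classical
  obtain ⟨M, χ, hd⟩ := exists_diag_rep iT hT
  obtain ⟨hTa, hTs, -⟩ := torus_props T hT
  haveI := hTa; haveI := hTs
  haveI : IsAffine C.left := isAffine_of_isAffineHom c.left
  haveI : LocallyOfFiniteType G.hom := inferInstance
  let R := (postHom c).range
  have hRp : (vanish (R : Set (Pt G))).IsPrime := isPrime_range c
  have hcen : ∀ g ∈ R, ∀ t : Pt T, Commute g (t ≫ iT) := by
    rintro _ ⟨z, rfl⟩ t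
    have h := (hc.2.2 _ (z ≫ c)).mp ⟨z, rfl⟩ _ (𝟙 _) t
    rwa [Category.id_comp] at h
  have hblock : ∀ g ∈ R, ∀ a b, χ a ≠ χ b → M.ptMat g a b = 0 := by
    intro g hg a b hab
    obtain ⟨t, ht⟩ : ∃ t : Pt T, val t (χ a) ≠ val t (χ b) := by
      by_contra h
      push Not at h
      exact hab (Fn.ext_points h)
    have h1 := congrFun (congrFun ((hcen g hg t).map M.ptMat).eq a) b
    rw [M.ptMat_diag hd, Matrix.mul_diagonal, Matrix.diagonal_mul] at h1
    by_contra h0
    exact ht (mul_left_cancel₀ h0 (h1.trans (_root_.mul_comm _ _))).symm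
  let e : Fin M.N → Matrix (Fin M.N) (Fin M.N) k := fun a =>
    Matrix.diagonal fun x => if χ x = χ a then 1 else 0
  have hee : ∀ a, e a * e a = e a := fun a => by
    simp only [e, Matrix.diagonal_mul_diagonal]
    exact congrArg Matrix.diagonal (funext fun x => by split_ifs <;> simp)
  have hge : ∀ g ∈ R, ∀ a, M.ptMat g * e a = e a * M.ptMat g := fun g hg a => by
    ext p q
    simp only [e, Matrix.mul_diagonal, Matrix.diagonal_mul]
    by_cases hpq : χ p = χ q
    · rw [hpq, _root_.mul_comm]
    · rw [hblock g hg p q hpq, zero_mul, mul_zero]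
  let δ : Fin M.N → (Pt G) → k := fun a g => (e a * M.ptMat g + (1 - e a)).det
  have hδ1 : ∀ a, δ a 1 = 1 := fun a => by
    show Matrix.det _ = 1
    rw [map_one, _root_.mul_one, add_sub_cancel, Matrix.det_one]
  have hδmul : ∀ a, ∀ g ∈ R, ∀ h ∈ R, δ a (g * h) = δ a g * δ a h := fun a g hg h _ => by
    show Matrix.det _ = Matrix.det _ * Matrix.det _
    rw [← Matrix.det_mul, map_mul]
    refine congrArg Matrix.det ?_
    have h1 : e a * M.ptMat g * (e a * M.ptMat h) = e a * (M.ptMat g * M.ptMat h) := by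
      rw [_root_.mul_assoc, ← _root_.mul_assoc (M.ptMat g), hge g hg a, _root_.mul_assoc (e a) (M.ptMat g),
        ← _root_.mul_assoc (e a) (e a), hee]
    have h2 : e a * M.ptMat g * (1 - e a) = 0 := by
      rw [mul_sub, _root_.mul_one, _root_.mul_assoc, hge g hg a, ← _root_.mul_assoc, hee, sub_self]
    have h3 : (1 - e a) * (e a * M.ptMat h) = 0 := by
      rw [← _root_.mul_assoc, sub_mul, _root_.one_mul, hee, sub_self, zero_mul]
    have h4 : (1 - e a) * (1 - e a) = 1 - e a := by
      rw [mul_sub, _root_.mul_one, sub_mul, _root_.one_mul, hee, sub_self, sub_zero]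
    rw [add_mul, mul_add, mul_add, h1, h2, h3, h4, add_zero, zero_add]
  let D : Subgroup (Pt G) := ⁅R, R⁆
  have hDR : D ≤ R := Subgroup.commutator_le_self R
  have hDδ : ∀ g ∈ D, ∀ a, δ a g = 1 := by
    intro g hg a
    let φ : R →* k := { toFun := fun x => δ a x.1, map_one' := hδ1 a, map_mul' := fun x y => hδmul a _ x.2 _ y.2 }
    obtain ⟨x, hx, rfl⟩ : g ∈ (commutator R).map R.subtype := by
      rw [commutator_def, Subgroup.map_commutator, ← MonoidHom.range_eq_map, Subgroup.range_subtype]; exact hg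
    have h2 : φ.toHomUnits x = 1 := Abelianization.commutator_subset_ker φ.toHomUnits hx
    have h3 := congrArg (fun v : kˣ => (v : k)) h2
    simpa [φ] using h3
  let Δ : Fin M.N → Fn G := fun a =>
    ((e a).map (algebraMap k (Fn G)) * Matrix.of M.F + (1 - (e a).map (algebraMap k (Fn G)))).det - 1
  have hΔ : ∀ a (g : Pt G), val g (Δ a) = δ a g - 1 := fun a g => by
    show val g _ = _
    rw [map_sub, map_one, AlgHom.map_det]
    refine congrArg (fun A : Matrix (Fin M.N) (Fin M.N) k => A.det - 1) ?_
    rw [map_add, map_mul, map_sub, map_one]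
    have he' : (val g).mapMatrix ((e a).map (algebraMap k (Fn G))) = e a := by
      ext p q
      simp
    rw [he']
    rfl
  have hcloR : ∀ g ∈ clo D, g ∈ R := fun g hg => clo_range_le c fun r hr => hg r (vanish_anti hDR hr)
  have hcloδ : ∀ g ∈ clo D, ∀ a, δ a g = 1 := fun g hg a => by
    have h := hg (Δ a) (mem_vanish.mpr fun x hx => by rw [hΔ, hDδ x hx, sub_self])
    rwa [hΔ, sub_eq_zero] at h
  have hDp : (vanish (D : Set (Pt G))).IsPrime := isPrime_commutator hRp
  obtain ⟨H, gH, iH, hm, hci, hHa, hHs, hHc, hHpts, hlift⟩ :=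
    Groth.Agent.H21Split.TypeR.exists_subgroup_scheme_of_prime D hDp
  letI := gH; haveI := hm; haveI := hci; haveI := hHa; haveI := hHs; haveI := hHc
  haveI : Mono iH := Over.mono_of_mono_left _
  have hHns : Red.HasNoSubtorus k H := by
    intro S gS j hj hjm hS
    obtain ⟨r, es, co, hes, -, hprod, -⟩ := exists_cochars S hS
    obtain ⟨hSa, hSs, -⟩ := torus_props S hS
    haveI := hSa; haveI := hSs
    have hone : ∀ i u, (u ≫ es i) ≫ j ≫ iH = (1 : Pt G) := by
      intro i u
      haveI := hes i
      let d : Red.Gm (Sk k) ⟶ G := es i ≫ j ≫ iH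
      haveI : IsMonHom d := inferInstanceAs (IsMonHom (es i ≫ j ≫ iH))
      have hd' : ∀ v, v ≫ d ∈ clo D := fun v => by
        show v ≫ es i ≫ j ≫ iH ∈ _
        rw [← Category.assoc, ← Category.assoc]
        exact hHpts _
      have hcom : ∀ (v : Pt (Red.Gm (Sk k))) (t : Pt T), Commute (v ≫ d) (t ≫ iT) := fun v t =>
        hcen _ (hcloR _ (hd' v)) t
      choose t ht using hmax d inferInstance hcom
      have hfin : (Set.range fun v : Pt (Red.Gm (Sk k)) => v ≫ d).Finite := by
        let Z : Fin M.N → Set k := fun a =>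
          {z | Polynomial.IsRoot (Polynomial.X ^ (Finset.univ.filter fun x => χ x = χ a).card - 1 : Polynomial k) z}
        have hZ : ∀ a, (Z a).Finite := fun a => Polynomial.finite_setOfPred_isRoot (by
          intro h0
          have hcd : (Finset.univ.filter fun x => χ x = χ a).card ≠ 0 :=
            Finset.card_ne_zero.mpr ⟨a, by simp⟩
          have := congrArg Polynomial.natDegree h0
          rw [Polynomial.natDegree_zero, ← Polynomial.C_1, Polynomial.natDegree_X_pow_sub_C] at this
          exact hcd this)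
        refine Set.Finite.of_finite_image (f := fun g => fun a => M.ptMat g a a) ?_ ?_
        · refine (Set.Finite.pi hZ).subset ?_
          rintro _ ⟨_, ⟨v, rfl⟩, rfl⟩ a -
          show Polynomial.IsRoot _ (M.ptMat (v ≫ d) a a)
          have h1 := hcloδ _ (hd' v) a
          rw [← ht v] at h1 ⊢
          simp only [δ, e, M.ptMat_diag hd, ← Matrix.diagonal_one, Matrix.diagonal_sub, Matrix.diagonal_mul_diagonal,
            Matrix.diagonal_add, Matrix.det_diagonal] at h1
          simp only [Polynomial.IsRoot, Polynomial.eval_sub, Polynomial.eval_pow, Polynomial.eval_X,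
            Polynomial.eval_one, M.ptMat_diag hd, Matrix.diagonal_apply_eq]
          rw [sub_eq_zero, ← Finset.prod_const, ← h1, Finset.prod_filter]
          refine Finset.prod_congr rfl fun x _ => ?_
          by_cases hx : χ x = χ a
          · simp [hx]
          · simp [hx]
        · rintro _ ⟨v, rfl⟩ _ ⟨v', rfl⟩ hvv
          apply M.ptMat_injective
          simp only [← ht v, ← ht v', M.ptMat_diag hd] at hvv ⊢
          refine congrArg Matrix.diagonal (funext fun a => ?_)
          simpa using congrFun hvv a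
      have hp : (vanish (Set.range fun v : Pt (Red.Gm (Sk k)) => v ≫ d)).IsPrime := by
        haveI : IsAffine (Red.Gm (Sk k)).left := by
          haveI : IsAffine (Red.diag (ULift.{u} ℤ) ℤ).left := inferInstanceAs (IsAffine (Spec _))
          dsimp [Red.Gm, Red.DS, Red.bc]; infer_instance
        obtain ⟨-, hgs, hgc⟩ := torus_props (Red.Gm (Sk k)) (Groth.Agent.H21Red0.isTorus_split (M := ℤ) (Iso.refl _) : Red.IsTorus (Red.Gm (Sk k)))
        haveI := hgs; haveI := hgc
        exact isPrime_range d
      rw [Category.assoc]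
      exact eq_of_finite_of_isPrime hfin hp ⟨u, rfl⟩ ⟨1, MonObj.one_comp d⟩
    have htriv : ∀ t : Pt S, t = 1 := fun t => by
      have h1 := comp_mem_of_cochars (j ≫ iH) es co hprod ⊥ (fun i u => Subgroup.mem_bot.mpr (hone i u)) t
      rw [Subgroup.mem_bot, ← MonObj.one_comp (j ≫ iH)] at h1
      exact (cancel_mono (j ≫ iH)).mp h1
    have hid : 𝟙 S = 1 := hom_ext_pts fun x => by
      rw [Category.comp_id, MonObj.comp_one]
      exact htriv x
    haveI : IsIso (toUnit S) := ⟨(1 : Pt S), by rw [MonObj.comp_one, ← hid], toUnit_unique _ _⟩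
    have hsh : (toUnit S).left = S.hom := by
      have := Over.w (toUnit S)
      rwa [show (𝟙_ (Over (Sk k))).hom = 𝟙 _ from rfl, Category.comp_id] at this
    show IsIso S.hom
    rw [← hsh]
    exact ((Over.forget _).mapIso (asIso (toUnit S))).isIso_hom
  haveI := isSolvable_pts_of_hasNoSubtorus H hHns
  have hDsol : Group.IsSolvable D := by
    have hsub : D ≤ (postHom iH).range := fun g hg => by
      haveI : AlgebraicGeometry.IsReduced (𝟙_ (Over (Sk k))).left :=
        inferInstanceAs (AlgebraicGeometry.IsReduced (Spec (CommRingCat.of k)))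
      haveI : IsAffine (𝟙_ (Over (Sk k))).left := inferInstanceAs (IsAffine (Spec (CommRingCat.of k)))
      haveI : LocallyOfFiniteType (𝟙_ (Over (Sk k))).hom := inferInstanceAs (LocallyOfFiniteType (𝟙 (Sk k)))
      obtain ⟨z, hz⟩ := hlift g fun y => by
        rw [toUnit_unique y (𝟙 _), Category.id_comp]
        exact fun r hr => mem_vanish.mp hr g hg
      exact ⟨z, hz⟩
    haveI : Group.IsSolvable (postHom iH).range :=
      Group.isSolvable_of_surjective (f := (postHom iH).rangeRestrict) (MonoidHom.rangeRestrict_surjective _)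
    exact Group.isSolvable_of_isSolvable_injective (f := Subgroup.inclusion hsub) (Subgroup.inclusion_injective _)
  haveI := hDsol
  have hmapD : (commutator R).map R.subtype ≤ D := by
    rw [commutator_def, Subgroup.map_commutator, ← MonoidHom.range_eq_map, Subgroup.range_subtype]
  let f : commutator R →* D :=
    { toFun := fun x => ⟨x.1.1, hmapD ⟨x.1, x.2, rfl⟩⟩, map_one' := rfl, map_mul' := fun _ _ => rfl }
  haveI : Group.IsSolvable (commutator R) := Group.isSolvable_of_isSolvable_injective (f := f) fun x y h =>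
    Subtype.ext (Subtype.ext (congrArg (fun z : D => (z : Pt G)) h))
  exact Group.isSolvable_of_ker_le_range (commutator R).subtype (Abelianization.of : R →* Abelianization R)
    (by rw [Abelianization.ker_of, Subgroup.range_subtype])

end H20Borel
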