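import Groth.Agent.H20Borel.Centre
import Groth.Agent.S3900

/-!
# Every Borel subgroup contains a Cartan subgroup
-/

set_option autoImplicit false
set_option linter.style.haveILetI false
set_option backward.isDefEq.respectTransparency false
set_option maxHeartbeats 1000000
set_option synthInstance.maxHeartbeats 100000

universe u

open CategoryTheory CategoryTheory.Limits MonoidalCategory CartesianMonoidalCategory MonObj AlgebraicGeometry
open Groth.Agent.H27Witt H20Mu H20Conj

noncomputable section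

namespace H20Borel

variable {k : Type u} [Field k]

local notation "Pt" X => 𝟙_ (Over (Sk k)) ⟶ X

section Pts

variable [IsAlgClosed k] {G : Over (Sk k)} [IsAffine G.left]

/-- A morphism from a reduced affine scheme factors through a closed subscheme if its points do. -/
theorem exists_factor_pts {H Y : Over (Sk k)} (i : H ⟶ G) [IsClosedImmersion i.left] [IsAffine Y.left]
    [LocallyOfFiniteType Y.hom] [AlgebraicGeometry.IsReduced Y.left] (f : Y ⟶ G)
    (h : ∀ y : Pt Y, ∃ z : Pt H, z ≫ i = y ≫ f) : ∃ f' : Y ⟶ H, f' ≫ i = f := by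
  haveI : IsAffine H.left := isAffine_of_isAffineHom i.left
  have hsurj : Function.Surjective (Fn.pull i : Fn G →ₐ[k] Fn H) :=
    (IsClosedImmersion.isAffine_surjective_of_isAffine i.left).2
  have hker : ∀ r ∈ RingHom.ker (Fn.pull i : Fn G →ₐ[k] Fn H), Fn.pull f r = 0 := fun r hr =>
    ext_points_reduced fun y => by
      obtain ⟨z, hz⟩ := h y
      rw [val_pull, map_zero, ← hz, ← val_pull, RingHom.mem_ker.mp hr, map_zero]
  obtain ⟨f', hf'⟩ := Fn.exists_hom (X := Y) (Y := H)
    ((Ideal.Quotient.liftₐ (RingHom.ker (Fn.pull i)) (Fn.pull f) hker).comp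
      (Ideal.quotientKerAlgEquivOfSurjective hsurj).symm.toAlgHom)
  refine ⟨f', Fn.hom_ext (AlgHom.ext fun r => ?_)⟩
  rw [Fn.pull_comp, AlgHom.comp_apply, hf']
  show (Ideal.Quotient.liftₐ _ (Fn.pull f) hker) ((Ideal.quotientKerAlgEquivOfSurjective hsurj).symm (Fn.pull i r)) = _
  rw [show (Ideal.quotientKerAlgEquivOfSurjective hsurj).symm (Fn.pull i r) = Ideal.Quotient.mk _ r from
    (AlgEquiv.symm_apply_eq _).mpr rfl]
  rfl

end Pts

variable [IsAlgClosed k] {G : Over (Sk k)} [GrpObj G] [IsAffine G.left] [Smooth G.hom]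

/-- A torus which is maximal on cocharacters is a maximal torus. -/
theorem isMaxTorus_of_hmax {T : Over (Sk k)} [GrpObj T] (iT : T ⟶ G) [IsMonHom iT] [IsClosedImmersion iT.left]
    (hT : Red.IsTorus T)
    (hmax : ∀ (d : Red.Gm (Sk k) ⟶ G), IsMonHom d →
      (∀ (u : Pt (Red.Gm (Sk k))) (t : Pt T), Commute (u ≫ d) (t ≫ iT)) → ∀ u, ∃ t : Pt T, t ≫ iT = u ≫ d) :
    AGF.IsMaxTorus iT := by
  haveI : Mono iT := Over.mono_of_mono_left _
  haveI : LocallyOfFiniteType G.hom := inferInstance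
  refine ⟨inferInstance, inferInstance, hT, ?_⟩
  intro T' _ j _ _ f hT' hf
  obtain ⟨hTa, hTs, -⟩ := torus_props T' hT'
  haveI := hTa; haveI := hTs
  haveI : LocallyOfFiniteType T'.hom := inferInstance
  haveI : AlgebraicGeometry.IsReduced T'.left := Groth.Agent.H13AlgSp.isReduced_of_smooth_mor T'.hom
  obtain ⟨r, e, co, he, -, hprod, hcomm⟩ := exists_cochars T' hT'
  have hR : ∀ y : Pt T', y ≫ j ∈ (postHom iT).range := fun y =>
    comp_mem_of_cochars j e co hprod _ (fun i u => by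
      haveI := he i
      obtain ⟨t, ht⟩ := hmax (e i ≫ j) inferInstance (fun u t => by
        rw [← Category.assoc, ← hf, ← Category.assoc, Commute, SemiconjBy, ← MonObj.mul_comp, ← MonObj.mul_comp,
          hcomm]) u
      exact ⟨t, ht.trans (Category.assoc _ _ _).symm⟩) y
  obtain ⟨j', hj'⟩ := exists_factor_pts iT j fun y => hR y
  exact ⟨j', (cancel_mono iT).mp (by rw [Category.assoc, hj', hf, Category.id_comp]),
    (cancel_mono j).mp (by rw [Category.assoc, hf, hj', Category.id_comp])⟩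

variable [ConnectedSpace G.left]

/-- Some Borel subgroup contains the centralizer of some maximal torus. -/
theorem exists_borel_ge_cartan' :
    ∃ (T C B₁ : Over (Sk k)) (_ : GrpObj T) (_ : GrpObj C) (_ : GrpObj B₁) (iT : T ⟶ G) (c : C ⟶ G) (iB₁ : B₁ ⟶ G),
      AGF.IsMaxTorus iT ∧ Red.IsCentralizerOf iT c ∧ Red.IsBorelOver k iB₁ ∧ ∃ cB : C ⟶ B₁, cB ≫ iB₁ = c := by
  haveI : LocallyOfFiniteType G.hom := inferInstance
  haveI : LocallyOfFinitePresentation G.hom := inferInstance
  haveI : QuasiCompact G.hom := inferInstance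
  haveI : QuasiSeparated G.hom := inferInstance
  obtain ⟨T, gT, iT, hiT, hciT, hT, hmax⟩ := exists_maxTorus (G := G)
  letI := gT; haveI := hiT; haveI := hciT
  haveI : Mono iT := Over.mono_of_mono_left _
  obtain ⟨C, gC, c, hc, hcic, hCs⟩ := (Groth.Agent.S3006.result (Sk k) G T iT hciT hT).1
  letI := gC; haveI := hc.1; haveI := hcic; haveI := hCs
  haveI : ConnectedSpace C.left := Groth.Agent.S3908.result k G T iT hT C c hc
  haveI : IsAffine C.left := isAffine_of_isAffineHom c.left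
  haveI : LocallyOfFiniteType C.hom := inferInstance
  haveI : AlgebraicGeometry.IsReduced C.left := Groth.Agent.H13AlgSp.isReduced_of_smooth_mor C.hom
  haveI := isSolvable_centralizer iT hT hmax c hc
  have hclo : ∀ x ∈ clo (postHom c).range, x ∈ (postHom c).range := fun x hx => clo_range_le c hx
  obtain ⟨B₁, gB₁, iB₁, hB₁, hpts⟩ := exists_isBorelOver_ge (postHom c).range (isPrime_range c)
    (Group.isSolvable_of_isSolvable_injective (f := Subgroup.inclusion hclo) (Subgroup.inclusion_injective _))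
  letI := gB₁; haveI := hB₁.2.1
  exact ⟨T, C, B₁, gT, gC, gB₁, iT, c, iB₁, isMaxTorus_of_hmax iT hT hmax, hc, hB₁,
    exists_factor_pts iB₁ c fun z => hpts (z ≫ c) ⟨z, rfl⟩⟩

/-- **Every Borel subgroup contains a maximal torus with its centralizer.** -/
theorem exists_cartan_le {B : Over (Sk k)} [GrpObj B] (iB : B ⟶ G) (hB : Red.IsBorelOver k iB) :
    ∃ (T C : Over (Sk k)) (_ : GrpObj T) (_ : GrpObj C) (iT : T ⟶ G) (c : C ⟶ G) (cB : C ⟶ B) (tC : T ⟶ C),
      AGF.IsMaxTorus iT ∧ Red.IsCentralizerOf iT c ∧ cB ≫ iB = c ∧ tC ≫ c = iT := by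
  obtain ⟨T, C, B₁, gT, gC, gB₁, iT, c, iB₁, hT, hc, hB₁, cB, hcB⟩ := exists_borel_ge_cartan' (G := G)
  letI := gT; letI := gC; letI := gB₁
  haveI := hT.1
  obtain ⟨g, f, hf⟩ := Groth.Agent.S3900.result k G B₁ B iB₁ iB hB₁ hB
  rw [H20Conj.conjBy_eq] at hf
  let κ : G ⟶ G := conj g⁻¹
  let κ' : G ⟶ G := conj g
  have h1 : κ ≫ κ' = 𝟙 G := by
    have := comp_conj_conj g⁻¹ (𝟙 G)
    rwa [Category.id_comp, _root_.inv_inv] at this
  have h2 : κ' ≫ κ = 𝟙 G := by
    have := comp_conj_conj g (𝟙 G)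
    rwa [Category.id_comp] at this
  haveI : IsIso κ := ⟨κ', h1, h2⟩
  haveI : IsIso κ' := ⟨κ, h2, h1⟩
  haveI : IsMonHom κ := isMonHom_conj _
  haveI : IsMonHom κ' := isMonHom_conj _
  have hc' : Red.IsCentralizerOf (iT ≫ κ) (c ≫ κ) := by
    haveI := hc.1; haveI := hc.2.1
    refine ⟨inferInstance, inferInstance, fun X x => ?_⟩
    rw [show (∃ z : X ⟶ C, z ≫ c ≫ κ = x) ↔ ∃ z : X ⟶ C, z ≫ c = x ≫ κ' by
      constructor
      · rintro ⟨z, rfl⟩; exact ⟨z, by simp only [Category.assoc, h1, Category.comp_id]⟩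
      · rintro ⟨z, hz⟩; exact ⟨z, by rw [← Category.assoc, hz, Category.assoc, h2, Category.comp_id]⟩, hc.2.2 X _]
    refine forall₃_congr fun X' y h => ?_
    constructor
    · intro e
      have e' := congrArg (· ≫ κ) e
      simpa only [MonObj.mul_comp, Category.assoc, h2, Category.comp_id] using e'
    · intro e
      have e' := congrArg (· ≫ κ') e
      simpa only [MonObj.mul_comp, Category.assoc, h1, Category.comp_id] using e'
  obtain ⟨hm, hmo, hTT, hTmax⟩ := hT
  replace hTmax := PLift.up hTmax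
  haveI := hmo
  have hT' : AGF.IsMaxTorus (iT ≫ κ) := ⟨inferInstance, inferInstance, hTT, fun Z _ j _ _ h hZ hh => by
    refine hTmax.down Z (j ≫ κ') h hZ ?_
    rw [← Category.assoc, hh, Category.assoc, h1, Category.comp_id]⟩
  obtain ⟨tC, htC⟩ := (hc.2.2 T iT).mpr fun X' y h => by
    obtain ⟨r, e, co, -, -, -, hcomm⟩ := exists_cochars T hTT
    rw [← MonObj.mul_comp, ← MonObj.mul_comp, hcomm]
  exact ⟨T, C, gT, gC, iT ≫ κ, c ≫ κ, cB ≫ f.hom, tC, hT', hc',
    by rw [Category.assoc, hf, ← Category.assoc, hcB], by rw [← Category.assoc, htC]⟩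

end H20Borel
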