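import Groth.Agent.H20Borel.FixBorel

/-!
# Stabiliser subgroups and Borel's fixed point theorem for subgroup actions
-/

set_option autoImplicit false
set_option linter.style.haveILetI false
set_option backward.isDefEq.respectTransparency false
set_option maxHeartbeats 1000000
set_option synthInstance.maxHeartbeats 100000

universe u

open CategoryTheory CategoryTheory.Limits MonoidalCategory CartesianMonoidalCategory MonObj AlgebraicGeometry
open Groth.Agent.H27Witt H20Mu

noncomputable section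

namespace H20Borel

variable {k : Type u} [Field k]

local notation "Pt" X => 𝟙_ (Over (Sk k)) ⟶ X

variable {G B X : Over (Sk k)} [GrpObj G] [GrpObj B]

/-- The action of a group through a homomorphism. -/
def pullAct (a : AlgGrp.Action G X) (i : B ⟶ G) [IsMonHom i] : AlgGrp.Action B X where
  act := (i ▷ X) ≫ a.act
  one_act := by rw [← comp_whiskerRight_assoc, IsMonHom.one_hom, a.one_act]
  mul_act := by
    have h := mul_act' a (fst (B ⊗ B) X ≫ fst B B ≫ i) (fst (B ⊗ B) X ≫ snd B B ≫ i) (snd (B ⊗ B) X)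
    rw [← comp_whiskerRight_assoc, IsMonHom.mul_hom, comp_whiskerRight_assoc]
    refine Eq.trans ?_ (h.trans ?_)
    · rw [Hom.mul_def, ← Category.assoc]
      congr 1
      apply CartesianMonoidalCategory.hom_ext <;> simp
      rw [← Category.assoc]
      congr 1
      apply CartesianMonoidalCategory.hom_ext <;> simp
    · simp only [← Category.assoc]
      congr 1
      apply CartesianMonoidalCategory.hom_ext <;> simp
      simp only [← Category.assoc]
      congr 1
      apply CartesianMonoidalCategory.hom_ext <;> simp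

theorem lift_pullAct (a : AlgGrp.Action G X) (i : B ⟶ G) [IsMonHom i] {T : Over (Sk k)} (p : T ⟶ B) (z : T ⟶ X) :
    lift p z ≫ (pullAct a i).act = lift (p ≫ i) z ≫ a.act := by
  show lift p z ≫ (i ▷ X) ≫ a.act = _
  rw [lift_whiskerRight_assoc]

/-- The stabiliser of a rational point, with its points. -/
theorem exists_stabilizer [IsAffine G.left] [IsSeparated X.hom] (a : AlgGrp.Action G X) (x : Pt X) :
    ∃ (E : Over (Sk k)) (_ : GrpObj E) (i : E ⟶ G), IsMonHom i ∧ IsClosedImmersion i.left ∧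
      IsPullback i (toUnit E) (a.orbitMap x) x ∧
      ∀ {T : Over (Sk k)} (u : T ⟶ G), (∃ e : T ⟶ E, e ≫ i = u) ↔
        lift u (toUnit T ≫ x) ≫ a.act = toUnit T ≫ x := by
  haveI : IsClosedImmersion x.left := by
    haveI : IsClosedImmersion (x.left ≫ X.hom) := by rw [Over.w x]; exact inferInstanceAs (IsClosedImmersion (𝟙 (Sk k)))
    exact IsClosedImmersion.of_comp x.left X.hom
  let E : Over (Sk k) := pullback (a.orbitMap x) x
  let i : E ⟶ G := pullback.fst (a.orbitMap x) x
  have sq : IsPullback i (toUnit E) (a.orbitMap x) x := by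
    have := IsPullback.of_hasPullback (a.orbitMap x) x
    rwa [toUnit_unique (pullback.snd (a.orbitMap x) x) (toUnit E)] at this
  haveI : IsClosedImmersion i.left :=
    MorphismProperty.of_isPullback (sq.flip.map (Over.forget _)) ‹IsClosedImmersion x.left›
  haveI : Mono i := Over.mono_of_mono_left _
  have hmem : ∀ {T : Over (Sk k)} (u : T ⟶ G), (∃ e : T ⟶ E, e ≫ i = u) ↔
      lift u (toUnit T ≫ x) ≫ a.act = toUnit T ≫ x := fun {T} u => by
    rw [← comp_orbitMap]
    refine ⟨?_, fun h => ?_⟩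
    · rintro ⟨e, rfl⟩
      rw [Category.assoc, sq.w, ← Category.assoc, comp_toUnit]
    · obtain ⟨e, he, -⟩ := sq.exists_lift u (toUnit T) h
      exact ⟨e, he⟩
  obtain ⟨e₀, he₀⟩ := (hmem (1 : 𝟙_ (Over (Sk k)) ⟶ G)).mpr (one_act' a _)
  obtain ⟨m₀, hm₀⟩ := (hmem ((fst E E ≫ i) * (snd E E ≫ i))).mpr (by
    rw [mul_act', (hmem (snd E E ≫ i)).mp ⟨_, rfl⟩, (hmem (fst E E ≫ i)).mp ⟨_, rfl⟩])
  obtain ⟨i₀, hi₀⟩ := (hmem (i⁻¹)).mpr (by
    have h := inv_act_act a i (toUnit E ≫ x)
    rwa [(hmem i).mp ⟨𝟙 _, Category.id_comp i⟩] at h)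
  obtain ⟨gE, hi⟩ := Groth.Agent.H19Grp.exists_grpObj_of_mono G i e₀
    (by rw [he₀, Hom.one_def, toUnit_unique (toUnit _) (𝟙 _), Category.id_comp]) m₀
    (by rw [hm₀, Hom.mul_def]; congr 1)
    i₀ (by rw [hi₀, Hom.inv_def])
  exact ⟨E, gE, i, hi, inferInstance, sq, hmem⟩

/-- **Borel's fixed point theorem** for a connected solvable group acting on a proper scheme with a point. -/
theorem exists_fixed [IsAlgClosed k] [IsAffine B.left] [Smooth B.hom] [ConnectedSpace B.left]
    (hsol : Red.IsSolvableGrp B) [IsProper X.hom] (b : AlgGrp.Action B X) (x₀ : Pt X) :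
    ∃ x : Pt X, ∀ g : Pt B, Fixes b g x := by
  obtain ⟨n, hn⟩ := hsol
  haveI : Group.IsSolvable (Pt B) := ⟨n, hn _⟩
  haveI := Fn.isDomain B
  have hp : (vanish ((⊤ : Subgroup (Pt B)) : Set (Pt B))).IsPrime := by
    rw [show vanish ((⊤ : Subgroup (Pt B)) : Set (Pt B)) = ⊥ from (Submodule.eq_bot_iff _).mpr fun a ha =>
      Fn.ext_points fun g => by rw [map_zero]; exact mem_vanish.mp ha g (Subgroup.mem_top _)]
    exact Ideal.isPrime_bot
  obtain ⟨x, hx⟩ := exists_fixed_of_derived b x₀ n ⊤ hp ⟨0, rfl, by rw [Nat.zero_add]; exact hn _⟩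
  exact ⟨x, fun g => mem_stab b |>.mp (hx (Subgroup.mem_top g))⟩

end H20Borel
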