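import Groth.Agent.H20Borel.Gen
import Groth.Agent.H19Quot.OrbitDim
import Groth.Agent.H19Quot.OrbitIso
import Groth.Agent.H19Quot.LargestNormal
import Groth.Agent.H19Grp.AffineQuotient
import Groth.Agent.H20Mu.Conj
import Groth.Agent.H27Witt.Ext
import Mathlib

/-!
# The Borel fixed point theorem
-/

set_option autoImplicit false
set_option linter.style.haveILetI false
set_option backward.isDefEq.respectTransparency false
set_option maxHeartbeats 1000000
set_option synthInstance.maxHeartbeats 100000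

universe u

open CategoryTheory CategoryTheory.Limits MonoidalCategory CartesianMonoidalCategory MonObj AlgebraicGeometry
open Groth.Agent.H27Witt H20Mu
open scoped commutatorElement

noncomputable section

namespace H20Borel

variable {k : Type u} [Field k]

local notation "Pt" X => 𝟙_ (Over (Sk k)) ⟶ X

variable {G X : Over (Sk k)} [GrpObj G] (a : AlgGrp.Action G X)

theorem comp_orbitMap {T : Over (Sk k)} (g : T ⟶ G) (x : Pt X) :
    g ≫ a.orbitMap x = lift g (toUnit T ≫ x) ≫ a.act := by
  rw [AlgGrp.Action.orbitMap, comp_lift_assoc, Category.comp_id, ← Category.assoc, comp_toUnit]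

theorem pt_orbitMap (g : Pt G) (x : Pt X) : g ≫ a.orbitMap x = lift g x ≫ a.act := by
  rw [comp_orbitMap, toUnit_unique (toUnit (𝟙_ (Over (Sk k)))) (𝟙 _), Category.id_comp]

/-- `g` fixes `x`. -/
def Fixes (g : Pt G) (x : Pt X) : Prop := lift g x ≫ a.act = x

theorem Fixes.one (x : Pt X) : Fixes a (1 : Pt G) x := one_act' a x

theorem Fixes.mul {g h : Pt G} {x : Pt X} (hg : Fixes a g x) (hh : Fixes a h x) : Fixes a (g * h) x := by
  unfold Fixes at *
  rw [mul_act', hh, hg]

theorem Fixes.inv {g : Pt G} {x : Pt X} (hg : Fixes a g x) : Fixes a g⁻¹ x := by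
  unfold Fixes at *
  have h := inv_act_act a g x
  rwa [hg] at h

/-- The stabiliser of a point, on rational points. -/
def stab (x : Pt X) : Subgroup (Pt G) where
  carrier := {g | Fixes a g x}
  one_mem' := Fixes.one a x
  mul_mem' := fun hg hh => hg.mul a hh
  inv_mem' := fun hg => hg.inv a

theorem mem_stab {g : Pt G} {x : Pt X} : g ∈ stab a x ↔ Fixes a g x := Iff.rfl

/-- The coincidence set of a morphism with a constant is cut out by an ideal. -/
theorem exists_ideal [IsAffine G.left] {Y : Over (Sk k)} [IsSeparated Y.hom] (φ : G ⟶ Y) (y : Pt Y) :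
    ∃ I : Ideal (Fn G), ∀ g : Pt G, g ≫ φ = y ↔ ∀ r ∈ I, val g r = 0 := by
  haveI : IsClosedImmersion y.left := by
    haveI : IsClosedImmersion (y.left ≫ Y.hom) := by rw [Over.w y]; exact inferInstanceAs (IsClosedImmersion (𝟙 (Sk k)))
    exact IsClosedImmersion.of_comp y.left Y.hom
  let E : Over (Sk k) := pullback φ y
  let iE : E ⟶ G := pullback.fst φ y
  haveI : IsClosedImmersion iE.left :=
    MorphismProperty.of_isPullback ((IsPullback.of_hasPullback φ y).flip.map (Over.forget _)) ‹IsClosedImmersion y.left›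
  haveI : IsAffine E.left := isAffine_of_isAffineHom iE.left
  haveI : Mono iE := Over.mono_of_mono_left _
  refine ⟨RingHom.ker (Fn.pull iE), fun g => ⟨fun hg r hr => ?_, fun hg => ?_⟩⟩
  · obtain ⟨e, he, -⟩ := (IsPullback.of_hasPullback φ y).exists_lift g (toUnit _) (by
      rw [hg, toUnit_unique (toUnit (𝟙_ (Over (Sk k)))) (𝟙 _), Category.id_comp])
    rw [← he, ← val_pull, RingHom.mem_ker.mp hr, map_zero]
  · have hsurj : Function.Surjective (Fn.pull iE : Fn G →ₐ[k] Fn E) :=
      (IsClosedImmersion.isAffine_surjective_of_isAffine iE.left).2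
    obtain ⟨e, he⟩ := Fn.exists_point (X := E)
      ((Ideal.Quotient.liftₐ (RingHom.ker (Fn.pull iE)) (val g) hg).comp
        (Ideal.quotientKerAlgEquivOfSurjective hsurj).symm.toAlgHom)
    have hge : e ≫ iE = g := Fn.point_ext (k := k) (AlgHom.ext fun r => by
      rw [← Fn.ev_pull, he]
      show (Ideal.Quotient.liftₐ _ (val g) hg) ((Ideal.quotientKerAlgEquivOfSurjective hsurj).symm (Fn.pull iE r)) = _
      rw [show (Ideal.quotientKerAlgEquivOfSurjective hsurj).symm (Fn.pull iE r) = Ideal.Quotient.mk _ r from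
        (AlgEquiv.symm_apply_eq _).mpr rfl]
      rfl)
    rw [← hge, Category.assoc, pullback.condition (f := φ) (g := y), ← Category.assoc,
      toUnit_unique (e ≫ pullback.snd φ y) (𝟙 _)]
    exact Category.id_comp y

/-- Fixing a point is a closed condition. -/
theorem clo_le_stab [IsAffine G.left] [IsSeparated X.hom] {R : Subgroup (Pt G)} {x : Pt X} (h : R ≤ stab a x) :
    clo R ≤ stab a x := fun g hg => by
  obtain ⟨I, hI⟩ := exists_ideal (a.orbitMap x) x
  rw [mem_stab, Fixes, ← pt_orbitMap, hI]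
  intro r hr
  exact mem_clo.mp hg r (mem_vanish.mpr fun h' hh' => (hI h').mp (by rw [pt_orbitMap]; exact h hh') r hr)

variable [IsAlgClosed k] [IsAffine G.left] [Smooth G.hom] [ConnectedSpace G.left] [IsProper X.hom]

/-- A point fixed by commutators, with closed orbit, is fixed. -/
theorem fixes_of_isClosed_orbit (x : Pt X) (hc : commutator (Pt G) ≤ stab a x)
    (hcl : IsClosed (Set.range (a.orbitMap x).left.base)) (g : Pt G) : Fixes a g x := by
  haveI : LocallyOfFiniteType X.hom := inferInstance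
  haveI : LocallyOfFiniteType G.hom := inferInstance
  haveI : IsSeparated G.hom := inferInstance
  haveI : AlgebraicGeometry.IsReduced G.left := Groth.Agent.H13AlgSp.isReduced_of_smooth_mor G.hom
  haveI : Smooth (G ⊗ G).hom := Groth.Agent.H19Grp.PointsDense.smooth_tensor G G
  -- commutation on all points
  have hcomm : (fst G G * snd G G) ≫ a.orbitMap x = (snd G G * fst G G) ≫ a.orbitMap x := by
    refine hom_ext_pts fun w => ?_
    rw [← Category.assoc, ← Category.assoc, MonObj.comp_mul, MonObj.comp_mul]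
    set p : Pt G := w ≫ fst G G
    set q : Pt G := w ≫ snd G G
    show (p * q) ≫ _ = (q * p) ≫ _
    rw [pt_orbitMap, pt_orbitMap]
    have h := hc (Subgroup.commutator_mem_commutator (Subgroup.mem_top p⁻¹) (Subgroup.mem_top q⁻¹))
    rw [mem_stab, Fixes] at h
    have e : q * p * ⁅p⁻¹, q⁻¹⁆ = p * q := by rw [commutatorElement_def]; group
    rw [← e, mul_act', h]
  have hcommT : ∀ (T : Over (Sk k)) (u v : T ⟶ G),
      lift (u * v) (toUnit T ≫ x) ≫ a.act = lift (v * u) (toUnit T ≫ x) ≫ a.act := fun T u v => by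
    have h := congrArg (lift u v ≫ ·) hcomm
    simp only [← Category.assoc, MonObj.comp_mul, lift_fst, lift_snd] at h
    rwa [comp_orbitMap, comp_orbitMap] at h
  -- the stabiliser
  haveI : IsClosedImmersion x.left := by
    haveI : IsClosedImmersion (x.left ≫ X.hom) := by rw [Over.w x]; exact inferInstanceAs (IsClosedImmersion (𝟙 (Sk k)))
    exact IsClosedImmersion.of_comp x.left X.hom
  let E : Over (Sk k) := pullback (a.orbitMap x) x
  let i : E ⟶ G := pullback.fst (a.orbitMap x) x
  have sq : IsPullback i (toUnit E) (a.orbitMap x) x := by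
    have := IsPullback.of_hasPullback (a.orbitMap x) x
    rwa [toUnit_unique (pullback.snd (a.orbitMap x) x) (toUnit E)] at this
  haveI : IsClosedImmersion i.left :=
    MorphismProperty.of_isPullback (sq.flip.map (Over.forget _)) ‹IsClosedImmersion x.left›
  haveI : Mono i := Over.mono_of_mono_left _
  have hmem : ∀ {T : Over (Sk k)} (u : T ⟶ G), (∃ e : T ⟶ E, e ≫ i = u) ↔
      lift u (toUnit T ≫ x) ≫ a.act = toUnit T ≫ x := fun {T} u => by
    rw [← comp_orbitMap]
    refine ⟨?_, fun h => ?_⟩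
    · rintro ⟨e, rfl⟩
      rw [Category.assoc, sq.w, ← Category.assoc, comp_toUnit]
    · obtain ⟨e, he, -⟩ := sq.exists_lift u (toUnit T) h
      exact ⟨e, he⟩
  obtain ⟨e₀, he₀⟩ := (hmem (1 : 𝟙_ (Over (Sk k)) ⟶ G)).mpr (one_act' a _)
  obtain ⟨m₀, hm₀⟩ := (hmem ((fst E E ≫ i) * (snd E E ≫ i))).mpr (by
    rw [mul_act', (hmem (snd E E ≫ i)).mp ⟨_, rfl⟩, (hmem (fst E E ≫ i)).mp ⟨_, rfl⟩])
  obtain ⟨i₀, hi₀⟩ := (hmem (i⁻¹)).mpr (by
    have h := inv_act_act a i (toUnit E ≫ x)
    rwa [(hmem i).mp ⟨𝟙 _, Category.id_comp i⟩] at h)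
  obtain ⟨gE, hi⟩ := Groth.Agent.H19Grp.exists_grpObj_of_mono G i e₀
    (by rw [he₀, Hom.one_def, toUnit_unique (toUnit _) (𝟙 _), Category.id_comp]) m₀
    (by rw [hm₀, Hom.mul_def]; congr 1)
    i₀ (by rw [hi₀, Hom.inv_def])
  letI := gE
  haveI := hi
  have hN : AlgGrp.IsNormalHom i := fun T u s => by
    have h1 := (hmem (s ≫ i)).mp ⟨s, rfl⟩
    obtain ⟨e, he⟩ := (hmem (u * (s ≫ i) * u⁻¹)).mpr (by
      rw [_root_.mul_assoc, hcommT, inv_mul_cancel_right, h1])
    exact ⟨e, he.symm⟩
  obtain ⟨Q, gQ, q, hq, hQlft, hQqc, hQflat, hQsurj, hQlfp, hker⟩ :=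
    Groth.Agent.H19Quot.exists_quotientGroup i hN
  letI := gQ
  haveI := hq; haveI := hQlft; haveI := hQqc; haveI := hQflat; haveI := hQsurj; haveI := hQlfp
  haveI : IsAffine Q.left := Groth.Agent.H19Grp.AffineQuotient.isAffine_of_flat_surjective G Q q
  haveI : IsSeparated Q.hom := Groth.Agent.H19Grp.PointsDense.isSeparated_grp Q
  -- the orbit
  obtain ⟨Z, z, hz, hZred, -, -, hzr, -⟩ := Groth.Agent.H19Quot.exists_orbit a x
  haveI := hz; haveI := hZred
  haveI : IsClosedImmersion z.left := IsClosedImmersion.of_isPreimmersion z.left (by rw [hzr]; exact hcl)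
  obtain ⟨g₁, hg₁⟩ := Groth.Agent.H17.exists_lift_immersion_of_range_subset (a.orbitMap x).left z.left hzr.ge
  let g₀ : G ⟶ Z := Over.homMk g₁ (by rw [← Over.w z, ← Category.assoc, hg₁, Over.w])
  have hg₀ : g₀ ≫ z = a.orbitMap x := Over.OverMorphism.ext hg₁
  haveI : Surjective g₀.left := ⟨fun p => by
    obtain ⟨w, hw⟩ := hzr.le ⟨p, rfl⟩
    refine ⟨w, z.left.isEmbedding.injective ?_⟩
    rw [← hw, ← hg₀]
    rfl⟩
  haveI : IsProper Z.hom := by rw [← Over.w z]; infer_instance
  haveI : QuasiCompact g₀.left := by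
    haveI : QuasiCompact (g₀.left ≫ Z.hom) := by rw [Over.w]; infer_instance
    exact QuasiCompact.of_comp g₀.left Z.hom
  haveI : Flat g₀.left := Groth.Agent.H19Quot.flat_orbit_reduced a x Z z g₀ hg₀
  haveI : LocallyOfFinitePresentation g₀.left := by
    haveI : IsLocallyNoetherian Z.left := LocallyOfFiniteType.isLocallyNoetherian Z.hom
    haveI : LocallyOfFiniteType (g₀.left ≫ Z.hom) := by rw [Over.w]; infer_instance
    haveI : LocallyOfFiniteType g₀.left := locallyOfFiniteType_of_comp _ Z.hom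
    infer_instance
  obtain ⟨e₂, he₂, -⟩ := Groth.Agent.H19Grp.QuotientDesc.existsUnique_desc g₀ q (fun T u v huv => by
    have h1 : lift u (toUnit T ≫ x) ≫ a.act = lift v (toUnit T ≫ x) ≫ a.act := by
      rw [← comp_orbitMap, ← comp_orbitMap, ← hg₀, ← Category.assoc, huv, Category.assoc]
    obtain ⟨e, he⟩ := (hmem (v⁻¹ * u)).mpr (by rw [mul_act', h1, inv_act_act])
    have h2 : (v⁻¹ * u) ≫ q = 1 := by
      rw [← he, Category.assoc, hker.w, ← Category.assoc, comp_toUnit, Hom.one_def]
    rw [MonObj.mul_comp, GrpObj.inv_comp, inv_mul_eq_one] at h2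
    exact h2.symm)
  haveI : Surjective e₂.left := by
    haveI : Surjective (g₀.left ≫ e₂.left) := by rw [← Over.comp_left, he₂]; infer_instance
    exact Surjective.of_comp g₀.left e₂.left
  haveI : UniversallyClosed Q.hom := by
    haveI : UniversallyClosed (e₂.left ≫ Q.hom) := by rw [Over.w]; infer_instance
    exact UniversallyClosed.of_comp_surjective e₂.left Q.hom
  haveI : IsProper Q.hom := { }
  haveI : IsAffineHom Q.hom := inferInstance
  haveI : IsFinite Q.hom := IsFinite.iff_isProper_and_isAffineHom.mpr ⟨inferInstance, inferInstance⟩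
  haveI : Finite Q.left := by
    have h := Q.hom.finite_preimage_singleton (IsLocalRing.closedPoint k)
    rw [show Q.hom ⁻¹' {IsLocalRing.closedPoint k} = Set.univ from
      Set.eq_univ_of_forall fun p => Subsingleton.elim (α := PrimeSpectrum k) _ _] at h
    exact Set.finite_univ_iff.mp h
  haveI : JacobsonSpace Q.left := LocallyOfFiniteType.jacobsonSpace Q.hom
  haveI : PreconnectedSpace Q.left := q.left.surjective.denseRange.preconnectedSpace q.left.continuous
  haveI : Subsingleton Q.left := PreconnectedSpace.trivial_of_discrete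
  have hgq : g ≫ q = 1 := by
    apply Over.OverMorphism.ext
    exact ext_of_apply_closedPoint_eq Q.hom (Over.w (g ≫ q)) (Over.w (1 : Pt Q)) (Subsingleton.elim _ _)
  obtain ⟨e, he, -⟩ := hker.exists_lift g (toUnit _) (by rw [hgq, Hom.one_def])
  have h := (hmem g).mp ⟨e, he⟩
  rwa [toUnit_unique (toUnit (𝟙_ (Over (Sk k)))) (𝟙 _), Category.id_comp] at h

end H20Borel
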