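import Groth.Agent.H20Borel.FlagSpace
import Groth.Agent.H20Borel.FixSolvable
import Groth.Agent.H20Borel.FlagSolv
import Groth.Agent.H20Conj.Rep

/-!
# The action of an affine group on a flag variety: solvable stabilisers
-/

set_option autoImplicit false
set_option linter.style.haveILetI false
set_option backward.isDefEq.respectTransparency false
set_option backward.isDefEq.respectTransparency.types false

universe u

open CategoryTheory CategoryTheory.Limits MonoidalCategory CartesianMonoidalCategory MonObj AlgebraicGeometry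
open Groth.Agent.H27Witt Groth.Agent.H26Gr H20Mu TensorProduct

noncomputable section

namespace H20Borel

variable {k : Type u} [Field k]

local notation "Pt" X => 𝟙_ (Over (Sk k)) ⟶ X

section Move

variable {A P : Type u} [CommRing A] [AddCommGroup P] [Module A P] {r : ℕ}

/-- Moving a point of a Grassmannian by an automorphism. -/
def moveGr (e : P ≃ₗ[A] P) (N : Module.Grassmannian A P r) : Module.Grassmannian A P r where
  toSubmodule := N.toSubmodule.map e.toLinearMap
  finite_quotient := Module.Finite.equiv (Submodule.Quotient.equiv N.toSubmodule _ e rfl)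
  projective_quotient := Module.Projective.of_equiv (Submodule.Quotient.equiv N.toSubmodule _ e rfl)
  rankAtStalk_eq p :=
    (congrFun (Module.rankAtStalk_eq_of_equiv (Submodule.Quotient.equiv N.toSubmodule _ e rfl)) p).symm.trans
      (N.rankAtStalk_eq p)

theorem moveGr_toSubmodule (e : P ≃ₗ[A] P) (N : Module.Grassmannian A P r) :
    (moveGr e N).toSubmodule = N.toSubmodule.map e.toLinearMap := rfl

end Move

section Values

variable {G : Over (Sk k)} {A B : CommAlgCat.{u} k}

/-- The values at a point with values in an algebra. -/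
def gv (g : SR A ⟶ G) : Fn G →ₐ[k] A := (Fn.specAlg (k := k) A).symm.toAlgHom.comp (Fn.pull g)

theorem pull_smap (φ : A ⟶ B) (a : A) :
    Fn.pull (smap φ) (Fn.specAlg (k := k) A a) = Fn.specAlg (k := k) B (φ.hom a) :=
  congr($(Scheme.ΓSpecIso_inv_naturality (CommRingCat.ofHom φ.hom.toRingHom)).hom a).symm

theorem gv_smap (φ : A ⟶ B) (g : SR A ⟶ G) (a : Fn G) : gv (smap φ ≫ g) a = φ.hom (gv g a) := by
  show (Fn.specAlg (k := k) B).symm (Fn.pull (smap φ ≫ g) a) = φ.hom ((Fn.specAlg (k := k) A).symm (Fn.pull g a))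
  rw [AlgEquiv.symm_apply_eq, ← pull_smap, AlgEquiv.apply_symm_apply, Fn.pull_pull]

theorem gv_const (g : Pt G) (a : Fn G) : gv (toUnit (SR A) ≫ g) a = algebraMap k A (val g a) := by
  show (Fn.specAlg (k := k) A).symm (Fn.pull (toUnit (SR A) ≫ g) a) = _
  rw [H20Conj.pull_const, AlgEquiv.commutes]

theorem gv_one [GrpObj G] (a : Fn G) : gv (1 : SR A ⟶ G) a = algebraMap k A (val (1 : Pt G) a) := by
  rw [← gv_const, MonObj.comp_one]

end Values

section Flag

variable {N : ℕ}

/-- A full chain of subspaces gives a flag of its stabiliser. -/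
theorem isSolvable_stab_chain (W : Fin (N + 1) → Submodule k (H20Conj.Vec k N)) (hW : Monotone W)
    (hd : ∀ i, Module.finrank k (W i) = (i : ℕ)) {T : Subgroup (H20Conj.GLk k N)}
    (hT : ∀ h ∈ T, ∀ i, H20Conj.Stab (W i) h) : Group.IsSolvable T := by
  let W' : ℕ → Submodule k (H20Conj.Vec k N) := fun i => W ⟨min i N, by omega⟩
  have hbot : W' 0 = ⊥ := Submodule.finrank_eq_zero.mp ((hd _).trans (Nat.zero_min N))
  have htop : ∀ i, N ≤ i → W' i = ⊤ := fun i hi =>
    Submodule.eq_top_of_finrank_eq ((hd _).trans (by simp [H20Conj.Vec, Nat.min_eq_right hi]))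
  have hmono : Monotone W' := fun i j hij => hW (show min i N ≤ min j N by omega)
  refine isSolvable_of_flag
    { W := W', len := N, mono := hmono, zero := hbot, top := htop N le_rfl, scalar := fun h hh i => ?_ }
  rcases Nat.lt_or_ge i N with hi | hi
  · have hlt : W' i < W' (i + 1) := by
      refine (hmono (Nat.le_succ i)).lt_of_ne fun e => ?_
      have h2 : Module.finrank k (W' i) = Module.finrank k (W' (i + 1)) := by rw [e]
      simp only [W', hd] at h2
      omega
    obtain ⟨v, hv, hvi⟩ := SetLike.exists_of_lt hlt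
    have heq : W' i ⊔ Submodule.span k {v} = W' (i + 1) := by
      have hle : W' i ⊔ Submodule.span k {v} ≤ W' (i + 1) :=
        sup_le (hmono (Nat.le_succ i)) ((Submodule.span_singleton_le_iff_mem _ _).mpr hv)
      refine Submodule.eq_of_le_of_finrank_le hle ?_
      have hlt' : W' i < W' i ⊔ Submodule.span k {v} :=
        lt_of_le_of_ne le_sup_left fun e => hvi (e ▸ Submodule.mem_sup_right (Submodule.mem_span_singleton_self v))
      have h1 := Submodule.finrank_lt_finrank_of_lt hlt'
      simp only [W', hd] at h1 ⊢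
      omega
    have hhv : (h : H20Conj.Mat k N).mulVec v ∈ W' (i + 1) := hT h hh _ v hv
    rw [← heq, Submodule.mem_sup] at hhv
    obtain ⟨w, hw, z, hz, hwz⟩ := hhv
    obtain ⟨a, rfl⟩ := Submodule.mem_span_singleton.mp hz
    refine ⟨a, fun x hx => ?_⟩
    rw [← heq, Submodule.mem_sup] at hx
    obtain ⟨w', hw', z', hz', rfl⟩ := hx
    obtain ⟨c, rfl⟩ := Submodule.mem_span_singleton.mp hz'
    have e : (h : H20Conj.Mat k N).mulVec (w' + c • v) - a • (w' + c • v) =
        (h : H20Conj.Mat k N).mulVec w' - a • w' + c • w := by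
      rw [Matrix.mulVec_add, Matrix.mulVec_smul, ← hwz, smul_add, smul_add, smul_comm c a v]
      abel
    rw [e]
    exact add_mem (sub_mem (hT h hh _ w' hw') (Submodule.smul_mem _ _ hw')) (Submodule.smul_mem _ _ hw)
  · exact ⟨0, fun x _ => (htop i hi).symm ▸ Submodule.mem_top⟩

end Flag

variable (G : Over (Sk k)) [GrpObj G]

/-- **An affine group acts on a proper variety with solvable stabilisers.** -/
theorem exists_flag_action [IsAlgClosed k] [IsAffine G.left] [Smooth G.hom] :
    ∃ (X : Over (Sk k)) (a : AlgGrp.Action G X) (_ : Pt X), IsProper X.hom ∧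
      ∀ x : Pt X, Group.IsSolvable (stab a x) := by
  obtain ⟨N, φ, F, hinj, -, hF, -⟩ := H20Conj.exists_rep_gen G
  obtain ⟨X, E, he, hX⟩ := exists_flagSpace (R := k) N
  haveI : Smooth (G ⊗ G).hom := by
    haveI : Smooth (fst G G).left := MorphismProperty.pullback_fst (P := @Smooth) _ _ inferInstance
    rw [← Over.w (fst G G)]
    infer_instance
  haveI : IsAffine (G ⊗ G).left := inferInstanceAs (IsAffine (pullback G.hom G.hom))
  have hμ : ∀ a b, Fn.pull μ[G] (F a b) = ∑ r, Fn.pull (fst G G) (F a r) * Fn.pull (snd G G) (F r b) := fun a b => by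
    refine Fn.ext_points fun z => ?_
    show val z _ = val z _
    rw [map_sum, val_pull, show z ≫ μ[G] = (z ≫ fst G G) * (z ≫ snd G G) by rw [Hom.mul_def, ← comp_lift, lift_fst_snd,
      Category.comp_id], ← hF, map_mul, Units.val_mul, Matrix.mul_apply]
    exact Finset.sum_congr rfl fun r _ => by rw [map_mul, val_pull, val_pull, ← hF, ← hF]
  let Mx : ∀ A : CommAlgCat.{u} k, (SR A ⟶ G) → Matrix (Fin N) (Fin N) A := fun A g => Matrix.of fun a b => gv g (F a b)
  have hone : ∀ A, Mx A 1 = 1 := fun A => by
    ext a b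
    show gv (1 : SR A ⟶ G) (F a b) = _
    rw [gv_one, ← hF, map_one, Units.val_one, Matrix.one_apply, Matrix.one_apply]
    split <;> simp
  have hmul : ∀ A g h, Mx A (g * h) = Mx A g * Mx A h := fun A g h => by
    ext a b
    show (Fn.specAlg (k := k) A).symm (Fn.pull (g * h) (F a b)) = _
    rw [Hom.mul_def, ← Fn.pull_pull, hμ, map_sum, map_sum, Matrix.mul_apply]
    refine Finset.sum_congr rfl fun r _ => ?_
    rw [map_mul, map_mul, Fn.pull_pull, Fn.pull_pull, lift_fst, lift_snd]
    rfl
  let L : ∀ A : CommAlgCat.{u} k, (SR A ⟶ G) → Module.End A (A ⊗[k] (Fin N → k)) := fun A g =>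
    Matrix.toLinAlgEquiv (bb k A) (Mx A g)
  have hL1 : ∀ A, L A 1 = 1 := fun A => by
    show Matrix.toLinAlgEquiv (bb k A) (Mx A 1) = 1
    rw [hone, map_one]
  have hLm : ∀ A g h, L A (g * h) = L A g * L A h := fun A g h => by
    show Matrix.toLinAlgEquiv (bb k A) (Mx A (g * h)) = _
    rw [hmul, map_mul]
  let Le : ∀ A : CommAlgCat.{u} k, (SR A ⟶ G) → ((A ⊗[k] (Fin N → k)) ≃ₗ[A] (A ⊗[k] (Fin N → k))) := fun A g =>
    LinearEquiv.ofLinear (L A g) (L A g⁻¹) (by rw [← Module.End.mul_eq_comp, ← hLm, mul_inv_cancel, hL1]; rfl)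
      (by rw [← Module.End.mul_eq_comp, ← hLm, inv_mul_cancel, hL1]; rfl)
  have hcomm : ∀ (A B : CommAlgCat.{u} k) (ψ : A ⟶ B) (g : SR A ⟶ G) (v : A ⊗[k] (Fin N → k)),
      bc (Fin N → k) ψ.hom (L A g v) = L B (smap ψ ≫ g) (bc (Fin N → k) ψ.hom v) := fun A B ψ g v => by
    rw [← (bb k A).sum_repr v]
    simp only [map_sum, map_smul, bc_smul, bc_bb, L, Matrix.toLinAlgEquiv_self]
    refine Finset.sum_congr rfl fun i _ => ?_
    refine congrArg _ (Finset.sum_congr rfl fun j _ => ?_)
    show ψ.hom (gv g (F j i)) • _ = gv (smap ψ ≫ g) (F j i) • _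
    rw [gv_smap]
  let mv : ∀ A : CommAlgCat.{u} k, (SR A ⟶ G) → FlagPts k N A → FlagPts k N A := fun A g w =>
    ⟨fun i => moveGr (Le A g) (w.1 i), fun i j hij => Submodule.map_mono (w.2 i j hij)⟩
  have hnat : ∀ (A B : CommAlgCat.{u} k) (ψ : A ⟶ B) (g : SR A ⟶ G) (r : ℕ)
      (w : Module.Grassmannian A (A ⊗[k] (Fin N → k)) r),
      Module.Grassmannian.map ψ.hom (moveGr (Le A g) w) =
        moveGr (Le B (smap ψ ≫ g)) (Module.Grassmannian.map ψ.hom w) := fun A B ψ g r w => by
    refine Module.Grassmannian.ext ?_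
    rw [map_toSubmodule_eq_span, moveGr_toSubmodule, moveGr_toSubmodule, map_toSubmodule_eq_span,
      Submodule.map_span, Submodule.map_coe, Set.image_image, Set.image_image]
    exact congrArg _ (Set.image_congr fun v _ => hcomm A B ψ g v)
  obtain ⟨act, hact⟩ := exists_hom_of_points (X := G ⊗ X) (Y := X)
    (fun A p => (E A).symm (mv A (p ≫ fst G X) (E A (p ≫ snd G X))))
    (fun A B ψ p p' h => by
      obtain rfl : p' = smap ψ ≫ p := Over.OverMorphism.ext h
      refine congrArg CommaMorphism.left (?_ : _ = smap ψ ≫ (E A).symm (mv A (p ≫ fst G X) (E A (p ≫ snd G X))))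
      refine (E B).injective (Subtype.ext (funext fun i => ?_))
      rw [Equiv.apply_symm_apply, he A B ψ ((E A).symm _) (smap ψ ≫ (E A).symm _) rfl, Equiv.apply_symm_apply]
      show moveGr _ _ = Module.Grassmannian.map ψ.hom (moveGr _ _)
      rw [hnat, Category.assoc, Category.assoc, he A B ψ (p ≫ snd G X) (smap ψ ≫ p ≫ snd G X) rfl])
  have hact' : ∀ (A : CommAlgCat.{u} k) (g : SR A ⟶ G) (x : SR A ⟶ X), E A (lift g x ≫ act) = mv A g (E A x) :=
    fun A g x => by rw [hact, Equiv.apply_symm_apply, lift_fst, lift_snd]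
  have hmv1 : ∀ A w, mv A 1 w = w := fun A w => Subtype.ext (funext fun i => Module.Grassmannian.ext (by
    show (w.1 i).toSubmodule.map (L A 1) = _
    rw [hL1]
    exact Submodule.map_id _))
  have hmvm : ∀ A g h w, mv A (g * h) w = mv A g (mv A h w) := fun A g h w =>
    Subtype.ext (funext fun i => Module.Grassmannian.ext (by
      show (w.1 i).toSubmodule.map (L A (g * h)) = ((w.1 i).toSubmodule.map (L A h)).map (L A g)
      rw [← Submodule.map_comp, hLm]
      rfl))
  let a : AlgGrp.Action G X :=
    { act := act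
      one_act := hom_ext_points fun A p => (E A).injective (by
        have e : p ≫ (η[G] ▷ X) = lift (1 : SR A ⟶ G) (p ≫ snd _ X) := by
          apply CartesianMonoidalCategory.hom_ext
          · rw [lift_fst, Category.assoc, whiskerRight_fst, ← Category.assoc, Hom.one_def,
              toUnit_unique (p ≫ fst _ X) (toUnit _)]
          · rw [lift_snd, Category.assoc, whiskerRight_snd]
        rw [← Category.assoc, e, hact', hmv1, leftUnitor_hom])
      mul_act := hom_ext_points fun A p => (E A).injective (by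
        let g₁ := p ≫ fst (G ⊗ G) X ≫ fst G G
        let g₂ := p ≫ fst (G ⊗ G) X ≫ snd G G
        let x := p ≫ snd (G ⊗ G) X
        have e1 : p ≫ (μ[G] ▷ X) = lift (g₁ * g₂) x := by
          apply CartesianMonoidalCategory.hom_ext
          · rw [lift_fst, Category.assoc, whiskerRight_fst, Hom.mul_def]
            simp only [g₁, g₂, ← Category.assoc, ← comp_lift]
            simp
          · rw [lift_snd, Category.assoc, whiskerRight_snd]
        have e2 : p ≫ (α_ G G X).hom ≫ (G ◁ act) = lift g₁ (lift g₂ x ≫ act) := by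
          apply CartesianMonoidalCategory.hom_ext
          · simp [g₁]
          · rw [lift_snd, Category.assoc, Category.assoc, whiskerLeft_snd, ← Category.assoc (α_ G G X).hom,
              ← Category.assoc p]
            refine congrArg (· ≫ act) ?_
            apply CartesianMonoidalCategory.hom_ext <;> simp [g₂, x]
        rw [← Category.assoc, e1, hact', hmvm, ← Category.assoc, ← Category.assoc, Category.assoc p, e2, hact',
          hact']) }
  let K : CommAlgCat.{u} k := CommAlgCat.of k k
  let P₀ : Over (Sk k) := SR K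
  haveI : IsIso (toUnit P₀) := by
    haveI : IsIso P₀.hom := by
      show IsIso (Spec.map (CommRingCat.ofHom (algebraMap k k)))
      rw [Algebra.algebraMap_self]
      exact inferInstanceAs (IsIso (Spec.map (𝟙 (CommRingCat.of k))))
    haveI : IsIso ((Over.forget _).map (toUnit P₀)) := inferInstanceAs (IsIso P₀.hom)
    exact isIso_of_reflects_iso _ (Over.forget _)
  have hrk : ∀ (w : FlagPts k N K) (i : Fin (N + 1)),
      Module.finrank k ((w.1 i).toSubmodule.map ((bb k K).equivFun.toLinearMap)) = (i : ℕ) := fun w i => by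
    refine (LinearEquiv.finrank_map_eq (bb k K).equivFun (w.1 i).toSubmodule).trans ?_
    have h1 : Module.finrank k ((K ⊗[k] (Fin N → k)) ⧸ (w.1 i).toSubmodule) = N - i := by
      obtain ⟨p⟩ := (inferInstance : Nonempty (PrimeSpectrum k))
      exact ((Module.rankAtStalk_eq_finrank_of_free (R := k) (M := (K ⊗[k] (Fin N → k)) ⧸ (w.1 i).toSubmodule) ▸ (w.1 i).rankAtStalk_eq p :))
    have h2 := Submodule.finrank_quotient_add_finrank (w.1 i).toSubmodule
    rw [h1, Module.finrank_eq_card_basis (bb k K), Fintype.card_fin] at h2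
    have := i.2
    omega
  refine ⟨X, a, inv (toUnit P₀) ≫ (E K).symm ?_, hX, fun x => ?_⟩
  · -- a flag exists
    let S : Fin (N + 1) → Submodule K (K ⊗[k] (Fin N → k)) := fun i =>
      Submodule.span K ((bb k K) '' {j | (j : ℕ) < i})
    have hS : ∀ i : Fin (N + 1), Module.finrank k (S i) = (i : ℕ) := fun i => by
      show Module.finrank K (S i) = _
      rw [show S i = Submodule.span K (Set.range fun j : {j : Fin N // (j : ℕ) < i} => bb k K j) from
        congrArg (Submodule.span K) (Set.image_eq_range _ _)]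
      exact (finrank_span_eq_card (R := K) ((bb k K).linearIndependent.comp _ Subtype.val_injective)).trans
        (Fintype.card_fin_lt_of_le (by have := i.2; omega))
    refine ⟨fun i =>
      { toSubmodule := S i
        finite_quotient := inferInstanceAs (Module.Finite k _)
        projective_quotient := inferInstanceAs (Module.Projective k _)
        rankAtStalk_eq := fun p => ?_ }, fun i j hij => ?_⟩
    · have h2 := Submodule.finrank_quotient_add_finrank (R := k) (S i)
      rw [hS, Module.finrank_eq_card_basis (bb k K), Fintype.card_fin] at h2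
      refine (congrFun (Module.rankAtStalk_eq_finrank_of_free (R := k)) p).trans ?_
      exact Nat.eq_sub_of_add_eq h2
    · exact Submodule.span_mono (Set.image_mono fun l (hl : (l : ℕ) < i) => hl.trans_le hij)
  · -- solvable stabilisers
    let w := E K (toUnit P₀ ≫ x)
    let W : Fin (N + 1) → Submodule k (H20Conj.Vec k N) := fun i =>
      (w.1 i).toSubmodule.map (bb k K).equivFun.toLinearMap
    have hst : ∀ g ∈ stab a x, ∀ i, H20Conj.Stab (W i) (φ g) := by
      intro g hg i
      have h : E K (toUnit P₀ ≫ (lift g x ≫ act)) = w := by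
        rw [show lift g x ≫ act = x from hg]
      rw [← Category.assoc, comp_lift, hact'] at h
      have h' : (w.1 i).toSubmodule.map (L K (toUnit P₀ ≫ g)) = (w.1 i).toSubmodule :=
        congrArg (fun v : FlagPts k N K => (v.1 i).toSubmodule) h
      rintro _ ⟨v, hv, rfl⟩
      refine ⟨L K (toUnit P₀ ≫ g) v, h'.le ⟨v, hv, rfl⟩, ?_⟩
      have hM : Mx K (toUnit P₀ ≫ g) = (φ g : H20Conj.Mat k N) := by
        ext a b
        show gv (toUnit P₀ ≫ g) (F a b) = _
        rw [gv_const, hF]
        rfl
      show (bb k K).equivFun (Matrix.toLinAlgEquiv (bb k K) (Mx K (toUnit P₀ ≫ g)) v) = _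
      rw [hM]
      refine (LinearMap.toMatrix_mulVec_repr (bb k K) (bb k K) _ v).symm.trans ?_
      erw [LinearMap.toMatrixAlgEquiv_toLinAlgEquiv]
      rfl
    let T : Subgroup (H20Conj.GLk k N) := ⨅ i, H20Conj.stabSub (W i)
    haveI : Group.IsSolvable T := isSolvable_stab_chain W (fun i j hij => Submodule.map_mono (w.2 i j hij))
      (hrk w) fun h hh i => (Subgroup.mem_iInf.mp hh i : _)
    let ψ : stab a x →* T :=
      (φ.comp (stab a x).subtype).codRestrict T fun g => Subgroup.mem_iInf.mpr fun i => hst g.1 g.2 i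
    exact Group.isSolvable_of_isSolvable_injective (f := ψ) fun g h e => Subtype.ext (hinj (congrArg Subtype.val e))

end H20Borel
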