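import Groth.Agent.H20Borel.CompPts
import Groth.Agent.H20Borel.FixPoint
import Groth.Agent.H20Borel.FlagAct
import Groth.Agent.H20Borel.Sections
import Groth.Agent.H18Descent.Basic
import Groth.Agent.H13AlgSp.EtaleLocally
import Groth.Agent.S8022
import Groth.Agent.S8014
import Groth.Prelude.Def_Red2

/-!
# The quotient by a Borel subgroup is proper
-/

set_option autoImplicit false
set_option linter.style.haveILetI false
set_option backward.isDefEq.respectTransparency false
set_option maxHeartbeats 1000000
set_option synthInstance.maxHeartbeats 400000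

universe u

open CategoryTheory CategoryTheory.Limits MonoidalCategory CartesianMonoidalCategory MonObj AlgebraicGeometry
open Groth.Agent.H27Witt H20Mu H20Conj

noncomputable section

namespace H20Borel

variable {k : Type u} [Field k] [IsAlgClosed k]

local notation "Pt" X => 𝟙_ (Over (Sk k)) ⟶ X

variable {G : Over (Sk k)} [GrpObj G] [IsAffine G.left] [Smooth G.hom]

/-- The orbit of a point inside an equivariant subscheme. -/
theorem range_orbitMap_of_equivariant {Y X : Over (Sk k)} (b : AlgGrp.Action G Y) (a : AlgGrp.Action G X)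
    (f : Y ⟶ X) (hf : (G ◁ f) ≫ a.act = b.act ≫ f) (y : Pt Y) :
    a.orbitMap (y ≫ f) = b.orbitMap y ≫ f := by
  rw [AlgGrp.Action.orbitMap, AlgGrp.Action.orbitMap, Category.assoc, ← hf, ← Category.assoc _ (G ◁ f), lift_whiskerLeft,
    Category.assoc]

/-- A quotient whose base point has a closed orbit embeds as a closed subscheme. -/
theorem exists_orbit_closed {X : Over (Sk k)} [IsProper X.hom] (a : AlgGrp.Action G X) (x : Pt X)
    (hcl : IsClosed (Set.range (a.orbitMap x).left.base)) :
    ∃ (E : Over (Sk k)) (_ : GrpObj E) (i : E ⟶ G) (Y : Over (Sk k)) (b : AlgGrp.Action G Y) (y : Pt Y) (f : Y ⟶ X),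
      IsMonHom i ∧ IsClosedImmersion i.left ∧
      (∀ {T : Over (Sk k)} (u : T ⟶ G), (∃ e : T ⟶ E, e ≫ i = u) ↔ lift u (toUnit T ≫ x) ≫ a.act = toUnit T ≫ x) ∧
      AGF.IsQuotient i Y b y ∧ (G ◁ f) ≫ a.act = b.act ≫ f ∧ y ≫ f = x ∧ IsClosedImmersion f.left ∧ IsProper Y.hom := by
  haveI : LocallyOfFiniteType G.hom := inferInstance
  haveI : QuasiCompact G.hom := inferInstance
  haveI : LocallyOfFiniteType X.hom := inferInstance
  obtain ⟨E, gE, i, hi, hicl, sq, hmem⟩ := exists_stabilizer a x
  letI := gE
  haveI := hi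
  obtain ⟨Y, b, y, f, hY, hf, hyf, himm⟩ := Groth.Agent.S8022.result k G X E a x i sq
  haveI := hY.2.2.1
  haveI := himm
  have e : a.orbitMap x = b.orbitMap y ≫ f := by rw [← range_orbitMap_of_equivariant b a f hf y, hyf]
  haveI : IsClosedImmersion f.left := IsClosedImmersion.of_isPreimmersion f.left (by
    rw [e] at hcl
    rw [Over.comp_left, Scheme.Hom.comp_base, TopCat.coe_comp, Set.range_comp,
      (b.orbitMap y).left.surjective.range_eq, Set.image_univ] at hcl
    exact hcl)
  refine ⟨E, gE, i, Y, b, y, f, hi, hicl, hmem, hY, hf, hyf, inferInstance, ?_⟩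
  rw [← Over.w f]
  infer_instance

variable [ConnectedSpace G.left]

/-- **The quotient of a connected affine group by a Borel subgroup is proper.** -/
theorem isProper_of_isBorelOver {B : Over (Sk k)} [GrpObj B] (iB : B ⟶ G) (hB : Red.IsBorelOver k iB)
    {X : Over (Sk k)} (a : AlgGrp.Action G X) (o : Pt X) (hX : AGF.IsQuotient iB X a o) : IsProper X.hom := by
  classical
  obtain ⟨hm, hci, hsm, hconn, hsol, hmax⟩ := hB
  replace hmax := PLift.up hmax -- kept out of instance search
  haveI := hm; haveI := hci; haveI := hsm; haveI := hconn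
  haveI : IsAffine B.left := isAffine_of_isAffineHom iB.left
  haveI : LocallyOfFiniteType G.hom := inferInstance
  haveI : QuasiCompact G.hom := inferInstance
  haveI : LocallyOfFiniteType B.hom := inferInstance
  haveI : QuasiCompact B.hom := inferInstance
  haveI : CompactSpace G.left := QuasiCompact.compactSpace_of_compactSpace G.hom
  haveI : Mono iB := Over.mono_of_mono_left _
  obtain ⟨F, act, p₀, hF, hsolv⟩ := exists_flag_action G
  haveI := hF
  -- an orbit of minimal dimension
  haveI : Nonempty (Pt F) := ⟨p₀⟩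
  let dimF : (Pt F) → WithBot ℕ∞ := fun x => topologicalKrullDim (Set.range (act.orbitMap x).left.base)
  let m := Function.argmin dimF
  have hclosed : ∀ x, dimF x ≤ dimF m → IsClosed (Set.range (act.orbitMap x).left.base) := fun x hx => by
    by_contra h
    obtain ⟨z, -, hlt⟩ := exists_boundary act x h
    exact Function.not_lt_argmin dimF z (hlt.trans_le hx)
  obtain ⟨E₀, gE₀, i₀, Y₀, b₀, y₀, f₀, -, -, -, hY₀, hf₀, hy₀, hf₀c, hY₀p⟩ := exists_orbit_closed act m (hclosed m le_rfl)
  haveI := hY₀.2.2.1
  haveI := hY₀p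
  obtain ⟨y, hy⟩ := exists_fixed hsol (pullAct b₀ iB) y₀
  let x : Pt F := y ≫ f₀
  have hsub : Set.range (act.orbitMap x).left.base ⊆ Set.range (act.orbitMap m).left.base := by
    rw [show act.orbitMap x = b₀.orbitMap y ≫ f₀ from range_orbitMap_of_equivariant b₀ act f₀ hf₀ y,
      show act.orbitMap m = b₀.orbitMap y₀ ≫ f₀ by rw [← range_orbitMap_of_equivariant b₀ act f₀ hf₀ y₀, hy₀]]
    rintro _ ⟨g, rfl⟩
    obtain ⟨g', hg'⟩ := (b₀.orbitMap y₀).left.surjective ((b₀.orbitMap y).left g)
    refine ⟨g', ?_⟩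
    show f₀.left ((b₀.orbitMap y₀).left g') = f₀.left ((b₀.orbitMap y).left g)
    rw [hg']
  have hxcl := hclosed x ((Topology.IsEmbedding.inclusion hsub).isInducing.topologicalKrullDim_le)
  obtain ⟨E, gE, i, Y, b, y₁, f, hi, hicl, hmem, hY, hf, hyf, hfc, hYp⟩ := exists_orbit_closed act x hxcl
  letI := gE
  haveI := hi; haveI := hicl; haveI := hfc; haveI := hYp
  haveI : Mono i := Over.mono_of_mono_left _
  haveI : Mono f := Over.mono_of_mono_left _
  have hBx : ∀ z : Pt B, Fixes act (z ≫ iB) x := fun z => by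
    have h := hy z
    rw [Fixes, lift_pullAct] at h
    show lift (z ≫ iB) x ≫ act.act = x
    conv_rhs => rw [show x = y ≫ f₀ from rfl, ← h]
    rw [Category.assoc, ← hf₀, ← Category.assoc _ (G ◁ f₀), lift_whiskerLeft]
  -- `B` lies in the stabiliser
  obtain ⟨j, hj⟩ := (hmem iB).mpr (hom_ext_pts fun z => by
    have hu : toUnit (𝟙_ (Over (Sk k))) = 𝟙 _ := toUnit_unique _ _
    simp only [← Category.assoc, comp_lift, comp_toUnit, hu, Category.id_comp]
    exact hBx z)
  have hfix : ∀ (T : Over (Sk k)) (h : T ⟶ B), lift (h ≫ iB) (toUnit T ≫ y₁) ≫ b.act = toUnit T ≫ y₁ := fun T h => by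
    rw [← cancel_mono f, Category.assoc, ← hf, ← Category.assoc _ (G ◁ f), lift_whiskerLeft, Category.assoc, hyf]
    exact (hmem (h ≫ iB)).mp ⟨h ≫ j, by rw [Category.assoc, hj]⟩
  haveI := hY.1; haveI := hY.2.1; haveI := hY.2.2.1
  haveI := hX.1; haveI := hX.2.1; haveI := hX.2.2.1
  haveI : LocallyOfFiniteType Y.hom := inferInstance
  haveI : QuasiCompact Y.hom := inferInstance
  obtain ⟨π, ⟨-, hπ⟩, -⟩ := Groth.Agent.S8014.result k G B iB X a o hX Y b y₁ hfix
  haveI : IsSeparated X.hom := isSeparated_of_isQuotient iB a o hX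
  -- the points of `B` have finite index in the stabiliser
  set R : Subgroup (Pt G) := stab act x with hR
  haveI : Group.IsSolvable R := hsolv x
  obtain ⟨R₀, hR₀R, hR₀p, hR₀fin, hR₀max⟩ := exists_component R fun g hg => clo_le_stab act le_rfl hg
  have hBR₀ : (postHom iB).range ≤ R₀ :=
    hR₀max _ (by rintro _ ⟨z, rfl⟩; exact hBx z) (isPrime_range iB)
  have hcloR : clo R₀ ≤ R := clo_le_stab act hR₀R
  obtain ⟨H, gH, iH, hmi, hcH, -, hsmH, hconnH, hsolH, -, hlift⟩ := exists_subgroup_scheme R₀ hR₀p
    (Group.isSolvable_of_isSolvable_injective (f := Subgroup.inclusion hcloR) (Subgroup.inclusion_injective hcloR))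
  letI := gH
  haveI := hmi
  have hmemclo : ∀ g ∈ R₀, g ∈ clo R₀ := fun g hg r hr => mem_vanish.mp hr g hg
  haveI : AlgebraicGeometry.IsReduced B.left := Groth.Agent.H13AlgSp.isReduced_of_smooth_mor B.hom
  obtain ⟨φ, hφ⟩ := hlift iB fun z => hmemclo _ (hBR₀ ⟨z, rfl⟩)
  haveI := hmax.down H iH φ hcH hsmH hconnH hsolH hφ
  have hR₀B : ∀ g ∈ R₀, ∃ z : Pt B, z ≫ iB = g := fun g hg => by
    haveI : AlgebraicGeometry.IsReduced (𝟙_ (Over (Sk k))).left :=
      inferInstanceAs (AlgebraicGeometry.IsReduced (Spec (CommRingCat.of k)))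
    haveI : IsAffine (𝟙_ (Over (Sk k))).left := inferInstanceAs (IsAffine (Spec (CommRingCat.of k)))
    haveI : LocallyOfFiniteType (𝟙_ (Over (Sk k))).hom := inferInstanceAs (LocallyOfFiniteType (𝟙 (Sk k)))
    obtain ⟨p, hp⟩ := hlift g fun z => by
      rw [toUnit_unique z (𝟙 _), Category.id_comp]
      exact hmemclo g hg
    exact ⟨p ≫ inv φ, by rw [Category.assoc, ← hp, ← hφ, IsIso.inv_hom_id_assoc]⟩
  haveI : (R₀.subgroupOf R).FiniteIndex := hR₀fin
  haveI : Finite (R ⧸ R₀.subgroupOf R) := Subgroup.finite_quotient_of_finiteIndex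
  -- the finitely many sections of the base change along the orbit map
  let q := a.orbitMap o
  let qY := b.orbitMap y₁
  have hsect : ∀ s : R, (rg G (s : Pt G) ≫ q) ≫ π = qY := fun s => hom_ext_pts fun g => by
    rw [Category.assoc, hπ, ← Category.assoc, comp_rg, ← cancel_mono f, Category.assoc, Category.assoc,
      ← range_orbitMap_of_equivariant b act f hf y₁, hyf, pt_orbitMap, pt_orbitMap, mul_act', show lift (s : Pt G) x ≫ act.act = x from s.2]
  let σ : R ⧸ R₀.subgroupOf R → (G.left ⟶ pullback π.left qY.left) := fun c =>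
    pullback.lift ((rg G ((c.out : R) : Pt G)) ≫ q).left (𝟙 _) (by
      rw [← Over.comp_left, hsect, Category.id_comp])
  haveI : IsSeparated π.left := by
    haveI : IsSeparated (π.left ≫ Y.hom) := by rw [Over.w]; infer_instance
    exact IsSeparated.of_comp π.left Y.hom
  haveI : IsProper (pullback.snd π.left qY.left) := by
    have hcov : (Set.univ : Set ↥(pullback π.left qY.left)) ⊆ ⋃ c, Set.range (σ c) := by
      haveI : LocallyOfFiniteType π.left := by
        haveI : LocallyOfFiniteType (π.left ≫ Y.hom) := by rw [Over.w]; infer_instance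
        exact locallyOfFiniteType_of_comp π.left Y.hom
      haveI : LocallyOfFiniteType (pullback.snd π.left qY.left ≫ G.hom) := inferInstance
      haveI := LocallyOfFiniteType.jacobsonSpace (pullback.snd π.left qY.left ≫ G.hom)
      have hZc : IsClosed (⋃ c, Set.range (σ c)) := isClosed_iUnion_of_finite fun c => by
        haveI : IsClosedImmersion (σ c ≫ pullback.snd π.left qY.left) := by
          rw [pullback.lift_snd]; infer_instance
        haveI := IsClosedImmersion.of_comp (σ c) (pullback.snd π.left qY.left)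
        exact (σ c).isClosedEmbedding.isClosed_range
      rw [← closure_closedPoints (X := ↥(pullback π.left qY.left))]
      refine closure_minimal (fun z hz => ?_) hZc
      let w := pointOfClosedPoint (pullback.snd π.left qY.left ≫ G.hom) z hz
      have hw : w ≫ pullback.snd π.left qY.left ≫ G.hom = 𝟙 _ := pointOfClosedPoint_comp _ _ _
      let gk : Pt G := Over.homMk (w ≫ pullback.snd π.left qY.left) (by rw [Category.assoc]; exact hw)
      let xk : Pt X := Over.homMk (w ≫ pullback.fst π.left qY.left) (by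
        rw [Category.assoc, ← Over.w π, pullback.condition_assoc, Over.w qY]
        exact hw)
      have hxg : xk ≫ π = gk ≫ qY := Over.OverMorphism.ext (by
        show (w ≫ pullback.fst π.left qY.left) ≫ π.left = (w ≫ pullback.snd π.left qY.left) ≫ qY.left
        rw [Category.assoc, Category.assoc, pullback.condition])
      obtain ⟨g, hg⟩ := exists_pt_lift q xk
      have hgg : g ≫ qY = gk ≫ qY := by rw [← hxg, ← hg, Category.assoc, hπ]
      obtain ⟨n, hn⟩ := (Groth.Agent.H19Grp.QuotientDesc.comp_orbitMap_eq_iff b y₁ i hY gk g).1 hgg.symm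
      have hnR : n ≫ i ∈ R := by
        have h := (hmem (n ≫ i)).mp ⟨n, rfl⟩
        rwa [toUnit_unique (toUnit _) (𝟙 _), Category.id_comp] at h
      let r : R := ⟨n ≫ i, hnR⟩
      let c : R ⧸ R₀.subgroupOf R := QuotientGroup.mk r
      obtain ⟨t, ht⟩ := hR₀B _ (Subgroup.mem_subgroupOf.mp (QuotientGroup.eq.mp (QuotientGroup.out_eq' c)))
      have hgeq : g = gk * ((c.out : R) : Pt G) * (t ≫ iB) := by
        rw [hn, ht, _root_.mul_assoc]
        congr 1
        show ((r : R) : Pt G) = _
        rw [Subgroup.coe_mul, Subgroup.coe_inv, mul_inv_cancel_left]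
      have hσ : gk.left ≫ σ c = w := by
        refine pullback.hom_ext ?_ ?_
        · rw [Category.assoc, pullback.lift_fst, ← Over.comp_left]
          refine congrArg CommaMorphism.left (?_ : gk ≫ rg G ((c.out : R) : Pt G) ≫ q = xk)
          rw [← Category.assoc, comp_rg, ← hg, hgeq]
          exact (Groth.Agent.H19Grp.QuotientDesc.comp_orbitMap_eq_iff a o iB hX _ _).2 ⟨t, rfl⟩
        · rw [Category.assoc, pullback.lift_snd, Category.comp_id]
          rfl
      refine Set.mem_iUnion.2 ⟨c, gk.left (IsLocalRing.closedPoint k), ?_⟩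
      rw [← Scheme.Hom.comp_apply, hσ]
      exact pointOfClosedPoint_apply _ _ _ _
    haveI : UniversallyClosed (pullback.snd π.left qY.left) :=
      universallyClosed_of_sections _ σ (fun c => pullback.lift_snd _ _ _) hcov
    haveI : LocallyOfFiniteType π.left := by
      haveI : LocallyOfFiniteType (π.left ≫ Y.hom) := by rw [Over.w]; infer_instance
      exact locallyOfFiniteType_of_comp π.left Y.hom
    exact {}
  haveI : QuasiCompact qY.left := by
    haveI : QuasiCompact (qY.left ≫ Y.hom) := by rw [Over.w]; infer_instance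
    exact QuasiCompact.of_comp qY.left Y.hom
  haveI : Flat qY.left := hY.2.1
  haveI : Surjective qY.left := hY.2.2.1
  haveI : IsProper π.left := MorphismProperty.DescendsAlong.of_isPullback (P := @IsProper)
    (Q := (@Surjective ⊓ @Flat ⊓ @QuasiCompact : MorphismProperty Scheme.{u}))
    (IsPullback.of_hasPullback qY.left π.left) ⟨⟨inferInstance, inferInstance⟩, inferInstance⟩ (by
      rw [← pullbackSymmetry_hom_comp_snd qY.left π.left]
      infer_instance)
  rw [← Over.w π]
  infer_instance

end H20Borel
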