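import Groth.Agent.H20Borel.LieKolchin
import Groth.Agent.H20Conj.Cone

/-!
# A solvable connected group fixes a line in an invariant closed cone
-/

set_option autoImplicit false

universe u

noncomputable section

open Matrix H20Conj

namespace H20Borel

variable {k : Type u} [Field k] {N : ℕ}

/-- The entries and the entries of the inverse. -/
def coord (S : Subgroup (GLk k N)) : (Fin N × Fin N) ⊕ (Fin N × Fin N) → (S → k) :=
  Sum.elim (fun ab g => ((g : GLk k N) : Mat k N) ab.1 ab.2) (fun ab g => (((g⁻¹ : S) : GLk k N) : Mat k N) ab.1 ab.2)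

/-- The regular functions. -/
def regAlg (S : Subgroup (GLk k N)) : Subalgebra k (S → k) := Algebra.adjoin k (Set.range (coord S))

theorem mulVec_mem (S : Subgroup (GLk k N)) (φ : Vec k N →ₗ[k] k) (v : Vec k N) :
    (fun g : S => φ (((g : GLk k N) : Mat k N) *ᵥ v)) ∈ regAlg S ∧
      (fun g : S => φ ((((g⁻¹ : S) : GLk k N) : Mat k N) *ᵥ v)) ∈ regAlg S := by
  have key : ∀ (c : Fin N × Fin N → (Fin N × Fin N) ⊕ (Fin N × Fin N)) (M : S → Mat k N),
      (∀ ab g, coord S (c ab) g = M g ab.1 ab.2) → (fun g : S => φ (M g *ᵥ v)) ∈ regAlg S := by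
    intro c M hc
    have e : (fun g : S => φ (M g *ᵥ v)) = ∑ a, ∑ b, (v b * φ (Pi.single a 1)) • coord S (c (a, b)) := by
      funext g
      conv_lhs => rw [pi_eq_sum_univ' (M g *ᵥ v)]
      simp only [map_sum, map_smul, Finset.sum_apply, Pi.smul_apply, hc, Matrix.mulVec, dotProduct, smul_eq_mul,
        Finset.sum_mul]
      exact Finset.sum_congr rfl fun a _ => Finset.sum_congr rfl fun b _ => by ring
    rw [e]
    exact sum_mem fun a _ => sum_mem fun b _ => Subalgebra.smul_mem _ (Algebra.subset_adjoin (Set.mem_range_self _)) _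
  exact ⟨key Sum.inl (fun g => ((g : GLk k N) : Mat k N)) fun _ _ => rfl,
    key Sum.inr (fun g => (((g⁻¹ : S) : GLk k N) : Mat k N)) fun _ _ => rfl⟩

variable [IsAlgClosed k]

/-- A semi-invariant functional. -/
theorem exists_semiinvariant {S : Subgroup (GLk k N)} (hS : IsIrredFn (regAlg S)) [Group.IsSolvable S]
    {W L : Submodule k (Vec k N)} (hW : ∀ g ∈ S, Stab W g) (hL : ∀ g ∈ S, Stab L g) (hWL : W < L) :
    ∃ φ : Vec k N →ₗ[k] k, (∀ w ∈ W, φ w = 0) ∧ (∃ x ∈ L, φ x ≠ 0) ∧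
      ∀ g ∈ S, ∀ x ∈ L, φ x = 0 → φ ((g : Mat k N) *ᵥ x) = 0 := by
  classical
  obtain ⟨M, ⟨hMS, hWM, hML⟩, hmax⟩ := set_has_maximal_iff_noetherian.mpr inferInstance
    {M : Submodule k (Vec k N) | (∀ g ∈ S, Stab M g) ∧ W ≤ M ∧ M < L} ⟨W, hW, le_rfl, hWL⟩
  let ML : Submodule k L := M.comap L.subtype
  let rL : S →* Module.End k L :=
    { toFun := fun g => ((g : GLk k N) : Mat k N).mulVecLin.restrict fun x hx => hL g.1 g.2 x hx
      map_one' := LinearMap.ext fun x => Subtype.ext (by simp)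
      map_mul' := fun g h => LinearMap.ext fun x => Subtype.ext (by simp [Matrix.mulVec_mulVec]) }
  have hMst : ∀ g : S, ML ≤ ML.comap (rL g) := fun g x hx => hMS g.1 g.2 _ hx
  let ρ : S →* Module.End k (L ⧸ ML) :=
    { toFun := fun g => ML.mapQ ML (rL g) (hMst g)
      map_one' := by ext x; simp
      map_mul' := fun g h => by ext x; simp }
  have hρ : IsRegRep (regAlg S) ρ := by
    intro φ v
    obtain ⟨x, rfl⟩ := ML.mkQ_surjective v
    obtain ⟨ψ, hψ⟩ := LinearMap.exists_extend (φ.comp ML.mkQ)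
    have e : ∀ g : S, φ (ρ g (ML.mkQ x)) = ψ (((g : GLk k N) : Mat k N) *ᵥ (x : Vec k N)) := fun g =>
      (LinearMap.congr_fun hψ (rL g x)).symm
    simp only [e]
    exact mulVec_mem S ψ x
  haveI : Nontrivial (L ⧸ ML) := Submodule.Quotient.nontrivial_iff.mpr fun h => by
    refine hML.not_ge fun x hx => ?_
    have : (⟨x, hx⟩ : L) ∈ ML := h ▸ Submodule.mem_top
    exact this
  have hsimple : ∀ U : Submodule k (L ⧸ ML), (∀ g, ∀ v ∈ U, ρ g v ∈ U) → U = ⊥ ∨ U = ⊤ := by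
    intro U hU
    by_contra hcon
    push Not at hcon
    let M' : Submodule k (Vec k N) := (U.comap ML.mkQ).map L.subtype
    have hMM' : M < M' := by
      refine lt_of_le_of_ne (fun x hx => ⟨⟨x, hML.le hx⟩, ?_, rfl⟩) fun hh => hcon.1 (eq_bot_iff.mpr fun u hu => ?_)
      · show ML.mkQ _ ∈ U
        rw [Submodule.mkQ_apply, (Submodule.Quotient.mk_eq_zero ML).mpr (show _ ∈ ML from hx)]
        exact U.zero_mem
      · obtain ⟨x, rfl⟩ := ML.mkQ_surjective u
        rw [Submodule.mem_bot, Submodule.mkQ_apply, Submodule.Quotient.mk_eq_zero]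
        exact hh.ge ⟨x, hu, rfl⟩
    refine hmax M' ⟨?_, hWM.trans hMM'.le, lt_of_le_of_ne ?_ fun hh => hcon.2 (eq_top_iff.mpr fun u _ => ?_)⟩ hMM'
    · rintro g hg _ ⟨x, hx, rfl⟩
      exact ⟨rL ⟨g, hg⟩ x, hU ⟨g, hg⟩ _ hx, rfl⟩
    · rintro _ ⟨x, -, rfl⟩
      exact x.2
    · obtain ⟨x, rfl⟩ := ML.mkQ_surjective u
      obtain ⟨y, hy, e⟩ := hh.ge x.2
      rwa [← Subtype.ext (p := fun z => z ∈ L) e]
  obtain ⟨v, hv0, htop, hv⟩ := exists_eigvec_of_simple hS hρ hsimple
  obtain ⟨ψ, hψ⟩ : ∃ ψ : (L ⧸ ML) →ₗ[k] k, ψ v ≠ 0 := Module.Projective.exists_dual_ne_zero k hv0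
  obtain ⟨φ, hφ⟩ := LinearMap.exists_extend (ψ.comp ML.mkQ)
  have hφ' : ∀ x : L, φ x = ψ (ML.mkQ x) := fun x => LinearMap.congr_fun hφ x
  refine ⟨φ, fun w hw => ?_, ?_, fun g hg x hx hx0 => ?_⟩
  · rw [hφ' ⟨w, hWL.le hw⟩, Submodule.mkQ_apply, (Submodule.Quotient.mk_eq_zero ML).mpr (show _ ∈ ML from hWM hw),
      map_zero]
  · obtain ⟨x, rfl⟩ := ML.mkQ_surjective v
    exact ⟨x, x.2, by rwa [hφ']⟩
  · rw [hφ' ⟨x, hx⟩] at hx0
    have hz : ML.mkQ ⟨x, hx⟩ = 0 := by
      obtain ⟨a, ha⟩ := Submodule.mem_span_singleton.mp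
        (htop.ge (Submodule.mem_top : ML.mkQ ⟨x, hx⟩ ∈ ⊤))
      rw [← ha, map_smul, smul_eq_mul, mul_eq_zero] at hx0
      rw [← ha, hx0.resolve_right hψ, zero_smul]
    have h2 : ρ ⟨g, hg⟩ (ML.mkQ ⟨x, hx⟩) = ML.mkQ (rL ⟨g, hg⟩ ⟨x, hx⟩) := rfl
    rw [show (g : Mat k N) *ᵥ x = (rL ⟨g, hg⟩ ⟨x, hx⟩ : L) from rfl, hφ', ← h2, hz, map_zero, map_zero]

/-- The polynomial of a functional on vectors. -/
def vecPoly (ψ : Vec k N →ₗ[k] k) : MvPolynomial (Fin N) k :=
  ∑ a, MvPolynomial.C (ψ (Pi.single a 1)) * MvPolynomial.X a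

omit [IsAlgClosed k] in
theorem eval_vecPoly (ψ : Vec k N →ₗ[k] k) (z : Vec k N) : MvPolynomial.eval z (vecPoly ψ) = ψ z := by
  conv_rhs => rw [pi_eq_sum_univ' z]
  simp [vecPoly, map_sum, mul_comm]

/-- Affine sets with no points at infinity have finitely valued coordinates. -/
theorem finite_values {Y : Type*} (y : Y → Vec k N) {φ : Vec k N →ₗ[k] k} (hφ : ∀ i, φ (y i) = 1)
    {J : Ideal (MvPolynomial (Fin N) k)} (hJ : ∀ i, ∀ c : kˣ, (c : k) • y i ∈ zSet J)
    (h0 : ∀ z ∈ zSet J, φ z = 0 → z = 0) (a : Fin N) : (Set.range fun i => y i a).Finite := by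
  classical
  let J' : Ideal (MvPolynomial (Fin N) k) := J ⊔ Ideal.span {vecPoly φ}
  have hrad : ∀ b, ∃ m : ℕ, 0 < m ∧ (MvPolynomial.X b) ^ m ∈ J' := by
    intro b
    have hmem : (MvPolynomial.X b : MvPolynomial (Fin N) k) ∈ J'.radical := by
      rw [← MvPolynomial.vanishingIdeal_zeroLocus_eq_radical (K := k) (I := J'), MvPolynomial.mem_vanishingIdeal_iff]
      intro z hz
      rw [MvPolynomial.mem_zeroLocus_iff] at hz
      have hz0 : z = 0 := h0 z
        (fun f hf => by simpa [MvPolynomial.aeval_eq_eval] using hz f (Ideal.mem_sup_left hf))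
        (by simpa [MvPolynomial.aeval_eq_eval, eval_vecPoly] using
          hz _ (Ideal.mem_sup_right (Ideal.mem_span_singleton_self _)))
      simp [hz0]
    obtain ⟨m, hm⟩ := hmem
    exact ⟨m + 1, m.succ_pos, by rw [pow_succ]; exact J'.mul_mem_right _ hm⟩
  choose m hm0 hm using hrad
  let P : (Fin N →₀ ℕ) → (Y → k) := fun d i => ∏ b, y i b ^ d b
  have hPadd : ∀ d d', P (d + d') = P d * P d' := fun d d' => funext fun i => by
    simp [P, pow_add, Finset.prod_mul_distrib]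
  let F : Submodule k (Y → k) := Submodule.span k (P '' {d | ∀ b, d b < m b})
  have hrel : ∀ b, ∃ (T : Finset (Fin N →₀ ℕ)) (c : (Fin N →₀ ℕ) → k), (∀ d ∈ T, d.degree + 1 = m b) ∧
      P (Finsupp.single b (m b)) = ∑ d ∈ T, c d • P d := by
    intro b
    obtain ⟨j, hj, p, hp, hjp⟩ := Submodule.mem_sup.mp (hm b)
    obtain ⟨q, rfl⟩ := Ideal.mem_span_singleton'.mp hp
    refine ⟨q.support.filter (fun d => d.degree + 1 = m b), fun d => q.coeff d,
      fun d hd => (Finset.mem_filter.mp hd).2, funext fun i => ?_⟩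
    have hpoly : Polynomial.C ((y i b) ^ m b) * Polynomial.X ^ m b =
        ∑ d ∈ q.support, Polynomial.C (q.coeff d * P d i) * Polynomial.X ^ (d.degree + 1) := by
      refine Polynomial.eq_of_infinite_eval_eq _ _
        (Set.Infinite.mono ?_ (Set.finite_singleton (0 : k)).infinite_compl)
      intro t ht
      have h1 := congrArg (MvPolynomial.eval (t • y i)) hjp
      have hjz : MvPolynomial.eval (t • y i) j = 0 := hJ i (Units.mk0 t ht) j hj
      simp only [map_add, map_mul, map_pow, MvPolynomial.eval_X, eval_vecPoly, map_smul, hφ, hjz, zero_add,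
        smul_eq_mul, mul_one, Pi.smul_apply] at h1
      show Polynomial.eval t _ = Polynomial.eval t _
      simp only [Polynomial.eval_finsetSum, Polynomial.eval_mul, Polynomial.eval_C, Polynomial.eval_pow,
        Polynomial.eval_X]
      rw [← mul_pow, mul_comm (y i b) t, ← h1, MvPolynomial.eval_eq', Finset.sum_mul]
      refine Finset.sum_congr rfl fun d _ => ?_
      simp only [P, Pi.smul_apply, smul_eq_mul, mul_pow, Finset.prod_mul_distrib, Finset.prod_pow_eq_pow_sum,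
        pow_succ, Finsupp.degree_eq_sum]
      ring
    have h2 := congrArg (fun r : Polynomial k => r.coeff (m b)) hpoly
    simp only [Polynomial.coeff_C_mul_X_pow, if_true, Polynomial.finsetSum_coeff] at h2
    simp only [Finset.sum_apply, Pi.smul_apply, smul_eq_mul, Finset.sum_filter]
    rw [show P (Finsupp.single b (m b)) i = y i b ^ m b by
      simp [P, Finsupp.single_apply, pow_ite], h2]
    exact Finset.sum_congr rfl fun d _ => if_congr eq_comm rfl rfl
  have hall : ∀ n : ℕ, ∀ d : Fin N →₀ ℕ, d.degree = n → P d ∈ F := by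
    intro n
    induction n using Nat.strong_induction_on with
    | _ n ih =>
      intro d hd
      by_cases hb : ∀ b, d b < m b
      · exact Submodule.subset_span ⟨d, hb, rfl⟩
      push Not at hb
      obtain ⟨b, hb⟩ := hb
      obtain ⟨T, c, hT, hc⟩ := hrel b
      have hsplit : Finsupp.single b (m b) + (d - Finsupp.single b (m b)) = d :=
        add_tsub_cancel_of_le (Finsupp.single_le_iff.mpr hb)
      rw [← hsplit, hPadd, hc, Finset.sum_mul]
      refine Submodule.sum_mem _ fun e he => ?_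
      rw [smul_mul_assoc, ← hPadd]
      refine Submodule.smul_mem _ _ (ih _ ?_ _ rfl)
      have h5 := congrArg Finsupp.degree hsplit
      have := hT e he
      simp only [map_add, Finsupp.degree_single] at h5 ⊢
      omega
  have hfg : F.FG := by
    refine Submodule.fg_span (Set.Finite.image _ ?_)
    refine (Set.Finite.pi (t := fun b => Set.Iio (m b)) fun b => Set.finite_Iio _).preimage
      (f := fun d : Fin N →₀ ℕ => (d : Fin N → ℕ)) DFunLike.coe_injective.injOn |>.subset fun d hd => ?_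
    exact fun b _ => hd b
  let A : Subalgebra k (Y → k) := (Submodule.span k (Set.range P)).toSubalgebra
    (Submodule.subset_span ⟨0, funext fun i => by simp [P]⟩) (fun x x' hx hx' => by
      induction hx using Submodule.span_induction with
      | mem x h =>
        obtain ⟨d, rfl⟩ := h
        induction hx' using Submodule.span_induction with
        | mem x h =>
          obtain ⟨d', rfl⟩ := h
          exact Submodule.subset_span ⟨d + d', hPadd d d'⟩
        | zero => simp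
        | add a b _ _ iha ihb => rw [mul_add]; exact add_mem iha ihb
        | smul r a _ iha => rw [mul_smul_comm]; exact Submodule.smul_mem _ r iha
      | zero => simp
      | add a b _ _ iha ihb => rw [add_mul]; exact add_mem iha ihb
      | smul r a _ iha => rw [smul_mul_assoc]; exact Submodule.smul_mem _ r iha)
  haveI : Module.Finite k A := by
    have hAF : Subalgebra.toSubmodule A ≤ F := Submodule.span_le.mpr (by rintro _ ⟨d, rfl⟩; exact hall _ d rfl)
    haveI := Module.Finite.iff_fg.mpr hfg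
    exact Submodule.finiteDimensional_of_le hAF
  obtain ⟨p, hp, hpe⟩ := Algebra.IsIntegral.isIntegral (R := k) (A := A)
    ⟨P (Finsupp.single a 1), Submodule.subset_span ⟨_, rfl⟩⟩
  refine (Polynomial.finite_setOf_isRoot hp.ne_zero).subset ?_
  rintro _ ⟨i, rfl⟩
  show p.IsRoot (y i a)
  rw [← Polynomial.aeval_def] at hpe
  have h3 := congrArg ((Pi.evalAlgHom k (fun _ : Y => k) i).comp A.val) hpe
  rw [← Polynomial.aeval_algHom_apply, map_zero] at h3
  simpa [P, Finsupp.single_apply, pow_ite, Polynomial.IsRoot] using h3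

/-- **Borel's fixed point theorem for cones.** -/
theorem exists_eigen_solvable {S : Subgroup (GLk k N)} (hS : IsIrredFn (regAlg S)) [Group.IsSolvable S]
    {W : Submodule k (Vec k N)} (hW : ∀ g ∈ S, Stab W g) {I : Ideal (MvPolynomial (Fin N) k)}
    (hI : ConeInv S W (zSet I)) {z₀ : Vec k N} (hz₀ : z₀ ∈ zSet I) (hz₀W : z₀ ∉ W) :
    ∃ z ∈ zSet I, z ∉ W ∧ ∀ g ∈ S, (g : Mat k N) *ᵥ z ∈ Submodule.span k {z} ⊔ W := by
  classical
  obtain ⟨J, ⟨v, hvI, hvW, rfl⟩, hmax⟩ := set_has_maximal_iff_noetherian.mpr inferInstance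
    {J : Submodule (MvPolynomial (Fin N) k) (MvPolynomial (Fin N) k) | ∃ v ∈ zSet I, v ∉ W ∧ coneIdeal S W v = J}
    ⟨_, z₀, hz₀, hz₀W, rfl⟩
  refine ⟨v, hvI, hvW, ?_⟩
  have hIJ : ∀ z ∈ zSet (coneIdeal S W v), z ∈ zSet I := fun z hz f hf =>
    hz f (mem_coneIdeal.mpr fun h hh c w hw => hI h hh c w hw v hvI f hf)
  let L : Submodule k (Vec k N) :=
    Submodule.span k (Set.range fun g : S => ((g : GLk k N) : Mat k N) *ᵥ v) ⊔ W
  have hWL' : W ≤ L := le_sup_right
  have hgv : ∀ g (hg : g ∈ S), (g : Mat k N) *ᵥ v ∈ L := fun g hg =>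
    Submodule.mem_sup_left (Submodule.subset_span ⟨⟨g, hg⟩, rfl⟩)
  have hvL : v ∈ L := by simpa using hgv 1 S.one_mem
  have hLst : ∀ g ∈ S, Stab L g := by
    intro g hg x hx
    obtain ⟨x₁, hx₁, x₂, hx₂, rfl⟩ := Submodule.mem_sup.mp hx
    rw [Matrix.mulVec_add]
    refine add_mem ?_ (hWL' (hW g hg _ hx₂))
    refine (Submodule.span_le.mpr ?_ : Submodule.span k (Set.range fun g : S => ((g : GLk k N) : Mat k N) *ᵥ v) ≤
      L.comap (g : Mat k N).mulVecLin) hx₁
    rintro _ ⟨h, rfl⟩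
    show (g : Mat k N) *ᵥ _ ∈ L
    rw [Matrix.mulVec_mulVec, ← Units.val_mul]
    exact hgv _ (S.mul_mem hg h.2)
  obtain ⟨φ₀, hφW, ⟨x, hx, hx0⟩, hφS⟩ := exists_semiinvariant hS hW hLst
    (lt_of_le_of_ne hWL' fun hh => hvW (hh.ge hvL))
  have hv0 : φ₀ v ≠ 0 := by
    intro h0
    refine hx0 ?_
    obtain ⟨x₁, hx₁, x₂, hx₂, rfl⟩ := Submodule.mem_sup.mp hx
    rw [map_add, hφW x₂ hx₂, add_zero]
    refine (Submodule.span_le.mpr ?_ : Submodule.span k (Set.range fun g : S => ((g : GLk k N) : Mat k N) *ᵥ v) ≤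
      LinearMap.ker φ₀) hx₁
    rintro _ ⟨g, rfl⟩
    exact hφS g.1 g.2 v hvL h0
  obtain ⟨C, hC⟩ := Submodule.exists_isCompl W
  let P : Vec k N →ₗ[k] Vec k N := C.subtype.comp (C.projectionOnto W hC.symm)
  have hP : ∀ x, P x - x ∈ W := fun x => by
    obtain ⟨a, b, rfl, -⟩ := Submodule.existsUnique_add_of_isCompl hC.symm x
    simp [P]
  have hPW : ∀ w ∈ W, P w = 0 := fun w hw => by
    simp [P, Submodule.projectionOnto_apply_of_mem_right hC.symm hw]
  let φ : Vec k N →ₗ[k] k := (φ₀ v)⁻¹ • φ₀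
  have hφv : φ v = 1 := by simp [φ, hv0]
  have hφw : ∀ w ∈ W, φ w = 0 := fun w hw => by simp [φ, hφW w hw]
  have hsemi : ∀ g ∈ S, ∀ x ∈ L, φ ((g : Mat k N) *ᵥ x) = φ x * φ ((g : Mat k N) *ᵥ v) := by
    intro g hg x hx
    have h1 : φ₀ (x - φ x • v) = 0 := by simp [φ]; field_simp; ring
    have h2 := hφS g hg _ (sub_mem hx (Submodule.smul_mem _ _ hvL)) h1
    rw [Matrix.mulVec_sub, Matrix.mulVec_smul, map_sub, sub_eq_zero, map_smul] at h2
    simp only [φ, LinearMap.smul_apply, smul_eq_mul] at h2 ⊢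
    rw [h2]; ring
  have hinv : ∀ g : S, φ ((((g⁻¹ : S) : GLk k N) : Mat k N) *ᵥ v) * φ (((g : GLk k N) : Mat k N) *ᵥ v) = 1 := by
    intro g
    rw [← hsemi g.1 g.2 _ (hgv _ (g⁻¹ : S).2), Matrix.mulVec_mulVec, ← Units.val_mul,
      show (g : GLk k N) * ((g⁻¹ : S) : GLk k N) = 1 from mul_inv_cancel _, Units.val_one, Matrix.one_mulVec, hφv]
  let y : S → Vec k N := fun g => φ ((((g⁻¹ : S) : GLk k N) : Mat k N) *ᵥ v) • P (((g : GLk k N) : Mat k N) *ᵥ v)
  have hφP : ∀ x, φ (P x) = φ x := fun x => by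
    have := hφw _ (hP x)
    rwa [map_sub, sub_eq_zero] at this
  have hyJ : ∀ (g : S) (c : kˣ), (c : k) • y g ∈ zSet (coneIdeal S W v) := fun g c => by
    have hne : (c : k) * φ ((((g⁻¹ : S) : GLk k N) : Mat k N) *ᵥ v) ≠ 0 := mul_ne_zero c.ne_zero (left_ne_zero_of_mul_eq_one (hinv g))
    have := coneInv_coneIdeal hW v g.1 g.2 (Units.mk0 _ hne)
      (((c : k) * φ ((((g⁻¹ : S) : GLk k N) : Mat k N) *ᵥ v)) • (P (((g : GLk k N) : Mat k N) *ᵥ v) - ((g : GLk k N) : Mat k N) *ᵥ v))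
      (W.smul_mem _ (hP _)) v (mem_zSet_self v)
    rw [Units.val_mk0, ← smul_add, add_sub_cancel] at this
    rwa [smul_smul]
  have hzero : ∀ z ∈ zSet (coneIdeal S W v), φ z = 0 → z ∈ W := by
    intro z hz hz0
    by_contra hzW
    have heq : coneIdeal S W z = coneIdeal S W v := ((eq_or_lt_of_le (coneIdeal_le hW hz)).resolve_right
      (hmax _ ⟨z, hIJ z hz, hzW, rfl⟩)).symm
    have hzL : z ∈ L := mem_of_forall_dual L fun ψ hψ => by
      rw [← eval_vecPoly]
      refine hz _ (mem_coneIdeal.mpr fun h hh c w hw => ?_)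
      rw [eval_vecPoly, map_add, map_smul, hψ _ (hgv h hh), hψ _ (hWL' hw)]
      simp
    have hmem : vecPoly φ ∈ coneIdeal S W z := mem_coneIdeal.mpr fun h hh c w hw => by
      rw [eval_vecPoly, map_add, map_smul, hsemi h hh z hzL, hz0, hφw w hw]
      simp
    rw [heq] at hmem
    have h1 := mem_zSet_self v _ hmem
    rw [eval_vecPoly, hφv] at h1
    exact one_ne_zero h1
  let J' : Ideal (MvPolynomial (Fin N) k) := coneIdeal S W v ⊔
    Ideal.span (Set.range fun a => vecPoly ((LinearMap.proj a).comp (P - LinearMap.id)))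
  have hPP : ∀ x, P (P x) = P x := fun x => by
    have := hPW _ (hP x)
    rwa [map_sub, sub_eq_zero] at this
  have hyJ' : ∀ (g : S) (c : kˣ), (c : k) • y g ∈ zSet J' := fun g c f hf => by
    obtain ⟨f₁, h₁, f₂, h₂, rfl⟩ := Submodule.mem_sup.mp hf
    rw [map_add, hyJ g c f₁ h₁, zero_add]
    refine (Ideal.span_le.mpr ?_ : _ ≤ RingHom.ker (MvPolynomial.eval ((c : k) • y g))) h₂
    rintro _ ⟨a, rfl⟩
    rw [SetLike.mem_coe, RingHom.mem_ker, eval_vecPoly]
    simp [y, hPP]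
  have hconst : ∀ (g : S), y g = y 1 := fun g => funext fun a => by
    refine eq_of_finite hS (f := fun g => y g a) ?_ (finite_values y (φ := φ) (fun g => ?_) hyJ' (fun z hz hz0 => ?_) a)
      (fun g => ⟨g, rfl⟩) g 1
    · exact mul_mem (mulVec_mem S φ v).2 (mulVec_mem S ((LinearMap.proj a).comp P) v).1
    · simp only [y, map_smul, hφP, smul_eq_mul, hinv]
    · have hzW := hzero z (fun f hf => hz f (Ideal.mem_sup_left hf)) hz0
      funext b
      have h1 := hz _ (Ideal.mem_sup_right (Ideal.subset_span ⟨b, rfl⟩))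
      rw [eval_vecPoly] at h1
      simpa [hPW z hzW] using h1
  intro g hg
  have h1 : y ⟨g, hg⟩ = P v := by
    rw [hconst]
    simp [y, hφv]
  have h2 : P ((g : Mat k N) *ᵥ v) = φ ((g : Mat k N) *ᵥ v) • P v := by
    rw [← h1]
    simp only [y, smul_smul]
    rw [mul_comm, hinv ⟨g, hg⟩, one_smul]
  have h3 := hPW _ (hP v)
  refine (Submodule.mem_sup.mpr ⟨φ ((g : Mat k N) *ᵥ v) • v, Submodule.smul_mem _ _ (Submodule.mem_span_singleton_self v),
    (g : Mat k N) *ᵥ v - φ ((g : Mat k N) *ᵥ v) • v, ?_, add_sub_cancel _ _⟩)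
  have h4 : (g : Mat k N) *ᵥ v - φ ((g : Mat k N) *ᵥ v) • v =
      φ ((g : Mat k N) *ᵥ v) • (P v - v) - (P ((g : Mat k N) *ᵥ v) - (g : Mat k N) *ᵥ v) := by
    rw [h2, smul_sub]; abel
  rw [h4]
  exact sub_mem (W.smul_mem _ (hP v)) (hP _)

/-- **One step**: a larger submodule stable under one group and a conjugate of the other. -/
theorem exists_step_solvable {H : Subgroup (GLk k N)} (hH : IsZClosed (H : Set (GLk k N)))
    {W : Submodule k (Vec k N)} (hW : ∀ h ∈ H, Stab W h) (hne : W ≠ ⊤) {S S' : Subgroup (GLk k N)}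
    (hS : IsIrredFn (regAlg S)) (hS' : IsIrredFn (regAlg S')) [Group.IsSolvable S] [Group.IsSolvable S']
    (hSH : S ≤ H) (hS'H : S' ≤ H) :
    ∃ z : Vec k N, z ∉ W ∧ ∃ h ∈ H, (∀ g ∈ S, Stab (Submodule.span k {z} ⊔ W) g) ∧
      ∀ g ∈ S', Stab (Submodule.span k {z} ⊔ W) (h * g * h⁻¹) := by
  obtain ⟨v₀, -, hv₀⟩ := Set.not_subset.mp (show ¬ ((⊤ : Submodule k (Vec k N)) : Set (Vec k N)) ⊆ W from
    fun h => hne (top_le_iff.mp h))
  obtain ⟨I, ⟨v, hvW, rfl⟩, hmax⟩ := set_has_maximal_iff_noetherian.mpr inferInstance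
    {I : Submodule (MvPolynomial (Fin N) k) (MvPolynomial (Fin N) k) | ∃ v, v ∉ W ∧ coneIdeal H W v = I}
    ⟨_, v₀, hv₀, rfl⟩
  have heq : ∀ z ∈ zSet (coneIdeal H W v), z ∉ W → coneIdeal H W z = coneIdeal H W v := fun z hz hzW =>
    ((eq_or_lt_of_le (coneIdeal_le hW hz)).resolve_right (hmax _ ⟨z, hzW, rfl⟩)).symm
  have hcone : ∀ {U : Subgroup (GLk k N)}, U ≤ H → ConeInv U W (zSet (coneIdeal H W v)) :=
    fun hU h hh => coneInv_coneIdeal hW v h (hU hh)
  obtain ⟨z, hz, hzW, hze⟩ := exists_eigen_solvable hS (fun g hg => hW g (hSH hg)) (hcone hSH) (mem_zSet_self v) hvW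
  obtain ⟨y, hy, hyW, hyf⟩ := exists_eigen_solvable hS' (fun g hg => hW g (hS'H hg)) (hcone hS'H) (mem_zSet_self v) hvW
  obtain ⟨h, hh, c, w, hw, hhy⟩ := exists_move hH hW ((heq y hy hyW).trans (heq z hz hzW).symm)
  refine ⟨z, hzW, h, hh, ?_, ?_⟩
  · intro g hg x hx
    obtain ⟨x₁, hx₁, x₂, hx₂, rfl⟩ := Submodule.mem_sup.mp hx
    obtain ⟨a, rfl⟩ := Submodule.mem_span_singleton.mp hx₁
    rw [Matrix.mulVec_add, Matrix.mulVec_smul]
    exact add_mem (Submodule.smul_mem _ _ (hze g hg)) (Submodule.mem_sup_right (hW _ (hSH hg) _ hx₂))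
  · intro g hg
    have hz' : ((c : k) • z) = (h : Mat k N) *ᵥ y - w := by rw [hhy, add_sub_cancel_right]
    have hstW : Stab W (h * g * h⁻¹) := hW _ (H.mul_mem (H.mul_mem hh (hS'H hg)) (H.inv_mem hh))
    have hU : ∀ x ∈ Submodule.span k {y} ⊔ W, (h : Mat k N) *ᵥ x ∈ Submodule.span k {z} ⊔ W := fun x hx => by
      obtain ⟨x₁, hx₁, x₂, hx₂, rfl⟩ := Submodule.mem_sup.mp hx
      obtain ⟨a, rfl⟩ := Submodule.mem_span_singleton.mp hx₁
      rw [Matrix.mulVec_add, Matrix.mulVec_smul, hhy]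
      exact add_mem (Submodule.smul_mem _ _ (add_mem (Submodule.mem_sup_left (Submodule.smul_mem _ _
        (Submodule.mem_span_singleton_self z))) (Submodule.mem_sup_right hw))) (Submodule.mem_sup_right (hW h hh _ hx₂))
    intro x hx
    obtain ⟨x₁, hx₁, x₂, hx₂, rfl⟩ := Submodule.mem_sup.mp hx
    obtain ⟨a, rfl⟩ := Submodule.mem_span_singleton.mp hx₁
    rw [Matrix.mulVec_add, Matrix.mulVec_smul]
    refine add_mem (Submodule.smul_mem _ _ ?_) (Submodule.mem_sup_right (hstW _ hx₂))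
    refine (Submodule.smul_mem_iff _ c.ne_zero).mp ?_
    rw [← Matrix.mulVec_smul, hz', Matrix.mulVec_sub]
    refine sub_mem ?_ (Submodule.mem_sup_right (hstW _ hw))
    rw [Matrix.mulVec_mulVec, Units.val_mul, Units.val_mul, mul_assoc, Units.inv_mul, mul_one,
      ← Matrix.mulVec_mulVec]
    exact hU _ (hyf g hg)

end H20Borel
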