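import Groth.Agent.H20Comod.LieKolchin

/-!
# Lie-Kolchin for groups with an algebra of functions which is a domain
-/

set_option autoImplicit false

universe u v w

open Module
open scoped commutatorElement
open Groth.Agent.H20Comod.LieKolchin (exists_common_eigenvector commSet wordSet range_wordSet eq_one_of_const
  conj_mem_commSet commSet_le_derivedSeries)

noncomputable section

namespace H20Borel

/-- An algebra of functions with no zero divisors. -/
def IsIrredFn {k : Type u} [Field k] {G : Type v} (R : Subalgebra k (G → k)) : Prop :=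
  ∀ f ∈ R, ∀ h ∈ R, f * h = 0 → f = 0 ∨ h = 0

/-- A representation whose matrix coefficients, and those of the inverse, lie in an algebra of functions. -/
def IsRegRep {k : Type u} [Field k] {G : Type v} [Group G] (R : Subalgebra k (G → k)) {V : Type w} [AddCommGroup V]
    [Module k V] (ρ : G →* End k V) : Prop :=
  ∀ (φ : V →ₗ[k] k) (v : V), (fun g => φ (ρ g v)) ∈ R ∧ (fun g => φ (ρ g⁻¹ v)) ∈ R

variable {k : Type u} [Field k] [IsAlgClosed k] {G : Type v} [Group G] {R : Subalgebra k (G → k)}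
  {V : Type w} [AddCommGroup V] [Module k V] [FiniteDimensional k V]

omit [IsAlgClosed k] [Group G] in
theorem eq_of_finite (hR : IsIrredFn R) {f : G → k} (hf : f ∈ R) {S : Set k} (hS : S.Finite) (h : ∀ g, f g ∈ S)
    (g g' : G) : f g = f g' := by
  classical
  have key : ∀ t : Finset k, (∏ c ∈ t, (f - algebraMap k (G → k) c)) = 0 → ∃ c, ∀ g, f g = c := by
    intro t
    induction t using Finset.induction with
    | empty => exact fun h0 => absurd (congrFun h0 g) (by simp)
    | insert c t hc ih =>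
      intro h0
      rw [Finset.prod_insert hc] at h0
      rcases hR _ (sub_mem hf (R.algebraMap_mem c)) _
        (prod_mem fun d _ => sub_mem hf (R.algebraMap_mem d)) h0 with h1 | h1
      · exact ⟨c, fun x => sub_eq_zero.1 (by simpa using congrFun h1 x)⟩
      · exact ih h1
  obtain ⟨c, hc⟩ := key hS.toFinset (funext fun x => by
    rw [Finset.prod_apply]
    exact Finset.prod_eq_zero (hS.mem_toFinset.2 (h x)) (by simp))
  rw [hc, hc]

/-- Regular maps to the endomorphisms. -/
def IsRegMap (R : Subalgebra k (G → k)) (f : G → End k V) : Prop :=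
  ∀ (φ : V →ₗ[k] k) (v : V), (fun g => φ (f g v)) ∈ R

omit [IsAlgClosed k] [Group G] in
theorem isRegMap_const (c : End k V) : IsRegMap R fun _ => c := fun φ v => R.algebraMap_mem (φ (c v))

omit [IsAlgClosed k] [Group G] in
theorem IsRegMap.mul {f h : G → End k V} (hf : IsRegMap R f) (hh : IsRegMap R h) :
    IsRegMap R fun g => f g * h g := by
  intro φ v
  let b := finBasis k V
  have e : (fun g => φ ((f g * h g) v)) = ∑ i, (fun g => b.coord i (h g v)) * fun g => φ (f g (b i)) := by
    funext g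
    rw [End.mul_apply]
    conv_lhs => rw [← b.sum_repr (h g v), map_sum, map_sum]
    simp [Basis.coord_apply]
  rw [e]
  exact sum_mem fun i _ => mul_mem (hh _ _) (hf _ _)

variable {ρ : G →* End k V}

omit [IsAlgClosed k] in
theorem isRegMap_word (hρ : IsRegRep R ρ) : ∀ m, ∀ p ∈ wordSet (G := G) m,
    IsRegMap R (fun g => ρ (p g)) ∧ IsRegMap R (fun g => ρ (p g)⁻¹)
  | 0, p, hp => by
    rcases hp with rfl | ⟨c, rfl⟩
    · exact ⟨fun φ v => (hρ φ v).1, fun φ v => (hρ φ v).2⟩
    · exact ⟨isRegMap_const _, isRegMap_const _⟩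
  | m + 1, _, ⟨q, hq, r, hr, rfl⟩ => by
    obtain ⟨hq1, hq2⟩ := isRegMap_word hρ m q hq
    obtain ⟨hr1, hr2⟩ := isRegMap_word hρ m r hr
    simp only [commutatorElement_def, mul_inv_rev, inv_inv, map_mul]
    exact ⟨((hq1.mul hr1).mul hq2).mul hr2, hr1.mul (hq1.mul (hr2.mul hq2))⟩

theorem scalar_of_commute [Nontrivial V] (hR : IsIrredFn R) (hρ : IsRegRep R ρ)
    (hV : ∀ W : Submodule k V, (∀ g, ∀ v ∈ W, ρ g v ∈ W) → W = ⊥ ∨ W = ⊤) (m : ℕ)
    (hcomm : ∀ a ∈ commSet (G := G) m, ∀ b ∈ commSet (G := G) m, Commute (ρ a) (ρ b)) :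
    ∀ a ∈ commSet (G := G) m, ∃ c : k, ρ a = c • 1 := by
  classical
  obtain ⟨v, hv0, hv⟩ := exists_common_eigenvector (fun a : commSet (G := G) m => ρ a)
    fun a b => hcomm a a.2 b b.2
  intro a ha
  obtain ⟨c, hc⟩ := hv ⟨a, ha⟩
  obtain ⟨φ, hφ⟩ : ∃ φ : V →ₗ[k] k, φ v = 1 := by
    obtain ⟨φ, hφ⟩ := Module.Projective.exists_dual_ne_zero k hv0
    exact ⟨(φ v)⁻¹ • φ, by simp [hφ]⟩
  have hval : ∀ g, ∃ d : k, ρ (g⁻¹ * a * g) v = d • v ∧
      (ρ a).HasEigenvalue d ∧ ρ a (ρ g v) = d • ρ g v := by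
    intro g
    have hm := conj_mem_commSet m a ha g⁻¹
    rw [inv_inv] at hm
    obtain ⟨d, hd⟩ := hv ⟨_, hm⟩
    dsimp only at hd
    have h1 : ρ a (ρ g v) = d • ρ g v := by
      rw [← map_smul, ← hd, ← End.mul_apply, ← End.mul_apply, ← map_mul, ← map_mul,
        show g * (g⁻¹ * a * g) = a * g by group]
    refine ⟨d, hd, End.hasEigenvalue_of_hasEigenvector ⟨End.mem_eigenspace_iff.2 h1, fun h0 => hv0 ?_⟩, h1⟩
    have := congrArg (ρ g⁻¹) h0
    rwa [map_zero, ← End.mul_apply, ← map_mul, inv_mul_cancel, map_one, End.one_apply] at this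
  have hreg : (fun g => φ (ρ (g⁻¹ * a * g) v)) ∈ R := by
    simp only [map_mul]
    have h1 : IsRegMap R fun g => ρ g⁻¹ := fun φ v => (hρ φ v).2
    have h2 : IsRegMap R fun g => ρ g := fun φ v => (hρ φ v).1
    exact (h1.mul (isRegMap_const (ρ a))).mul h2 φ v
  have hconst := eq_of_finite hR hreg (End.finite_hasEigenvalue (ρ a)) (fun g => by
    obtain ⟨d, hd, hev, -⟩ := hval g
    show End.HasEigenvalue _ _
    rwa [hd, map_smul, hφ, smul_eq_mul, mul_one])
  have htop : Submodule.span k (Set.range fun h => ρ h v) = ⊤ := by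
    refine (hV _ fun g x hx => ?_).resolve_left fun hbot => hv0 ?_
    · refine (Submodule.span_le.2 ?_ : Submodule.span k (Set.range fun h => ρ h v) ≤
        (Submodule.span k (Set.range fun h => ρ h v)).comap (ρ g)) hx
      rintro _ ⟨h, rfl⟩
      exact Submodule.subset_span ⟨g * h, by simp [map_mul]⟩
    · rw [← Submodule.mem_bot k, ← hbot]
      exact Submodule.subset_span ⟨1, by simp⟩
  refine ⟨c, LinearMap.ext_on_range htop fun g => ?_⟩
  obtain ⟨d, hd, -, hd'⟩ := hval g
  have h1 := hconst g 1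
  simp only [inv_one, one_mul, mul_one] at h1
  rw [hd, map_smul, hc, map_smul, hφ] at h1
  rw [hd', LinearMap.smul_apply, End.one_apply, show d = c by simpa using h1]

/-- **Lie-Kolchin**: a common eigenvector. -/
theorem exists_eigvec_of_simple [Nontrivial V] (hR : IsIrredFn R) (hρ : IsRegRep R ρ) [Group.IsSolvable G]
    (hV : ∀ W : Submodule k V, (∀ g, ∀ v ∈ W, ρ g v ∈ W) → W = ⊥ ∨ W = ⊤) :
    ∃ v : V, v ≠ 0 ∧ Submodule.span k {v} = ⊤ ∧ ∀ g, ∃ c : k, ρ g v = c • v := by
  classical
  obtain ⟨N, hN⟩ := (‹Group.IsSolvable G›).solvable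
  have hcomm_of : ∀ (l : ℕ), (∀ a ∈ commSet (G := G) (l + 1), ρ a = 1) →
      ∀ x ∈ commSet (G := G) l, ∀ y ∈ commSet (G := G) l, Commute (ρ x) (ρ y) := by
    intro l hl x hx y hy
    have h := congrArg (· * (ρ y * ρ x)) (hl _ ⟨x, hx, y, hy, rfl⟩)
    simp only [← map_mul, one_mul] at h
    show _ = _
    rw [← map_mul, ← map_mul]
    rwa [commutatorElement_def, show x * y * x⁻¹ * y⁻¹ * (y * x) = x * y by group] at h
  have hdesc : ∀ j m, 1 ≤ m → N ≤ m + j → ∀ a ∈ commSet (G := G) m, ρ a = 1 := by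
    intro j
    induction j with
    | zero =>
      intro m _ hm a ha
      have h := derivedSeries_antitone _ (show N ≤ m by omega) (commSet_le_derivedSeries m ha)
      rw [hN, Subgroup.mem_bot] at h
      rw [h, map_one]
    | succ j ih =>
      intro m h1 hm a ha
      obtain ⟨l, rfl⟩ : ∃ l, m = l + 1 := ⟨m - 1, by omega⟩
      have hroot : ∀ x ∈ commSet (G := G) (l + 1), ∃ c : k, ρ x = c • 1 ∧ c ^ finrank k V = 1 := by
        intro x hx
        obtain ⟨c, hc⟩ := scalar_of_commute hR hρ hV _ (hcomm_of _ (ih (l + 2) (by omega) (by omega))) x hx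
        refine ⟨c, hc, ?_⟩
        obtain ⟨p, -, q, -, rfl⟩ := hx
        have h := congrArg LinearMap.det hc
        rw [LinearMap.det_smul, map_one, mul_one, ← MonoidHom.comp_apply,
          ← (LinearMap.det.comp ρ).coe_toHomUnits, commutatorElement_def,
          map_mul, map_mul, map_mul, map_inv, map_inv, mul_comm (MonoidHom.toHomUnits _ p),
          mul_inv_cancel_right, mul_inv_cancel] at h
        exact h.symm
      refine LinearMap.ext fun u => (Module.forall_dual_apply_eq_zero_iff k _).1 (fun φ => ?_) |> sub_eq_zero.1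
      rw [map_sub, sub_eq_zero, ← map_one ρ]
      refine eq_one_of_const (l + 1) a ha (fun x => φ (ρ x u)) fun p hp g g' => ?_
      refine eq_of_finite hR ((isRegMap_word hρ (l + 1) p hp).1 φ u)
        (((Polynomial.nthRootsFinset (finrank k V) (1 : k)).finite_toSet).image (fun c => c * φ u)) (fun g => ?_) g g'
      obtain ⟨c, hc, hcn⟩ := hroot _ (range_wordSet _ p hp g)
      exact ⟨c, (Polynomial.mem_nthRootsFinset finrank_pos (1 : k)).2 hcn, by simp [hc]⟩
  obtain ⟨v, hv0, hv⟩ := exists_common_eigenvector (fun x : G => ρ x)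
    fun x y => hcomm_of 0 (hdesc N 1 le_rfl (by omega)) x trivial y trivial
  refine ⟨v, hv0, (hV _ fun g x hx => ?_).resolve_left fun hb => hv0
      ((Submodule.mem_bot k).1 (hb ▸ Submodule.mem_span_singleton_self v)), hv⟩
  obtain ⟨r, rfl⟩ := Submodule.mem_span_singleton.1 hx
  obtain ⟨c, hc⟩ := hv g
  rw [map_smul, hc]
  exact Submodule.smul_mem _ _ (Submodule.smul_mem _ _ (Submodule.mem_span_singleton_self v))

end H20Borel
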