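import Groth.Agent.H20Borel.Centre
import Groth.Agent.H20Borel.LieKolchin
import Groth.Agent.H20Comod.JordanDecomp
import Groth.Agent.H20Comod.DualMod
import Groth.Agent.H20DimTan.Basic
import Groth.Agent.H20Hopf.Rosenlicht
import Groth.Agent.H20Torus.Scheme

/-!
# Connected groups all of whose points are semisimple are tori
-/

set_option autoImplicit false
set_option linter.style.haveILetI false
set_option backward.isDefEq.respectTransparency false
set_option maxHeartbeats 1000000
set_option synthInstance.maxHeartbeats 100000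

universe u v w

open CategoryTheory MonoidalCategory CartesianMonoidalCategory MonObj AlgebraicGeometry TensorProduct WithConv
open Groth.Agent.H27Witt H20Mu H20Conj
open Groth.Agent.H20Comod HopfRep
open scoped commutatorElement

noncomputable section

namespace H20Borel

section Sub

variable {k : Type u} [Field k] {A : Type v} [CommRing A] [HopfAlgebra k A]

/-- A subcomodule, retracted, is a comodule. -/
@[reducible] def retractComod (W : Submodule k A) (hW : IsSubcomod (k := k) (A := A) W) (p : A →ₗ[k] W)
    (hp : ∀ w : W, p w = w) : Comod k A W where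
  coact := p.rTensor A ∘ₗ CoalgebraStruct.comul (R := k) (A := A) ∘ₗ W.subtype
  coassoc := LinearMap.ext fun w => by
    obtain ⟨c, hc⟩ := hW w w.2
    replace hc : W.subtype.rTensor A c = CoalgebraStruct.comul (R := k) (A := A) (w : A) := hc
    have hfix : (W.subtype ∘ₗ p).rTensor A (CoalgebraStruct.comul (R := k) (A := A) (w : A)) = CoalgebraStruct.comul (R := k) (A := A) (w : A) := by
      rw [← hc, ← LinearMap.rTensor_comp_apply]
      congr 2
      exact LinearMap.ext fun x => by simp [hp]
    have h := congrArg (fun m => m (w : A)) (Coalgebra.coassoc (R := k) (A := A))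
    simp only [LinearMap.comp_apply, LinearEquiv.coe_coe] at h
    simp only [LinearMap.comp_apply, LinearEquiv.coe_coe, Submodule.coe_subtype]
    have e1 : (p.rTensor A ∘ₗ CoalgebraStruct.comul (R := k) (A := A) ∘ₗ W.subtype).rTensor A
        (p.rTensor A (CoalgebraStruct.comul (R := k) (A := A) (w : A))) =
        (p.rTensor A).rTensor A ((CoalgebraStruct.comul (R := k) (A := A)).rTensor A
          (CoalgebraStruct.comul (R := k) (A := A) (w : A))) := by
      conv_rhs => rw [← hfix, ← LinearMap.rTensor_comp_apply, ← LinearMap.rTensor_comp_apply]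
      rw [← LinearMap.rTensor_comp_apply]
      rfl
    rw [e1]
    have e2 : ∀ z : (A ⊗[k] A) ⊗[k] A, TensorProduct.assoc k W A A ((p.rTensor A).rTensor A z) =
        p.rTensor (A ⊗[k] A) (TensorProduct.assoc k A A A z) := by
      intro z
      induction z using TensorProduct.induction_on with
      | zero => simp
      | tmul x y =>
        induction x using TensorProduct.induction_on with
        | zero => simp
        | tmul a b => simp
        | add a b ha hb => simp only [TensorProduct.add_tmul, map_add, ha, hb]
      | add x y hx hy => simp only [map_add, hx, hy]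
    rw [e2, h]
    exact LinearMap.congr_fun
      ((LinearMap.rTensor_comp_lTensor _ p _).trans (LinearMap.lTensor_comp_rTensor _ p _).symm) _
  counit_comp := LinearMap.ext fun w => by
    have h := congrArg (fun m => m (w : A)) (Coalgebra.lTensor_counit_comp_comul (R := k) (A := A))
    simp only [LinearMap.comp_apply] at h ⊢
    rw [Submodule.coe_subtype, ← LinearMap.comp_apply (LinearMap.lTensor W _), LinearMap.lTensor_comp_rTensor,
      ← LinearMap.rTensor_comp_lTensor, LinearMap.comp_apply, h]
    simp [hp]

theorem actL_retract (W : Submodule k A) (hW : IsSubcomod (k := k) (A := A) W) (p : A →ₗ[k] W)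
    (hp : ∀ w : W, p w = w) (f : A →ₗ[k] k) (w : W) :
    letI := retractComod W hW p hp
    actL f w = p (actL f (w : A)) := by
  show sliceR f (p.rTensor A _) = p _
  rw [sliceR_rTensor]
  rfl

theorem act_eq_actL {V : Type v} [AddCommGroup V] [Module k V] [Comod k A V] (g : A →ₐ[k] k) :
    Comod.act k A V g = actL g.toLinearMap := rfl

variable (k A) in
theorem exists_retract (W : Submodule k A) : ∃ p : A →ₗ[k] W, ∀ w : W, p w = w := by
  obtain ⟨q, hq⟩ := W.exists_isCompl
  exact ⟨W.projectionOnto q hq, fun w => Submodule.projectionOnto_apply_left hq w⟩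

end Sub

section Nil

variable {k : Type u} [Field k] [IsAlgClosed k] {G : Type v} [Group G] {R : Subalgebra k (G → k)}

/-- In a regular representation of a connected solvable group commutators act unipotently. -/
theorem isNilpotent_commutator_sub_one [Group.IsSolvable G] (hR : IsIrredFn R) :
    ∀ (n : ℕ) {V : Type w} [AddCommGroup V] [Module k V] [FiniteDimensional k V] (ρ : G →* Module.End k V),
      IsRegRep R ρ → Module.finrank k V ≤ n → ∀ a b : G, IsNilpotent (ρ ⁅a, b⁆ - 1) := by
  intro n
  induction n with
  | zero =>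
    intro V _ _ _ ρ _ hV a b
    haveI : Subsingleton V := Module.finrank_zero_iff.mp (Nat.le_zero.mp hV)
    exact ⟨1, LinearMap.ext fun x => Subsingleton.elim _ _⟩
  | succ n ih =>
    intro V _ _ _ ρ hρ hV a b
    classical
    rcases subsingleton_or_nontrivial V with hs | hnt
    · exact ⟨1, LinearMap.ext fun x => Subsingleton.elim _ _⟩
    -- a minimal stable subspace
    have hex : ∃ m, ∃ L : Submodule k V, L ≠ ⊥ ∧ (∀ g, ∀ x ∈ L, ρ g x ∈ L) ∧ Module.finrank k L = m :=
      ⟨_, ⊤, top_ne_bot, fun _ _ _ => Submodule.mem_top, rfl⟩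
    obtain ⟨L, hL0, hLs, hLn⟩ := Nat.find_spec hex
    haveI : Nontrivial L := Submodule.nontrivial_iff_ne_bot.mpr hL0
    let ρL : G →* Module.End k L :=
      { toFun := fun g => (ρ g).restrict (hLs g)
        map_one' := LinearMap.ext fun x => Subtype.ext (by simp [LinearMap.restrict_apply])
        map_mul' := fun g h => LinearMap.ext fun x => Subtype.ext (by simp [LinearMap.restrict_apply]) }
    have hρL : IsRegRep R ρL := fun φ v => by
      obtain ⟨ψ, rfl⟩ : ∃ ψ : V →ₗ[k] k, ψ ∘ₗ L.subtype = φ := LinearMap.exists_extend φ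
      exact hρ ψ v
    have hsimple : ∀ U : Submodule k L, (∀ g, ∀ x ∈ U, ρL g x ∈ U) → U = ⊥ ∨ U = ⊤ := by
      intro U hU
      by_contra hc
      rw [not_or] at hc
      have hlt : Module.finrank k (U.map L.subtype) < Module.finrank k L := by
        rw [Submodule.finrank_map_subtype_eq]
        exact Submodule.finrank_lt hc.2
      refine Nat.find_min hex (hLn ▸ hlt) ⟨U.map L.subtype, fun h => hc.1 ?_, ?_, rfl⟩
      · exact Submodule.map_injective_of_injective L.injective_subtype (h.trans (Submodule.map_bot _).symm)
      · rintro g _ ⟨x, hx, rfl⟩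
        exact ⟨ρL g x, hU g x hx, rfl⟩
    obtain ⟨v, hv0, hvtop, hv⟩ := exists_eigvec_of_simple hR hρL hsimple
    choose c hc using hv
    have hcmul : ∀ g h, c (g * h) = c g * c h := fun g h => by
      have h1 := hc (g * h)
      rw [map_mul, Module.End.mul_apply, hc h, map_smul, hc g, smul_smul] at h1
      exact (smul_left_injective k hv0 (h1.symm)).trans (_root_.mul_comm _ _)
    have hc1 : c 1 = 1 := by
      have h1 := hc 1
      rw [map_one, Module.End.one_apply] at h1
      exact (smul_left_injective k hv0 ((one_smul k v).trans h1)).symm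
    let C : G →* k := { toFun := c, map_one' := hc1, map_mul' := hcmul }
    have hcom : c ⁅a, b⁆ = 1 := by
      have h1 : C.toHomUnits ⁅a, b⁆ = 1 := by
        rw [map_commutatorElement, commutatorElement_eq_one_iff_mul_comm, _root_.mul_comm]
      exact congrArg Units.val h1
    have hfix : ∀ x ∈ L, ρ ⁅a, b⁆ x = x := fun x hx => by
      obtain ⟨r, hr⟩ := Submodule.mem_span_singleton.mp (hvtop.symm ▸ Submodule.mem_top : (⟨x, hx⟩ : L) ∈ Submodule.span k {v})
      have h1 : ρL ⁅a, b⁆ (⟨x, hx⟩ : L) = ⟨x, hx⟩ := by rw [← hr, map_smul, hc, hcom, one_smul]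
      exact congrArg Subtype.val h1
    let ρQ : G →* Module.End k (V ⧸ L) :=
      { toFun := fun g => L.mapQ L (ρ g) (hLs g)
        map_one' := Submodule.linearMap_qext _ (LinearMap.ext fun x => by simp)
        map_mul' := fun g h => Submodule.linearMap_qext _ (LinearMap.ext fun x => by simp) }
    have hρQ : IsRegRep R ρQ := fun φ q => by
      obtain ⟨x, rfl⟩ := Submodule.Quotient.mk_surjective L q
      exact hρ (φ ∘ₗ L.mkQ) x
    obtain ⟨m, hm⟩ := ih ρQ hρQ (by
      have h1 := L.finrank_quotient_add_finrank
      have : 0 < Module.finrank k L := Module.finrank_pos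
      omega) a b
    have hpow : ∀ (j : ℕ) (x : V), ((ρQ ⁅a, b⁆ - 1 : Module.End k (V ⧸ L)) ^ j) (Submodule.Quotient.mk x) =
        Submodule.Quotient.mk (((ρ ⁅a, b⁆ - 1 : Module.End k V) ^ j) x) := fun j => by
      induction j with
      | zero => exact fun x => rfl
      | succ j hj =>
        intro x
        rw [pow_succ', pow_succ', Module.End.mul_apply, Module.End.mul_apply, hj]
        rfl
    refine ⟨m + 1, LinearMap.ext fun x => ?_⟩
    have h2 := hpow m x
    rw [hm, LinearMap.zero_apply, eq_comm, Submodule.Quotient.mk_eq_zero] at h2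
    rw [pow_succ', Module.End.mul_apply, LinearMap.sub_apply, Module.End.one_apply, hfix _ h2, sub_self]
    rfl

end Nil

variable {k : Type u} [Field k] [IsAlgClosed k] {A : Type v} [CommRing A] [HopfAlgebra k A]

/-- Points with pairwise commuting semisimple actions: the Hopf algebra is spanned by group-likes. -/
theorem isDiagonalizable_of_commute [Algebra.FiniteType k A] [IsReduced A]
    (hcomm : ∀ g h : WithConv (A →ₐ[k] k), g * h = h * g)
    (hss : ∀ (g : A →ₐ[k] k) (W : Submodule k A) (_ : IsSubcomod (k := k) (A := A) W) (_ : Module.Finite k W)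
      (hs : ∀ x ∈ W, actL g.toLinearMap x ∈ W), Module.End.IsSemisimple ((actL g.toLinearMap : A →ₗ[k] A).restrict hs)) :
    HopfRep.IsDiagonalizable k A := by
  classical
  rw [HopfRep.IsDiagonalizable, eq_top_iff]
  rintro a -
  obtain ⟨W, hW, haW, hfin⟩ : ∃ W : Submodule k A, IsSubcomod (k := k) (A := A) W ∧ a ∈ W ∧ Module.Finite k W :=
    ⟨gen k A {a}, isSubcomod_gen _, subset_gen _ rfl, finite_gen (Set.finite_singleton a)⟩
  haveI := hfin
  let f : WithConv (A →ₐ[k] k) → Module.End k W := fun g =>
    (actL g.ofConv.toLinearMap : A →ₗ[k] A).restrict fun x hx => actL_mem_of_isSubcomod hW _ hx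
  have hf : Pairwise fun g h => Commute (f g) (f h) := fun g h _ => LinearMap.ext fun x => Subtype.ext (by
    show actL g.ofConv.toLinearMap (actL h.ofConv.toLinearMap (x : A)) =
      actL h.ofConv.toLinearMap (actL g.ofConv.toLinearMap (x : A))
    rw [← actL_mul, ← actL_mul, hcomm])
  have htop := Module.End.iSup_iInf_maxGenEigenspace_eq_top_of_iSup_maxGenEigenspace_eq_top_of_commute f hf
    fun g => Module.End.iSup_maxGenEigenspace_eq_top (f g)
  suffices h : ∀ χ : WithConv (A →ₐ[k] k) → k,
      (⨅ g, (f g).maxGenEigenspace (χ g)).map W.subtype ≤ Submodule.span k {b : A | IsGroupLikeElem k b} by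
    have ha : a ∈ (⊤ : Submodule k W).map W.subtype := ⟨⟨a, haW⟩, trivial, rfl⟩
    rw [← htop, Submodule.map_iSup] at ha
    exact iSup_le h ha
  rintro χ _ ⟨w, hw, rfl⟩
  have hev : ∀ g, actL g.ofConv.toLinearMap (w : A) = χ g • (w : A) := fun g => by
    have h1 := (Submodule.mem_iInf _).mp hw g
    have hsg : (f g).IsSemisimple := hss g.ofConv W hW hfin _
    rw [hsg.isFinitelySemisimple.maxGenEigenspace_eq_eigenspace, Module.End.mem_eigenspace_iff] at h1
    exact congrArg Subtype.val h1
  show (w : A) ∈ _
  rcases eq_or_ne (CoalgebraStruct.counit (R := k) (w : A)) 0 with h0 | h0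
  · rw [show (w : A) = 0 from Groth.Agent.H20Hopf.Rosenlicht.point_ext (k := k) fun g => ?_]
    · exact Submodule.zero_mem _
    · have h1 := congrArg (CoalgebraStruct.counit (R := k)) (hev (toConv g))
      rw [map_smul, h0, smul_zero, ← apply_coeff, coeff_counit] at h1
      exact h1
  · set e := CoalgebraStruct.counit (R := k) (w : A)
    have hval : ∀ g : WithConv (A →ₐ[k] k), g.ofConv (e⁻¹ • (w : A)) = χ g := fun g => by
      have h1 := congrArg (CoalgebraStruct.counit (R := k)) (hev g)
      rw [← apply_coeff, coeff_counit, map_smul, smul_eq_mul] at h1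
      rw [map_smul, show g.ofConv (w : A) = χ g * e from h1, smul_eq_mul,
        _root_.mul_comm (χ g), inv_mul_cancel_left₀ h0]
    have hw0 : (w : A) ≠ 0 := fun h => h0 (by simp [e, h])
    have hχ : ∀ g h, χ (g * h) = χ g * χ h := fun g h => by
      refine smul_left_injective k hw0 ?_
      show χ (g * h) • (w : A) = (χ g * χ h) • (w : A)
      rw [← hev, actL_mul, hev, map_smul, hev, smul_smul, _root_.mul_comm]
    rw [show (w : A) = e • (e⁻¹ • (w : A)) by rw [smul_smul, mul_inv_cancel₀ h0, one_smul]]
    refine Submodule.smul_mem _ _ (Submodule.subset_span (s := {b : A | IsGroupLikeElem k b}) ⟨?_, ?_⟩)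
    · rw [map_smul, smul_eq_mul, inv_mul_cancel₀ h0]
    · refine sub_eq_zero.mp (Groth.Agent.H20Hopf.Rosenlicht.tensor_ext (k := k) fun g => ?_)
      refine Groth.Agent.H20Hopf.Rosenlicht.point_ext (k := k) fun h => ?_
      have key : ∀ z : A ⊗[k] A, h (TensorProduct.lid k A (g.toLinearMap.rTensor A z)) =
          Algebra.TensorProduct.lift g h (fun _ _ => Commute.all _ _) z := fun z => by
        induction z using TensorProduct.induction_on with
        | zero => simp
        | tmul p q => simp
        | add p q hp hq => simp only [map_add, hp, hq]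
      rw [key, map_sub, Algebra.TensorProduct.lift_tmul]
      have h2 : (toConv g * toConv h).ofConv (e⁻¹ • (w : A)) = g (e⁻¹ • (w : A)) * h (e⁻¹ • (w : A)) := by
        rw [hval, hχ, ← hval (toConv g), ← hval (toConv h)]
      rw [sub_eq_zero, ← h2, AlgHom.convMul_apply]

end H20Borel
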