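import Groth.Agent.H20Borel.NormPts
import Groth.Agent.H20Borel.SemisimplePts
import Groth.Agent.H20Borel.FixLine
import Groth.Agent.S8060

/-!
# Borel subgroups through a maximal torus
-/

set_option autoImplicit false
set_option linter.style.haveILetI false
set_option backward.isDefEq.respectTransparency false
set_option maxHeartbeats 1000000
set_option synthInstance.maxHeartbeats 100000

universe u

open CategoryTheory CategoryTheory.Limits MonoidalCategory CartesianMonoidalCategory MonObj AlgebraicGeometry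
open Groth.Agent.H27Witt H20Mu H20Conj
open scoped commutatorElement

noncomputable section

namespace H20Borel

variable {k : Type u} [Field k] [IsAlgClosed k]
variable {G : Over (Sk k)} [GrpObj G] [IsAffine G.left] [Smooth G.hom]

local notation "Pt" X => 𝟙_ (Over (Sk k)) ⟶ X

omit [IsAlgClosed k] [IsAffine G.left] [Smooth G.hom] in
/-- A Borel subgroup inside another is the same. -/
theorem iso_of_borel_le {B B' : Over (Sk k)} [GrpObj B] [GrpObj B'] (iB : B ⟶ G) (iB' : B' ⟶ G)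
    (hB : Red.IsBorelOver k iB) (hB' : Red.IsBorelOver k iB') (f : B ⟶ B') (hf : f ≫ iB' = iB) :
    ∃ e : B ≅ B', e.hom ≫ iB' = iB := by
  haveI := hB'.1
  haveI : IsIso f := hB.2.2.2.2.2 B' iB' f hB'.2.1 hB'.2.2.1 hB'.2.2.2.1 hB'.2.2.2.2.1 hf
  exact ⟨asIso f, hf⟩

omit [IsAlgClosed k] [IsAffine G.left] [Smooth G.hom] in
theorem comp_conjBy (g : Pt G) {X : Over (Sk k)} (i : X ⟶ G) (x : Pt X) :
    x ≫ AGF.conjBy g i = g * (x ≫ i) * g⁻¹ := by
  rw [AGF.conjBy, MonObj.comp_mul, MonObj.comp_mul, GrpObj.comp_inv, ← Category.assoc,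
    toUnit_unique (x ≫ toUnit X) (𝟙 _), Category.id_comp]

/-- **A torus meets the commutators of a connected solvable group trivially.** -/
theorem commutator_eq_one_of_mem_torus {B T : Over (Sk k)} [GrpObj B] [GrpObj T] [IsAffine B.left] [Smooth B.hom]
    [ConnectedSpace B.left] (hsol : Red.IsSolvableGrp B) (i : B ⟶ G) [IsMonHom i] (iT : T ⟶ G) [IsMonHom iT]
    (hT : Red.IsTorus T) (x y : Pt B) (t : Pt T) (h : t ≫ iT = ⁅x, y⁆ ≫ i) : t ≫ iT = 1 := by
  classical
  obtain ⟨M, χ, hd⟩ := exists_diag_rep iT hT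
  let φ : (Pt G) →* GLk k M.N := M.ptMat.toHomUnits
  have hF : ∀ g p q, (φ g : Mat k M.N) p q = val g (M.F p q) := fun g p q => rfl
  let S := (φ.comp (postHom i)).range
  obtain ⟨n, hn⟩ := hsol
  haveI : Group.IsSolvable (Pt B) := ⟨n, hn _⟩
  haveI : Group.IsSolvable S := Group.isSolvable_of_surjective (φ.comp (postHom i)).rangeRestrict_surjective
  let ρ : S →* Module.End k (Vec k M.N) :=
    { toFun := fun g => Matrix.toLinAlgEquiv' ((g : GLk k M.N) : Mat k M.N)
      map_one' := by simp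
      map_mul' := fun g h => by simp }
  have hρ : IsRegRep (regAlg S) ρ := fun ψ v => by
    have e : ∀ g : S, ψ (ρ g v) = ψ (((g : GLk k M.N) : Mat k M.N).mulVec v) := fun g => rfl
    simp only [e]
    exact mulVec_mem S ψ v
  have hnil := isNilpotent_commutator_sub_one (isIrredFn_range i φ M.F hF) _ ρ hρ le_rfl
    ((φ.comp (postHom i)).rangeRestrict x) ((φ.comp (postHom i)).rangeRestrict y)
  have h1 : IsNilpotent (M.ptMat (t ≫ iT) - 1) := by
    have h2 := hnil.map (Matrix.toLinAlgEquiv' (R := k) (n := Fin M.N)).symm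
    rw [map_sub, map_one, show (Matrix.toLinAlgEquiv').symm
      (ρ ⁅(φ.comp (postHom i)).rangeRestrict x, (φ.comp (postHom i)).rangeRestrict y⁆) = M.ptMat (t ≫ iT) by
        rw [h, ← map_commutatorElement]
        exact AlgEquiv.symm_apply_apply _ _] at h2
    exact h2
  refine M.ptMat_injective ?_
  rw [map_one, M.ptMat_diag hd] at *
  obtain ⟨m, hm⟩ := h1
  rw [show Matrix.diagonal (fun a => val t (χ a)) - 1 = Matrix.diagonal fun a => val t (χ a) - 1 by
    rw [← Matrix.diagonal_one, Matrix.diagonal_sub], Matrix.diagonal_pow] at hm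
  rw [← Matrix.diagonal_one]
  refine congrArg Matrix.diagonal (funext fun a => sub_eq_zero.mp (eq_zero_of_pow_eq_zero (n := m) ?_))
  have h3 := congrFun (congrFun hm a) a
  rwa [Matrix.diagonal_apply_eq] at h3

variable [ConnectedSpace G.left]

/-- **The centralizer of a maximal torus lies in every Borel subgroup containing the torus.** -/
theorem exists_cartan_factor {T B C : Over (Sk k)} [GrpObj T] [GrpObj B] [GrpObj C] (iT : T ⟶ G)
    (hT : AGF.IsMaxTorus iT) (c : C ⟶ G) (hc : Red.IsCentralizerOf iT c) (iB : B ⟶ G)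
    (hB : Red.IsBorelOver k iB) (t : T ⟶ B) (ht : t ≫ iB = iT) : ∃ f : C ⟶ B, f ≫ iB = c := by
  obtain ⟨T₁, C₁, gT₁, gC₁, iT₁, c₁, cB, tC, hT₁, hc₁, hcB, htC⟩ := exists_cartan_le iB hB
  letI := gT₁; letI := gC₁
  obtain ⟨g, f, f', hf, hf'⟩ := Groth.Agent.S8060.result k G B B T₁ T iB iB hB hB iT₁ iT hT₁ hT (tC ≫ cB)
    (by rw [Category.assoc, hcB, htC]) t ht
  rw [H20Conj.conjBy_eq] at hf hf'
  have h1 : conj g⁻¹ ≫ conj g = 𝟙 G := by
    have := comp_conj_conj g⁻¹ (𝟙 G)
    rwa [Category.id_comp, _root_.inv_inv] at this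
  have h2 : conj g ≫ conj g⁻¹ = 𝟙 G := by
    have := comp_conj_conj g (𝟙 G)
    rwa [Category.id_comp] at this
  obtain ⟨z, hz⟩ := (hc₁.2.2 C (c ≫ conj g)).mpr fun X x h => by
    have e := (hc.2.2 C c).mp ⟨𝟙 C, Category.id_comp _⟩ X x (h ≫ f'.hom)
    have e' := congrArg (· ≫ conj g) e
    simp only [MonObj.mul_comp, Category.assoc] at e'
    rw [← Category.assoc f'.hom, hf', Category.assoc, h1, Category.comp_id] at e'
    exact e'
  refine ⟨z ≫ cB ≫ f.hom, ?_⟩
  rw [Category.assoc, Category.assoc, hf, ← Category.assoc cB, hcB, ← Category.assoc, hz, Category.assoc, h2,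
    Category.comp_id]

/-- **A rational point normalizing a maximal torus and a Borel subgroup containing it centralizes the torus.** -/
theorem conjBy_eq_of_normalizes {T B : Over (Sk k)} [GrpObj T] [GrpObj B] (iT : T ⟶ G) (iB : B ⟶ G)
    (hT : AGF.IsMaxTorus iT) (hB : Red.IsBorelOver k iB) (t : T ⟶ B) (ht : t ≫ iB = iT) (n : Pt G)
    (τ : T ≅ T) (hτ : τ.hom ≫ iT = AGF.conjBy n iT) (σ : B ≅ B) (hσ : σ.hom ≫ iB = AGF.conjBy n iB) :
    AGF.conjBy n iT = iT := by
  obtain ⟨hTm, hTmo, hTT, -⟩ := hT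
  haveI := hTm
  haveI := hB.1; haveI := hB.2.1; haveI := hB.2.2.1; haveI := hB.2.2.2.1
  haveI : IsAffine B.left := isAffine_of_isAffineHom iB.left
  obtain ⟨hTa, hTs, -⟩ := torus_props T hTT
  haveI := hTa; haveI := hTs
  obtain ⟨b, hb⟩ := mem_of_normalizes iB hB n fun β => ⟨β ≫ σ.inv, by
    have e := comp_conjBy n iB (β ≫ σ.inv)
    rw [← hσ, Category.assoc, σ.inv_hom_id_assoc] at e
    rw [e]; group⟩
  refine hom_ext_pts fun (x : Pt T) => ?_
  have e : x ≫ AGF.conjBy n iT = n * (x ≫ iT) * n⁻¹ := comp_conjBy n iT x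
  have h1 : ((x ≫ τ.hom) * x⁻¹) ≫ iT = ⁅b, x ≫ t⁆ ≫ iB := by
    rw [commutatorElement_def]
    simp only [MonObj.mul_comp, GrpObj.inv_comp, Category.assoc, hτ, ht, hb, e]
  have h2 := commutator_eq_one_of_mem_torus hB.2.2.2.2.1 iB iT hTT b (x ≫ t) _ h1
  rw [MonObj.mul_comp, GrpObj.inv_comp, Category.assoc, hτ, mul_inv_eq_one] at h2
  exact h2

end H20Borel
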