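import Groth.Agent.H20Borel.Conjugates
import Groth.Agent.H19Quot.Homogeneous

/-!
# Saturated closed sets project to closed sets along a proper quotient
-/

set_option autoImplicit false
set_option linter.style.haveILetI false
set_option backward.isDefEq.respectTransparency false
set_option maxHeartbeats 1000000
set_option synthInstance.maxHeartbeats 100000

universe u

open CategoryTheory CategoryTheory.Limits MonoidalCategory CartesianMonoidalCategory MonObj AlgebraicGeometry
open Groth.Agent.H27Witt H20Mu H20Conj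

noncomputable section

namespace H20Borel

variable {k : Type u} [Field k]

local notation "Pt" X => 𝟙_ (Over (Sk k)) ⟶ X

/-- The point of the scheme under a rational point. -/
def ptSet {X : Over (Sk k)} (x : Pt X) : X.left := x.left (IsLocalRing.closedPoint k)

theorem ptSet_comp {X Y : Over (Sk k)} (x : Pt X) (f : X ⟶ Y) : ptSet (x ≫ f) = f.left (ptSet x) := rfl

/-- A basic open contains a rational point iff the value is nonzero. -/
theorem ptSet_mem_basicOpen {X : Over (Sk k)} (x : Pt X) (f : Fn X) :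
    ptSet x ∈ X.left.basicOpen (f : Γ(X.left, ⊤)) ↔ val x f ≠ 0 := by
  have hpre : ∀ p, x.left p ∈ X.left.basicOpen (f : Γ(X.left, ⊤)) ↔
      p ∈ (T0 k).left.basicOpen (Fn.pull x f : Γ((T0 k).left, ⊤)) := fun p => by
    change p ∈ x.left ⁻¹ᵁ X.left.basicOpen (f : Γ(X.left, ⊤)) ↔ _
    rw [Scheme.preimage_basicOpen_top]
    rfl
  have hconst : Fn.pull x f = algebraMap k (Fn (T0 k)) (val x f) := (struct_gamma _).symm
  refine (hpre _).trans ?_
  rw [hconst]
  constructor
  · intro h h0
    rw [h0, map_zero] at h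
    exact (Scheme.basicOpen_zero (X := (T0 k).left) ⊤).le h
  · intro h
    exact (Scheme.basicOpen_of_isUnit (X := (T0 k).left)
      ((isUnit_iff_ne_zero.mpr h).map (algebraMap k (Fn (T0 k))))).ge trivial

variable [IsAlgClosed k]

/-- A closed point is rational. -/
theorem exists_pt_eq {X : Over (Sk k)} [LocallyOfFiniteType X.hom] (x : X.left) (hx : IsClosed ({x} : Set X.left)) :
    ∃ p : Pt X, ptSet p = x :=
  ⟨Over.homMk (pointOfClosedPoint X.hom x hx) (pointOfClosedPoint_comp _ _ _),
    pointOfClosedPoint_apply X.hom x hx _⟩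

theorem ptSet_injective {X : Over (Sk k)} [LocallyOfFiniteType X.hom] {p q : Pt X} (h : ptSet p = ptSet q) : p = q :=
  Over.OverMorphism.ext (ext_of_apply_closedPoint_eq X.hom (Over.w p) (Over.w q) h)

theorem isClosed_ptSet {X : Over (Sk k)} [LocallyOfFiniteType X.hom] (p : Pt X) :
    IsClosed ({ptSet p} : Set X.left) :=
  (pointEquivClosedPoint X.hom ⟨p.left, Over.w p⟩).2

/-- Two rational points of a product are equal if their components are. -/
theorem pt_eta {G A : Over (Sk k)} (p : Pt (G ⊗ A)) : lift (p ≫ fst G A) (p ≫ snd G A) = p := by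
  rw [← comp_lift, lift_fst_snd, Category.comp_id]

variable {G H X A : Over (Sk k)} [GrpObj G] [GrpObj H]

/-- **A closed set saturated on rational points has closed projection.** -/
theorem isClosed_proj [LocallyOfFiniteType G.hom] [LocallyOfFiniteType A.hom]
    (i : H ⟶ G) (a : AlgGrp.Action G X) (o : Pt X) (hX : AGF.IsQuotient i X a o) [IsProper X.hom]
    (W : Set (G ⊗ A).left) (hW : IsClosed W)
    (hsat : ∀ (g : Pt G) (h : Pt H) (z : Pt A), ptSet (lift g z) ∈ W → ptSet (lift (g * (h ≫ i)) z) ∈ W) :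
    IsClosed ((snd G A).left '' W) := by
  haveI := hX.1; haveI := hX.2.1; haveI := hX.2.2.1
  let q := a.orbitMap o
  haveI : LocallyOfFinitePresentation q.left := Groth.Agent.H19Grp.QuotientDesc.lfp_orbitMap a o
  let p : G ⊗ A ⟶ X ⊗ A := q ▷ A
  have hsq := Groth.Agent.H19Quot.isPullback_whiskerRight q A
  haveI : Surjective p.left := MorphismProperty.of_isPullback hsq.flip ‹Surjective q.left›
  haveI : Flat p.left := MorphismProperty.of_isPullback hsq.flip ‹Flat q.left›
  haveI : LocallyOfFinitePresentation p.left :=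
    MorphismProperty.of_isPullback hsq.flip ‹LocallyOfFinitePresentation q.left›
  haveI : LocallyOfFiniteType (G ⊗ A).hom := by
    show LocallyOfFiniteType (pullback.fst G.hom A.hom ≫ G.hom)
    infer_instance
  haveI : LocallyOfFiniteType (X ⊗ A).hom := by
    show LocallyOfFiniteType (pullback.fst X.hom A.hom ≫ X.hom)
    infer_instance
  haveI : JacobsonSpace ↥(G ⊗ A).left := LocallyOfFiniteType.jacobsonSpace (G ⊗ A).hom
  have hopen : IsOpenMap p.left.base := p.left.isOpenMap
  have himage : p.left '' W = (p.left '' Wᶜ)ᶜ := by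
    refine Set.Subset.antisymm ?_ fun y hy => ?_
    · rintro _ ⟨x, hx, rfl⟩ hV
      obtain ⟨a₀, ⟨haW, haV⟩, hac⟩ := nonempty_inter_closedPoints (Z := W ∩ p.left ⁻¹' (p.left '' Wᶜ))
        ⟨x, hx, hV⟩ (hW.isLocallyClosed.inter
          (((hopen _ hW.isOpen_compl).preimage p.left.continuous).isLocallyClosed))
      obtain ⟨α, rfl⟩ := exists_pt_eq a₀ hac
      obtain ⟨b, hb, hab⟩ := haV
      have hfib : IsClosed (p.left ⁻¹' {ptSet (α ≫ p)}) := (isClosed_ptSet _).preimage p.left.continuous
      obtain ⟨b₀, ⟨hbW, hbF⟩, hbc⟩ := nonempty_inter_closedPoints (Z := Wᶜ ∩ p.left ⁻¹' {ptSet (α ≫ p)})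
        ⟨b, hb, hab.trans (ptSet_comp α p).symm⟩ (hW.isOpen_compl.isLocallyClosed.inter hfib.isLocallyClosed)
      obtain ⟨β, rfl⟩ := exists_pt_eq b₀ hbc
      have e : β ≫ p = α ≫ p := ptSet_injective ((ptSet_comp β p).trans hbF)
      have e1 : (β ≫ fst G A) ≫ q = (α ≫ fst G A) ≫ q := by
        simpa [p] using congrArg (· ≫ fst X A) e
      have e2 : β ≫ snd G A = α ≫ snd G A := by simpa [p] using congrArg (· ≫ snd X A) e
      obtain ⟨h, hh⟩ := (Groth.Agent.H19Grp.QuotientDesc.comp_orbitMap_eq_iff a o i hX _ _).1 e1.symm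
      refine hbW ?_
      have := hsat (α ≫ fst G A) h (α ≫ snd G A) (by rw [pt_eta]; exact haW)
      rwa [← hh, ← e2, pt_eta] at this
    · obtain ⟨x, rfl⟩ := p.left.surjective y
      exact ⟨x, not_not.mp fun hx => hy ⟨x, hx, rfl⟩, rfl⟩
  haveI : UniversallyClosed (snd X A).left :=
    inferInstanceAs (UniversallyClosed (pullback.snd X.hom A.hom))
  have hc := (snd X A).left.isClosedMap _ (himage ▸ (hopen _ hW.isOpen_compl).isClosed_compl)
  have e : (snd X A).left '' (p.left '' W) = (snd G A).left '' W := by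
    rw [Set.image_image]
    refine Set.image_congr fun z _ => ?_
    have e : p ≫ snd X A = snd G A := whiskerRight_snd _ _
    rw [← e]
    rfl
  exact e ▸ hc

/-- **Limits of a saturated closed set are attained.** -/
theorem exists_mem_of_vanish [LocallyOfFiniteType G.hom] [LocallyOfFiniteType A.hom] [IsAffine A.left]
    (i : H ⟶ G) (a : AlgGrp.Action G X) (o : Pt X) (hX : AGF.IsQuotient i X a o) [IsProper X.hom]
    (W : Set (G ⊗ A).left) (hW : IsClosed W)
    (hsat : ∀ (g : Pt G) (h : Pt H) (z : Pt A), ptSet (lift g z) ∈ W → ptSet (lift (g * (h ≫ i)) z) ∈ W)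
    (z : Pt A) (hz : ∀ f : Fn A, (∀ (g : Pt G) (z' : Pt A), ptSet (lift g z') ∈ W → val z' f = 0) → val z f = 0) :
    ∃ g : Pt G, ptSet (lift g z) ∈ W := by
  have hC := isClosed_proj i a o hX W hW hsat
  haveI : LocallyOfFiniteType (G ⊗ A).hom := by
    show LocallyOfFiniteType (pullback.fst G.hom A.hom ≫ G.hom)
    infer_instance
  haveI : JacobsonSpace ↥(G ⊗ A).left := LocallyOfFiniteType.jacobsonSpace (G ⊗ A).hom
  by_contra hne
  have hzC : ptSet z ∉ (snd G A).left '' W := by
    rintro ⟨w, hw, hwz⟩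
    obtain ⟨w₀, ⟨hw₀, hw₀z⟩, hc⟩ := nonempty_inter_closedPoints (Z := W ∩ (snd G A).left ⁻¹' {ptSet z})
      ⟨w, hw, hwz⟩ (hW.isLocallyClosed.inter ((isClosed_ptSet z).preimage (snd G A).left.continuous).isLocallyClosed)
    obtain ⟨π, rfl⟩ := exists_pt_eq w₀ hc
    have e : π ≫ snd G A = z := ptSet_injective ((ptSet_comp _ _).trans hw₀z)
    exact hne ⟨π ≫ fst G A, by rw [← e, pt_eta]; exact hw₀⟩
  obtain ⟨f, hf, hzf⟩ := (isAffineOpen_top A.left).exists_basicOpen_le
    (V := ⟨((snd G A).left '' W)ᶜ, hC.isOpen_compl⟩) ⟨ptSet z, hzC⟩ trivial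
  refine (ptSet_mem_basicOpen z f).mp hzf (hz f fun g z' hw => ?_)
  by_contra h0
  exact hf ((ptSet_mem_basicOpen z' f).mpr h0) ⟨_, hw, by rw [← ptSet_comp, lift_snd]⟩

end H20Borel
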