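import Groth.Agent.H20Conj.Rep
import Groth.Agent.H19Grp.ImageGroup
import Groth.Agent.H20Comod.LieKolchin
import Groth.Prelude.Def_Red2

/-!
# The reduced subgroup scheme of a connected group of rational points
-/

set_option autoImplicit false
set_option linter.style.haveILetI false
set_option backward.isDefEq.respectTransparency false

universe u

open CategoryTheory CategoryTheory.Limits MonoidalCategory CartesianMonoidalCategory MonObj AlgebraicGeometry
open Groth.Agent.H27Witt H20Mu H20Conj
open scoped commutatorElement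
open Groth.Agent.H20Comod.LieKolchin (commSet conj_mem_commSet commSet_le_derivedSeries)

noncomputable section

namespace H20Borel

variable {k : Type u} [Field k]

local notation "Pt" X => 𝟙_ (Over (Sk k)) ⟶ X

section Words

variable {Γ : Type*} [Group Γ]

theorem derivedSeries_le_closure_commSet : ∀ n, derivedSeries Γ n ≤ Subgroup.closure (commSet (G := Γ) n)
  | 0 => fun g _ => Subgroup.subset_closure trivial
  | n + 1 => by
    let C := Subgroup.closure (commSet (G := Γ) (n + 1))
    haveI : C.Normal := ⟨fun x hx g => by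
      have : (MulAut.conj g).toMonoidHom x ∈ C := by
        refine (Subgroup.closure_le (C.comap (MulAut.conj g).toMonoidHom)).mpr ?_ hx
        exact fun a ha => Subgroup.subset_closure (conj_mem_commSet _ a ha g)
      simpa using this⟩
    refine (Subgroup.commutator_mono (derivedSeries_le_closure_commSet n) (derivedSeries_le_closure_commSet n)).trans ?_
    rw [Subgroup.commutator_le]
    let π := QuotientGroup.mk' C
    suffices h : ∀ a ∈ Subgroup.closure (commSet (G := Γ) n), ∀ b ∈ Subgroup.closure (commSet (G := Γ) n),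
        π a * π b = π b * π a by
      intro a ha b hb
      refine (QuotientGroup.eq_one_iff (N := C) ⁅a, b⁆).mp ?_
      show π ⁅a, b⁆ = 1
      rw [map_commutatorElement, commutatorElement_eq_one_iff_mul_comm, h a ha b hb]
    have h0 : ∀ a ∈ commSet (G := Γ) n, ∀ b ∈ commSet (G := Γ) n, π a * π b = π b * π a := fun a ha b hb => by
      rw [← commutatorElement_eq_one_iff_mul_comm, ← map_commutatorElement]
      exact (QuotientGroup.eq_one_iff (N := C) _).mpr (Subgroup.subset_closure ⟨a, ha, b, hb, rfl⟩)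
    intro a ha b hb
    have h1 : ∀ b ∈ commSet (G := Γ) n, π a * π b = π b * π a := fun b hb =>
      Subgroup.closure_induction (p := fun a _ => π a * π b = π b * π a) (fun a ha => h0 a ha b hb) (by simp)
        (fun x y _ _ hx hy => by rw [map_mul, _root_.mul_assoc, hy, ← _root_.mul_assoc, hx, _root_.mul_assoc])
        (fun x _ hx => by rw [map_inv]; exact (Commute.inv_left hx)) ha
    exact Subgroup.closure_induction (p := fun b _ => π a * π b = π b * π a) h1 (by simp)
        (fun x y _ _ hx hy => by rw [map_mul, ← _root_.mul_assoc, hx, _root_.mul_assoc, hy, _root_.mul_assoc])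
        (fun x _ hx => by rw [map_inv]; exact (Commute.inv_right hx)) hb

end Words

section ExtPoints

variable [IsAlgClosed k]

/-- Functions on a reduced affine scheme of finite type are determined by their values. -/
theorem ext_points_reduced {X : Over (Sk k)} [IsAffine X.left] [LocallyOfFiniteType X.hom]
    [AlgebraicGeometry.IsReduced X.left] {a b : Fn X} (h : ∀ x : Pt X, val x a = val x b) : a = b := by
  haveI := Fn.finiteType X
  haveI : _root_.IsReduced (Fn X) := inferInstanceAs (_root_.IsReduced Γ(X.left, ⊤))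
  refine sub_eq_zero.mp (Groth.Agent.H20Hopf.Rosenlicht.point_ext (k := k) (a := a - b) fun φ => ?_)
  obtain ⟨x, rfl⟩ := Fn.exists_point φ
  exact (map_sub _ a b).trans (sub_eq_zero.mpr (h x))

end ExtPoints

variable (G : Over (Sk k)) [GrpObj G]

/-- Left translation by a rational point. -/
def lg (g : Pt G) : G ⟶ G := (toUnit G ≫ g) * 𝟙 G

theorem comp_lg (g x : Pt G) : x ≫ lg G g = g * x := by
  rw [lg, MonObj.comp_mul, Category.comp_id, ← Category.assoc, toUnit_unique (x ≫ toUnit G) (𝟙 _), Category.id_comp]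

theorem comp_rg (g x : Pt G) : x ≫ rg G g = x * g := by
  rw [rg, MonObj.comp_mul, Category.comp_id, ← Category.assoc, toUnit_unique (x ≫ toUnit G) (𝟙 _), Category.id_comp]

variable {G}

/-- The functions vanishing on a set of points. -/
def vanish (R : Set (Pt G)) : Ideal (Fn G) := ⨅ g ∈ R, RingHom.ker (val g)

theorem mem_vanish {R : Set (Pt G)} {a : Fn G} : a ∈ vanish R ↔ ∀ g ∈ R, val g a = 0 := by
  simp [vanish]

/-- The closure of a group of points. -/
def clo (R : Subgroup (Pt G)) : Subgroup (Pt G) where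
  carrier := {h | ∀ a ∈ vanish (R : Set (Pt G)), val h a = 0}
  one_mem' a ha := mem_vanish.mp ha 1 R.one_mem
  mul_mem' := by
    intro x y hx hy a ha
    have h1 : ∀ g ∈ R, val (g * y) a = 0 := fun g hg => by
      rw [← comp_lg, ← val_pull]
      refine hy _ (mem_vanish.mpr fun h hh => ?_)
      rw [val_pull, comp_lg]
      exact mem_vanish.mp ha _ (R.mul_mem hg hh)
    rw [← comp_rg, ← val_pull]
    refine hx _ (mem_vanish.mpr fun g hg => ?_)
    rw [val_pull, comp_rg]
    exact h1 g hg
  inv_mem' := by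
    intro x hx a ha
    rw [show x⁻¹ = x ≫ (𝟙 G)⁻¹ by rw [GrpObj.comp_inv, Category.comp_id], ← val_pull]
    refine hx _ (mem_vanish.mpr fun g hg => ?_)
    rw [val_pull, GrpObj.comp_inv, Category.comp_id]
    exact mem_vanish.mp ha _ (R.inv_mem hg)

theorem mem_clo {R : Subgroup (Pt G)} {h : Pt G} : h ∈ clo R ↔ ∀ a ∈ vanish (R : Set (Pt G)), val h a = 0 := Iff.rfl

variable [IsAlgClosed k] [IsAffine G.left] [LocallyOfFiniteType G.hom]

/-- **The subgroup scheme of a connected group of points.** -/
theorem exists_subgroup_scheme (R : Subgroup (Pt G)) (hR : (vanish (R : Set (Pt G))).IsPrime)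
    (hsol : Group.IsSolvable (clo R)) :
    ∃ (H : Over (Sk k)) (_ : GrpObj H) (i : H ⟶ G), IsMonHom i ∧ IsClosedImmersion i.left ∧ IsAffine H.left ∧
      Smooth H.hom ∧ ConnectedSpace H.left ∧ Red.IsSolvableGrp H ∧ (∀ h : Pt H, h ≫ i ∈ clo R) ∧
      ∀ {Y : Over (Sk k)} [IsAffine Y.left] [LocallyOfFiniteType Y.hom] [AlgebraicGeometry.IsReduced Y.left]
        (f : Y ⟶ G), (∀ y : Pt Y, y ≫ f ∈ clo R) → ∃ f' : Y ⟶ H, f' ≫ i = f := by
  let P := vanish (R : Set (Pt G))
  haveI := hR
  let A := Fn G ⧸ P
  let e := Fn.specAlg (k := k) A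
  let H : Over (Sk k) := Over.mk (Spec.map (CommRingCat.ofHom (algebraMap k A)))
  haveI : IsAffine H.left := inferInstanceAs (IsAffine (Spec _))
  obtain ⟨i, hi⟩ := Fn.exists_hom (X := H) (Y := G) (e.toAlgHom.comp (Ideal.Quotient.mkₐ k P))
  haveI hci : IsClosedImmersion i.left := IsClosedImmersion.of_surjective_of_isAffine _
    ((congrArg (fun f : Fn G →ₐ[k] Fn H => Function.Surjective f) hi).mpr
      (e.surjective.comp Ideal.Quotient.mk_surjective))
  haveI : IsIntegral H.left := inferInstanceAs (IsIntegral (Spec (CommRingCat.of A)))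
  haveI : LocallyOfFiniteType H.hom := by rw [← Over.w i]; infer_instance
  haveI : Mono i := (Over.forget _).mono_of_mono_map (inferInstanceAs (Mono i.left))
  have hker : ∀ a, Fn.pull i a = 0 ↔ a ∈ P := fun a => by
    rw [hi, AlgHom.comp_apply]
    exact (map_eq_zero_iff e.toAlgHom e.injective).trans Ideal.Quotient.eq_zero_iff_mem
  have hpts : ∀ h : Pt H, h ≫ i ∈ clo R := fun h a ha => by
    rw [← val_pull, (hker a).mpr ha, map_zero]
  have hlift : ∀ {Y : Over (Sk k)} [IsAffine Y.left] [LocallyOfFiniteType Y.hom] [AlgebraicGeometry.IsReduced Y.left]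
      (f : Y ⟶ G), (∀ y : Pt Y, y ≫ f ∈ clo R) → ∃ f' : Y ⟶ H, f' ≫ i = f := by
    intro Y _ _ _ f hf
    have hP0 : ∀ a ∈ P, Fn.pull f a = 0 := fun a ha => ext_points_reduced fun y => by
      rw [val_pull, map_zero]; exact hf y a ha
    let ψ : A →ₐ[k] Fn Y := Ideal.Quotient.liftₐ P (Fn.pull f) hP0
    obtain ⟨f', hf'⟩ := Fn.exists_hom (X := Y) (Y := H) (ψ.comp e.symm.toAlgHom)
    refine ⟨f', Fn.hom_ext ?_⟩
    rw [Fn.pull_comp, hf', hi]
    refine AlgHom.ext fun a => ?_
    show ψ (e.symm (e (Ideal.Quotient.mk P a))) = Fn.pull f a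
    exact (congrArg ψ (e.symm_apply_apply (Ideal.Quotient.mk P a))).trans rfl
  haveI : GeometricallyReduced H.hom := Groth.Agent.H06Red.geometricallyReduced_of_perfectField _
  haveI : AlgebraicGeometry.IsReduced (H ⊗ H).left := by
    show AlgebraicGeometry.IsReduced (pullback H.hom H.hom)
    exact Groth.Agent.H06Red.isReduced_pullback _ _
  haveI : IsAffine (H ⊗ H).left := inferInstanceAs (IsAffine (pullback H.hom H.hom))
  haveI : LocallyOfFiniteType (H ⊗ H).hom := by
    show LocallyOfFiniteType (pullback.fst H.hom H.hom ≫ H.hom); infer_instance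
  obtain ⟨m, hm⟩ := hlift ((i ⊗ₘ i) ≫ μ[G]) fun y => by
    have e1 : y ≫ (i ⊗ₘ i) ≫ μ[G] = (y ≫ fst H H ≫ i) * (y ≫ snd H H ≫ i) := by
      rw [Hom.mul_def, ← comp_lift_assoc]
      congr 2
    rw [e1, ← Category.assoc, ← Category.assoc]
    exact (clo R).mul_mem (hpts _) (hpts _)
  obtain ⟨v, hv⟩ := hlift (i ≫ ι[G]) fun y => by
    rw [← Category.assoc, show (y ≫ i) ≫ ι[G] = (y ≫ i)⁻¹ from rfl]
    exact (clo R).inv_mem (hpts y)
  haveI : AlgebraicGeometry.IsReduced (T0 k).left := inferInstanceAs (AlgebraicGeometry.IsReduced (Spec (CommRingCat.of k)))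
  haveI : IsAffine (𝟙_ (Over (Sk k))).left := inferInstanceAs (IsAffine (Spec (CommRingCat.of k)))
  haveI : LocallyOfFiniteType (𝟙_ (Over (Sk k))).hom := inferInstanceAs (LocallyOfFiniteType (𝟙 (Sk k)))
  haveI : AlgebraicGeometry.IsReduced (𝟙_ (Over (Sk k))).left :=
    inferInstanceAs (AlgebraicGeometry.IsReduced (Spec (CommRingCat.of k)))
  obtain ⟨o, ho⟩ := hlift (1 : Pt G) fun y => by rw [MonObj.comp_one]; exact (clo R).one_mem
  letI : MonObj H :=
    { one := o
      mul := m
      one_mul := by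
        rw [← cancel_mono i, Category.assoc, hm, ← Category.assoc, ← tensorHom_id,
          tensorHom_comp_tensorHom, ho, Category.id_comp, leftUnitor_hom]
        rw [show (1 : Pt G) = η[G] by rw [Hom.one_def, toUnit_unique (toUnit _) (𝟙 _), Category.id_comp]]
        rw [MonoidalCategory.tensorHom_def', Category.assoc, MonObj.one_mul, leftUnitor_hom, whiskerLeft_snd]
      mul_one := by
        rw [← cancel_mono i, Category.assoc, hm, ← Category.assoc, ← id_tensorHom,
          tensorHom_comp_tensorHom, ho, Category.id_comp, rightUnitor_hom]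
        rw [show (1 : Pt G) = η[G] by rw [Hom.one_def, toUnit_unique (toUnit _) (𝟙 _), Category.id_comp]]
        rw [MonoidalCategory.tensorHom_def, Category.assoc, MonObj.mul_one, rightUnitor_hom, whiskerRight_fst]
      mul_assoc := by
        have e1 : ((i ⊗ₘ i) ≫ μ[G]) ⊗ₘ i = ((i ⊗ₘ i) ⊗ₘ i) ≫ (μ[G] ▷ G) := by
          rw [← tensorHom_id, tensorHom_comp_tensorHom, Category.comp_id]
        have e2 : i ⊗ₘ ((i ⊗ₘ i) ≫ μ[G]) = (i ⊗ₘ (i ⊗ₘ i)) ≫ (G ◁ μ[G]) := by
          rw [← id_tensorHom, tensorHom_comp_tensorHom, Category.comp_id]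
        rw [← cancel_mono i, Category.assoc, hm, ← Category.assoc, ← tensorHom_id,
          tensorHom_comp_tensorHom, hm, Category.id_comp, e1, Category.assoc, Category.assoc,
          Category.assoc, hm, ← Category.assoc (H ◁ m), ← id_tensorHom, tensorHom_comp_tensorHom,
          hm, Category.id_comp, e2, Category.assoc, MonObj.mul_assoc, associator_naturality_assoc] }
  have hone : (1 : Pt G) = η[G] := by rw [Hom.one_def, toUnit_unique (toUnit _) (𝟙 _), Category.id_comp]
  letI : GrpObj H :=
    { inv := v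
      left_inv := by
        rw [← cancel_mono i]
        show (lift v (𝟙 H) ≫ m) ≫ i = (toUnit H ≫ o) ≫ i
        rw [Category.assoc, hm, lift_map_assoc, hv, Category.id_comp, Category.assoc, ho, hone]
        have h := inv_mul_cancel i
        simpa only [Hom.mul_def, Hom.inv_def, Hom.one_def] using h
      right_inv := by
        rw [← cancel_mono i]
        show (lift (𝟙 H) v ≫ m) ≫ i = (toUnit H ≫ o) ≫ i
        rw [Category.assoc, hm, lift_map_assoc, hv, Category.id_comp, Category.assoc, ho, hone]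
        have h := mul_inv_cancel i
        simpa only [Hom.mul_def, Hom.inv_def, Hom.one_def] using h }
  haveI hmon : IsMonHom i := { one_hom := ho.trans hone, mul_hom := hm }
  haveI hsm : Smooth H.hom := by
    letI hH : GrpObj H := inferInstance
    letI : GrpObj (Over.mk H.hom) := hH
    exact smooth_of_grpObj H.hom
  refine ⟨H, inferInstance, i, hmon, hci, inferInstance, hsm, inferInstance, ?_, hpts, hlift⟩
  -- solvability
  obtain ⟨n, hn⟩ := hsol.solvable
  haveI hsmT : ∀ {X Y : Over (Sk k)} [Smooth X.hom] [Smooth Y.hom], Smooth (X ⊗ Y).hom := by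
    intro X Y _ _
    show Smooth (pullback.fst X.hom Y.hom ≫ X.hom)
    infer_instance
  have key : ∀ l : ℕ, ∃ (W : Over (Sk k)) (w : W ⟶ H), IsAffine W.left ∧ Smooth W.hom ∧
      (∀ x : Pt W, x ≫ w ∈ commSet (G := Pt H) l) ∧
      ∀ (X : Over (Sk k)), ∀ a ∈ commSet (G := X ⟶ H) l, ∃ x : X ⟶ W, x ≫ w = a := by
    intro l
    induction l with
    | zero => exact ⟨H, 𝟙 H, inferInstance, hsm, fun x => trivial, fun X a _ => ⟨a, Category.comp_id a⟩⟩
    | succ l ih =>
      obtain ⟨W, w, hW, hWs, hw, hW'⟩ := ih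
      haveI := hW; haveI := hWs
      refine ⟨W ⊗ W, ⁅fst W W ≫ w, snd W W ≫ w⁆, inferInstanceAs (IsAffine (pullback W.hom W.hom)), hsmT,
        fun x => ⟨_, hw (x ≫ fst W W), _, hw (x ≫ snd W W), ?_⟩, fun X a ha => ?_⟩
      · simp only [commutatorElement_def, MonObj.comp_mul, GrpObj.comp_inv, Category.assoc]
      · obtain ⟨p, hp, q, hq, rfl⟩ := ha
        obtain ⟨x, rfl⟩ := hW' X p hp
        obtain ⟨y, rfl⟩ := hW' X q hq
        exact ⟨lift x y, by simp only [commutatorElement_def, MonObj.comp_mul, GrpObj.comp_inv, lift_fst_assoc,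
          lift_snd_assoc]⟩
  have hbot : derivedSeries (Pt H) n = ⊥ := by
    let q : (Pt H) →* clo R :=
      { toFun := fun h => ⟨h ≫ i, hpts h⟩
        map_one' := Subtype.ext (MonObj.one_comp i)
        map_mul' := fun a b => Subtype.ext (MonObj.mul_comp a b i) }
    have hq : Function.Injective q := fun a b h => (cancel_mono i).mp (congrArg Subtype.val h)
    rw [Subgroup.eq_bot_iff_forall]
    intro g hg
    have h1 := map_derivedSeries_le_derivedSeries q n ⟨g, hg, rfl⟩
    rw [hn, Subgroup.mem_bot] at h1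
    exact hq (h1.trans (map_one q).symm)
  obtain ⟨W, w, hW, hWs, hw, hW'⟩ := key n
  haveI := hW; haveI := hWs
  have hw1 : w = 1 := Fn.hom_ext (AlgHom.ext fun a => Fn.ext_points fun x => by
    show val x (Fn.pull w a) = val x (Fn.pull 1 a)
    have h1 := commSet_le_derivedSeries n (hw x)
    rw [hbot] at h1
    rw [val_pull, val_pull, Subgroup.mem_bot.mp h1, MonObj.comp_one])
  refine ⟨n, fun X => eq_bot_iff.mpr ((derivedSeries_le_closure_commSet n).trans ?_)⟩
  rw [Subgroup.closure_le]
  intro a ha
  obtain ⟨x, rfl⟩ := hW' X a ha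
  rw [SetLike.mem_coe, Subgroup.mem_bot, hw1, MonObj.comp_one]

end H20Borel
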