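import Groth.Agent.H20Borel.ConstFn
import Groth.Agent.H19Grp.ClopenTrivial
import Mathlib.AlgebraicGeometry.Morphisms.Flat

/-!
# Base change of a connected affine group along a field extension, and Borel subgroups
-/

set_option autoImplicit false
set_option linter.style.haveILetI false
set_option backward.isDefEq.respectTransparency false
set_option maxHeartbeats 1000000
set_option synthInstance.maxHeartbeats 100000

universe u

open CategoryTheory CategoryTheory.Limits MonoidalCategory CartesianMonoidalCategory MonObj AlgebraicGeometry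
open Groth.Agent.H27Witt H20Mu H20Conj

noncomputable section

namespace H20Borel

variable {k : Type u} [Field k] {K : Type u} [Field K]
  (z : Spec (CommRingCat.of K) ⟶ Spec (CommRingCat.of k))

theorem isAffine_bc (X : Over (Sk k)) [IsAffine X.left] : IsAffine ((Over.pullback z).obj X).left :=
  inferInstanceAs (IsAffine (pullback X.hom z))

theorem smooth_bc (X : Over (Sk k)) [Smooth X.hom] : Smooth ((Over.pullback z).obj X).hom :=
  MorphismProperty.pullback_snd (P := @Smooth) _ _ inferInstance

theorem flat_surjective_point : Flat z ∧ Surjective z ∧ QuasiCompact z := by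
  haveI : Subsingleton (Spec (CommRingCat.of k)) := inferInstanceAs (Subsingleton (PrimeSpectrum k))
  haveI : Surjective z := ⟨fun y => ⟨IsLocalRing.closedPoint K, Subsingleton.elim _ _⟩⟩
  obtain ⟨φ, rfl⟩ := Spec.map_surjective z
  haveI : Flat (Spec.map φ) := by
    rw [HasRingHomProperty.Spec_iff (P := @Flat)]
    letI : Field (CommRingCat.of k) := inferInstanceAs (Field k)
    algebraize [φ.hom]
    exact RingHom.flat_algebraMap_iff.mpr inferInstance
  exact ⟨inferInstance, ‹_›, inferInstance⟩

theorem connected_bc (X : Over (Sk k)) [GrpObj X] [ConnectedSpace X.left] :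
    ConnectedSpace ((Over.pullback z).obj X).left := by
  haveI : Subsingleton (Spec (CommRingCat.of k)) := inferInstanceAs (Subsingleton (PrimeSpectrum k))
  haveI : GeometricallyConnected X.hom :=
    Groth.Agent.H19Grp.geometricallyConnected_of_connected_fibres X fun s => by
      haveI := (flat_surjective_point ((Spec (CommRingCat.of k)).fromSpecResidueField s)).2.1
      haveI : Surjective (X.hom.fiberι s) := MorphismProperty.pullback_fst _ _ inferInstance
      haveI : IsPreimmersion (X.hom.fiberι s) := inferInstance
      exact ((X.hom.fiberι s).isEmbedding.toHomeomorphOfSurjective (X.hom.fiberι s).surjective).symm.surjective.connectedSpace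
        ((X.hom.fiberι s).isEmbedding.toHomeomorphOfSurjective (X.hom.fiberι s).surjective).symm.continuous
  haveI : Subsingleton (Spec (CommRingCat.of K)) := inferInstanceAs (Subsingleton (PrimeSpectrum K))
  haveI : Nonempty (Spec (CommRingCat.of K)) := inferInstanceAs (Nonempty (PrimeSpectrum K))
  exact GeometricallyConnected.connectedSpace_of_subsingleton (pullback.snd X.hom z)

/-- Base change to a field extension is faithful. -/
theorem bc_injective {X Y : Over (Sk k)} {a b : X ⟶ Y} (h : (Over.pullback z).map a = (Over.pullback z).map b) :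
    a = b := by
  obtain ⟨hf, hs, hq⟩ := flat_surjective_point z
  haveI := hf; haveI := hs; haveI := hq
  haveI : ∀ (Z : Scheme.{u}) (g : Z ⟶ Spec (CommRingCat.of k)), Epi (pullback.fst g z) := fun Z g =>
    Flat.epi_of_flat_of_surjective _
  exact (Over.pullback z).map_injective h

variable [IsAlgClosed K]
variable {G : Over (Sk k)} [GrpObj G] [IsAffine G.left] [Smooth G.hom] [ConnectedSpace G.left]
variable {B : Over (Sk k)} [GrpObj B] (iB : B ⟶ G)

/-- **Over a field, what commutes with a Borel subgroup is central.** -/
theorem commute_of_commute_borel_field (hB : Red.IsBorelOver K ((Over.pullback z).map iB)) {X : Over (Sk k)}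
    (g : X ⟶ G) (hg : ∀ (X' : Over (Sk k)) (x : X' ⟶ X) (b : X' ⟶ B), (x ≫ g) * (b ≫ iB) = (b ≫ iB) * (x ≫ g))
    {Q : Over (Sk k)} (x : Q ⟶ X) (h : Q ⟶ G) : (x ≫ g) * h = h * (x ≫ g) := by
  let F := Over.pullback z
  haveI := isAffine_bc z G
  haveI := smooth_bc z G
  haveI := connected_bc z G
  -- the affine case
  have haff : ∀ (U : Over (Sk k)) [IsAffine U.left] (u : U ⟶ X) (h : U ⟶ G),
      (u ≫ g) * h = h * (u ≫ g) := by
    intro U _ u h
    haveI := isAffine_bc z U
    refine bc_injective z ?_
    rw [Functor.map_mul, Functor.map_mul]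
    have key := commute_of_commute_borel (F.map iB) hB (F.map (u ≫ g)) (fun b => by
      let w : F.obj U ⟶ F.obj (U ⊗ B) :=
        lift (𝟙 (F.obj U)) (toUnit (F.obj U) ≫ b) ≫ Functor.LaxMonoidal.μ F U B
      have hw1 : w ≫ F.map (fst U B) = 𝟙 _ := by
        simp only [w, Category.assoc, Functor.Monoidal.μ_fst, lift_fst]
      have hw2 : w ≫ F.map (snd U B) = toUnit (F.obj U) ≫ b := by
        simp only [w, Category.assoc, Functor.Monoidal.μ_snd, lift_snd]
      have h0 := congrArg (fun m => w ≫ F.map m) (hg (U ⊗ B) (fst U B ≫ u) (snd U B))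
      simp only [Functor.map_mul, MonObj.comp_mul, Category.assoc, F.map_comp (fst U B),
        F.map_comp (snd U B), ← Category.assoc w, hw1, hw2, Category.id_comp] at h0
      simpa only [Category.assoc] using h0) (𝟙 _) (F.map h)
    rwa [Category.id_comp] at key
  let U := fun i => Over.mk (Q.left.affineCover.f i ≫ Q.hom)
  refine Over.OverMorphism.ext (Q.left.affineCover.hom_ext _ _ fun i => ?_)
  haveI : IsAffine (U i).left := inferInstanceAs (IsAffine (Q.left.affineCover.X i))
  let ι₀ : U i ⟶ Q := Over.homMk (Q.left.affineCover.f i)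
  have e : ι₀ ≫ ((x ≫ g) * h) = ι₀ ≫ (h * (x ≫ g)) := by
    rw [MonObj.comp_mul, MonObj.comp_mul, ← Category.assoc, haff (U i) (ι₀ ≫ x) (ι₀ ≫ h)]
  exact congrArg (fun m => m.left) e

end H20Borel
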