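import Groth.Agent.H20Borel.CartanBorel
import Groth.Agent.H20Comod.Chevalley

/-!
# A closed subgroup is the stabilizer of a line, on rational points
-/

set_option autoImplicit false
set_option linter.style.haveILetI false
set_option backward.isDefEq.respectTransparency false
set_option maxHeartbeats 1000000
set_option synthInstance.maxHeartbeats 100000

universe u

open CategoryTheory CategoryTheory.Limits MonoidalCategory CartesianMonoidalCategory MonObj AlgebraicGeometry
open Groth.Agent.H27Witt H20Mu H20Conj

noncomputable section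

namespace H20Borel

variable {k : Type u} [Field k]

local notation "Pt" X => 𝟙_ (Over (Sk k)) ⟶ X

/-- Only multiples of the coordinate minor vector: the lower block vanishes. -/
theorem lower_eq_zero {d e : ℕ} (A : Matrix (Fin d ⊕ Fin e) (Fin d) k)
    (h0 : (Matrix.of fun i j => A (Sum.inl i) j).det ≠ 0)
    (h : ∀ l i, (Matrix.of fun a j => A (Function.update Sum.inl l (Sum.inr i) a) j).det = 0) (i : Fin e) (j : Fin d) :
    A (Sum.inr i) j = 0 := by
  let N : Matrix (Fin d) (Fin d) k := Matrix.of fun i j => A (Sum.inl i) j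
  let r : Fin d → k := fun j => A (Sum.inr i) j
  have hc : Matrix.cramer N.transpose r = 0 := funext fun l => by
    rw [Matrix.cramer_apply, Matrix.updateCol_transpose, Matrix.det_transpose]
    refine Eq.trans (congrArg Matrix.det (Matrix.ext fun a c => ?_)) (h l i)
    by_cases ha : a = l
    · subst ha; simp [N, r]
    · simp [N, ha]
  have h1 := Matrix.mulVec_cramer N.transpose r
  rw [hc, Matrix.mulVec_zero, Matrix.det_transpose] at h1
  exact (mul_eq_zero.mp ((congrFun h1 j).symm : N.det * r j = 0)).resolve_left h0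

variable {G : Over (Sk k)} [GrpObj G] [IsAffine G.left] [LocallyOfFiniteType G.hom]

set_option maxHeartbeats 4000000 in
/-- **A closed subgroup is the stabilizer of a line in some regular representation.** -/
theorem exists_line_rep {B : Over (Sk k)} [GrpObj B] (iB : B ⟶ G) [IsMonHom iB] [IsClosedImmersion iB.left] :
    ∃ (N : ℕ) (φ : (𝟙_ (Over (Sk k)) ⟶ G) →* GLk k N) (F : Fin N → Fin N → Fn G) (v : Fin N → k),
      v ≠ 0 ∧ (∀ g p q, (φ g : Mat k N) p q = val g (F p q)) ∧
      ∀ g, (∃ c : k, (φ g : Mat k N).mulVec v = c • v) ↔ ∃ b : Pt B, b ≫ iB = g := by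
  classical
  haveI : IsAffine B.left := isAffine_of_isAffineHom iB.left
  haveI := Fn.finiteType G
  haveI : IsNoetherianRing (Fn G) := Algebra.FiniteType.isNoetherianRing k (Fn G)
  let π : Fn G →ₐ[k] Fn B := Fn.pull iB
  have hπ : Function.Surjective π := (IsClosedImmersion.isAffine_surjective_of_isAffine iB.left).2
  obtain ⟨s, hs⟩ := IsNoetherian.noetherian (RingHom.ker π)
  -- a finite stable space of functions
  let W : Submodule k (Fn G) :=
    Submodule.span k (Set.range fun x : (𝟙_ (Over (Sk k)) ⟶ G) × s => rTrans G x.1 x.2)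
  haveI hfin : Module.Finite k W := by
    choose n b c hbc using fun a : s => rTrans_decomp G a.1
    haveI : Module.Finite k (Submodule.span k (Set.range fun x : Σ a : s, Fin (n a) => b x.1 x.2)) :=
      Module.Finite.span_of_finite k (Set.finite_range _)
    refine Submodule.finiteDimensional_of_le (Submodule.span_le.mpr ?_ :
      W ≤ Submodule.span k (Set.range fun x : Σ a : s, Fin (n a) => b x.1 x.2))
    rintro _ ⟨⟨g, a⟩, rfl⟩
    show rTrans G g a.1 ∈ _
    rw [hbc]
    exact Submodule.sum_mem _ fun i _ => Submodule.smul_mem _ _ (Submodule.subset_span ⟨⟨a, i⟩, rfl⟩)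
  have hstab : ∀ g, ∀ w ∈ W, rTrans G g w ∈ W := fun g w hw => by
    have hle : W ≤ W.comap (rTrans G g) := Submodule.span_le.mpr (by
      rintro _ ⟨⟨h, a⟩, rfl⟩
      exact Submodule.subset_span ⟨⟨g * h, a⟩, LinearMap.congr_fun (map_mul (rTrans G) g h) a.1⟩)
    exact hle hw
  have hsW : ∀ a ∈ s, a ∈ W := fun a ha =>
    Submodule.subset_span ⟨⟨1, ⟨a, ha⟩⟩, LinearMap.congr_fun (map_one (rTrans G)) a⟩
  obtain ⟨d, e, bW, hbl, hbs, -⟩ :=
    Groth.Agent.H20Comod.exists_adapted_basis (π.toLinearMap.comp W.subtype)
  let m : (𝟙_ (Over (Sk k)) ⟶ G) →* Matrix (Fin d ⊕ Fin e) (Fin d ⊕ Fin e) k :=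
    { toFun := fun g => LinearMap.toMatrix bW bW ((rTrans G g).restrict (hstab g))
      map_one' := by
        rw [← LinearMap.toMatrix_one bW]
        congr 1
        exact LinearMap.ext fun w => Subtype.ext (by rw [LinearMap.coe_restrict_apply, map_one]; rfl)
      map_mul' := fun g h => by
        rw [← LinearMap.toMatrix_mul]
        congr 1
        exact LinearMap.ext fun w => Subtype.ext (by rw [LinearMap.coe_restrict_apply, map_mul]; rfl) }
  have hF : ∀ p q, ∃ F : Fn G, ∀ g, m g p q = val g F := by
    intro p q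
    obtain ⟨ψ, hψ⟩ := LinearMap.exists_extend (bW.coord p)
    obtain ⟨n, b, c, hbc⟩ := rTrans_decomp G (bW q : Fn G)
    refine ⟨∑ i, ψ (b i) • c i, fun g => ?_⟩
    show LinearMap.toMatrix bW bW ((rTrans G g).restrict (hstab g)) p q = _
    rw [LinearMap.toMatrix_apply, ← Module.Basis.coord_apply, ← hψ, LinearMap.comp_apply, Submodule.coe_subtype,
      LinearMap.coe_restrict_apply, hbc, map_sum, map_sum]
    exact Finset.sum_congr rfl fun i _ => by rw [map_smul, map_smul, smul_eq_mul, smul_eq_mul, _root_.mul_comm]
  choose F₀ hF₀ using hF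
  -- the subgroup is the stabilizer of the first block
  have hblock : ∀ g, (∀ i j, m g (Sum.inr i) (Sum.inl j) = 0) ↔ ∃ b : Pt B, b ≫ iB = g := by
    intro g
    constructor
    · intro h
      have hker : ∀ a ∈ RingHom.ker π, val g a = 0 := by
        intro a ha
        rw [← hs] at ha
        induction ha using Submodule.span_induction with
        | mem x hx =>
          have hx1 : ((⟨x, hsW x hx⟩ : W) : Fn G) ∈ RingHom.ker π := hs ▸ Submodule.subset_span hx
          have hU : ∀ w : W, w ∈ Submodule.span k (Set.range fun j => bW (Sum.inl j)) →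
              π (rTrans G g (w : Fn G)) = 0 := by
            intro w hw
            induction hw using Submodule.span_induction with
            | mem y hy =>
              obtain ⟨j, rfl⟩ := hy
              have e1 : rTrans G g (bW (Sum.inl j) : Fn G) = ((∑ p, m g p (Sum.inl j) • bW p : W) : Fn G) := by
                show (((rTrans G g).restrict (hstab g)) (bW (Sum.inl j)) : Fn G) = _
                refine congrArg Subtype.val ((bW.sum_repr _).symm.trans (Finset.sum_congr rfl fun p _ => ?_))
                exact congrArg (· • bW p) (LinearMap.toMatrix_apply bW bW _ p (Sum.inl j)).symm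
              rw [e1, Submodule.coe_sum, map_sum, Fintype.sum_sum_type]
              simp only [h, zero_smul, Submodule.coe_zero, map_zero, Finset.sum_const_zero, add_zero,
                Submodule.coe_smul, map_smul]
              exact Finset.sum_eq_zero fun p _ => by rw [show π (bW (Sum.inl p) : Fn G) = 0 from hbl p, smul_zero]
            | zero => simp
            | add y y' _ _ hy hy' => rw [Submodule.coe_add, map_add, map_add, hy, hy', add_zero]
            | smul c y _ hy => rw [Submodule.coe_smul, map_smul, map_smul, hy, smul_zero]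
          have h2 := congrArg (val (1 : Pt B)) (hU _ (hbs ⟨x, hsW x hx⟩ hx1))
          rw [map_zero, val_pull, MonObj.one_comp] at h2
          rw [← h2]
          show _ = val 1 (Fn.pull (rg G g) x)
          rw [val_pull, one_comp_rg]
        | zero => exact map_zero _
        | add x y _ _ hx hy => rw [map_add, hx, hy, add_zero]
        | smul r x _ hx => rw [smul_eq_mul, map_mul, hx, mul_zero]
      obtain ⟨b, hb⟩ := Fn.exists_point (X := B)
        ((Ideal.Quotient.liftₐ (RingHom.ker π) (val g) hker).comp
          (Ideal.quotientKerAlgEquivOfSurjective hπ).symm.toAlgHom)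
      refine ⟨b, Fn.point_ext (k := k) (AlgHom.ext fun a => ?_)⟩
      show val (b ≫ iB) a = val g a
      rw [← val_pull]
      show Fn.ev b (π a) = _
      rw [hb]
      show (Ideal.Quotient.liftₐ _ (val g) hker) ((Ideal.quotientKerAlgEquivOfSurjective hπ).symm (π a)) = _
      rw [show (Ideal.quotientKerAlgEquivOfSurjective hπ).symm (π a) = Ideal.Quotient.mk _ a from
        (AlgEquiv.symm_apply_eq _).mpr rfl]
      rfl
    · rintro ⟨b, rfl⟩ i j
      have h1 : π (rTrans G (b ≫ iB) (bW (Sum.inl j) : Fn G)) = 0 := by
        show Fn.pull iB (Fn.pull (rg G (b ≫ iB)) _) = 0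
        rw [Fn.pull_pull, show iB ≫ rg G (b ≫ iB) = rg B b ≫ iB by
          rw [H20Conj.rg, H20Conj.rg, MonObj.comp_mul, MonObj.mul_comp, Category.comp_id, Category.id_comp,
            ← Category.assoc, comp_toUnit, Category.assoc], ← Fn.pull_pull,
          show Fn.pull iB (bW (Sum.inl j) : Fn G) = 0 from hbl j, map_zero]
      have h2 := hbs ⟨_, hstab (b ≫ iB) _ (bW (Sum.inl j)).2⟩ h1
      show LinearMap.toMatrix bW bW ((rTrans G (b ≫ iB)).restrict (hstab _)) _ _ = 0
      rw [LinearMap.toMatrix_apply]
      have hzero : ∀ w ∈ Submodule.span k (Set.range fun j => bW (Sum.inl j)), bW.repr w (Sum.inr i) = 0 := by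
        intro w hw
        induction hw using Submodule.span_induction with
        | mem y hy => obtain ⟨j, rfl⟩ := hy; simp
        | zero => simp
        | add y y' _ _ hy hy' => simp [hy, hy']
        | smul c y _ hy => simp [hy]
      exact hzero _ h2
  -- tensor power
  let rep : (𝟙_ (Over (Sk k)) ⟶ G) →* Matrix (Fin d → Fin d ⊕ Fin e) (Fin d → Fin d ⊕ Fin e) k :=
    { toFun := fun g => Matrix.of fun J L => ∏ a, m g (J a) (L a)
      map_one' := by
        ext J L
        simp only [map_one, Matrix.of_apply, Matrix.one_apply]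
        by_cases hJL : J = L
        · simp [hJL]
        · obtain ⟨a, ha⟩ := Function.ne_iff.mp hJL
          rw [if_neg hJL]
          exact Finset.prod_eq_zero (Finset.mem_univ a) (if_neg ha)
      map_mul' := fun g h => by
        ext J L
        simp only [map_mul, Matrix.of_apply, Matrix.mul_apply, ← Finset.prod_mul_distrib]
        exact Finset.prod_univ_sum (fun _ => Finset.univ) (fun a l => m g (J a) l * m h l (L a)) |>.trans
          (by rw [Fintype.piFinset_univ]) }
  let E : (Fin d ⊕ Fin e) → Fin d → k := fun l j => if l = Sum.inl j then 1 else 0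
  let v₀ : (Fin d → Fin d ⊕ Fin e) → k := fun L => (Matrix.of fun i j => E (L i) j).det
  have hpl : ∀ g J, (rep g).mulVec v₀ J = (Matrix.of fun i j => m g (J i) (Sum.inl j)).det := by
    intro g J
    have e1 : (Matrix.of fun i j => m g (J i) (Sum.inl j) : Matrix (Fin d) (Fin d) k) =
        fun i => ∑ l, m g (J i) l • E l := by
      funext i j
      simp [E, Finset.sum_apply]
    show ∑ L, (∏ a, m g (J a) (L a)) * v₀ L = _
    rw [e1]
    show _ = (Matrix.detRowAlternating (R := k) (n := Fin d)).toMultilinearMap (fun i => ∑ l, m g (J i) l • E l)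
    rw [MultilinearMap.map_sum]
    refine Finset.sum_congr rfl fun L _ => ?_
    rw [MultilinearMap.map_smul_univ, smul_eq_mul]
    rfl
  have htop : v₀ Sum.inl = 1 := by
    show Matrix.det _ = 1
    rw [show (Matrix.of fun i j => E (Sum.inl i) j : Matrix (Fin d) (Fin d) k) = 1 from Matrix.ext fun i j => by
      simp [E, Matrix.one_apply], Matrix.det_one]
  have hline : ∀ g, (∃ c : k, (rep g).mulVec v₀ = c • v₀) ↔ ∃ b : Pt B, b ≫ iB = g := by
    intro g
    rw [← hblock]
    constructor
    · rintro ⟨c, hc⟩
      have hc0 : c ≠ 0 := fun h0 => one_ne_zero <| by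
        rw [← htop, ← Matrix.one_mulVec v₀, ← map_one rep, ← inv_mul_cancel g, map_mul, ← Matrix.mulVec_mulVec,
          hc, h0, zero_smul, Matrix.mulVec_zero, Pi.zero_apply]
      refine lower_eq_zero (fun p j => m g p (Sum.inl j)) ?_ fun l i => ?_
      · rw [← hpl g Sum.inl, hc, Pi.smul_apply, htop, smul_eq_mul, _root_.mul_one]
        exact hc0
      · rw [← hpl g (Function.update Sum.inl l (Sum.inr i)), hc, Pi.smul_apply]
        refine smul_eq_zero_of_right _ (Matrix.det_eq_zero_of_row_eq_zero l fun j => ?_)
        simp [E]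
    · intro h
      refine ⟨(Matrix.of fun i j => m g (Sum.inl i) (Sum.inl j) : Matrix (Fin d) (Fin d) k).det, funext fun J => ?_⟩
      rw [hpl, Pi.smul_apply, smul_eq_mul, _root_.mul_comm, ← Matrix.det_mul]
      refine congrArg Matrix.det (Matrix.ext fun i j => ?_)
      simp only [Matrix.mul_apply, Matrix.of_apply, E]
      rcases hJ : J i with a | a
      · simp
      · simp [h a j]
  -- reindex
  let ε := Fintype.equivFin (Fin d → Fin d ⊕ Fin e)
  let φ := ((Matrix.reindexAlgEquiv k k ε).toRingEquiv.toMonoidHom.comp rep).toHomUnits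
  refine ⟨_, φ, fun p q => ∏ a, F₀ (ε.symm p a) (ε.symm q a), v₀ ∘ ε.symm, ?_, fun g p q => ?_, fun g => ?_⟩
  · intro h0
    have := congrFun h0 (ε Sum.inl)
    simp [htop] at this
  · rw [map_prod]
    show ∏ a, m g (ε.symm p a) (ε.symm q a) = _
    exact Finset.prod_congr rfl fun a _ => hF₀ _ _ g
  · rw [← hline]
    refine exists_congr fun c => ?_
    have e1 : ((φ g : Mat k _)).mulVec (v₀ ∘ ε.symm) = ((rep g).mulVec v₀) ∘ ε.symm := by
      show ((rep g).submatrix ε.symm ε.symm).mulVec (v₀ ∘ ε.symm) = _
      rw [Matrix.submatrix_mulVec_equiv]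
      simp [Function.comp_assoc]
    rw [e1, show c • (v₀ ∘ ε.symm) = (c • v₀) ∘ ε.symm from rfl]
    exact ε.symm.surjective.injective_comp_right.eq_iff

end H20Borel
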