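import Groth.Agent.H20Borel.LimitCone
import Groth.Agent.H20Borel.LineStab
import Groth.Agent.S3901

/-!
# A rational point normalizing a Borel subgroup lies in it

The proof is by the sink of a one-parameter limit on the flag variety: it is a torus fixed point, constant on an
open set, and fixed by the right translation by a normalizing point.
-/

set_option autoImplicit false
set_option linter.style.haveILetI false
set_option backward.isDefEq.respectTransparency false
set_option maxHeartbeats 1000000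
set_option synthInstance.maxHeartbeats 100000

universe u

open CategoryTheory CategoryTheory.Limits MonoidalCategory CartesianMonoidalCategory MonObj AlgebraicGeometry
open Groth.Agent.H27Witt H20Mu H20Conj

noncomputable section

namespace H20Borel

variable {k : Type u} [Field k] [IsAlgClosed k]
variable {G : Over (Sk k)} [GrpObj G] [IsAffine G.left] [Smooth G.hom] [ConnectedSpace G.left]

local notation "Pt" X => 𝟙_ (Over (Sk k)) ⟶ X

omit [IsAlgClosed k] [IsAffine G.left] [Smooth G.hom] [ConnectedSpace G.left] in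
theorem pt_comp_conj (g x : Pt G) : x ≫ conj g = g⁻¹ * x * g := by
  rw [comp_conj, toUnit_unique (toUnit _) (𝟙 _), Category.id_comp]

omit [IsAlgClosed k] [IsAffine G.left] [Smooth G.hom] [ConnectedSpace G.left] in
theorem isMonHom_of_mono_comp {A C : Over (Sk k)} [GrpObj A] [GrpObj C] (p : A ⟶ C) (i : C ⟶ G)
    [IsMonHom i] [Mono i] (h : IsMonHom (p ≫ i)) : IsMonHom p where
  one_hom := by rw [← cancel_mono i, Category.assoc, IsMonHom.one_hom i, IsMonHom.one_hom (p ≫ i)]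
  mul_hom := by
    rw [← cancel_mono i, Category.assoc, Category.assoc, IsMonHom.mul_hom i, IsMonHom.mul_hom (p ≫ i),
      ← tensorHom_comp_tensorHom, Category.assoc]

set_option maxHeartbeats 4000000 in
/-- **Torus fixed points of `G/B` are finite in number**: finitely many representatives up to `B`. -/
theorem exists_fixed_reps {B : Over (Sk k)} [GrpObj B] (iB : B ⟶ G) (hB : Red.IsBorelOver k iB)
    {T C : Over (Sk k)} [GrpObj T] [GrpObj C] (iT : T ⟶ G) (c : C ⟶ G) (hT : AGF.IsMaxTorus iT)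
    (hc : Red.IsCentralizerOf iT c) (cB : C ⟶ B) (hcB : cB ≫ iB = c) (tC : T ⟶ C) (htC : tC ≫ c = iT) :
    ∃ (m : ℕ) (w : Fin m → (𝟙_ (Over (Sk k)) ⟶ G)), ∀ h : Pt G,
      (∀ t : Pt T, ∃ b : Pt B, b ≫ iB = h⁻¹ * (t ≫ iT) * h) → ∃ (j : Fin m) (b : Pt B), h = w j * (b ≫ iB) := by
  classical
  obtain ⟨hm, hci, hsm, hconn, -, -⟩ := hB
  obtain ⟨hTm, hTmo, hTT, hTmax⟩ := hT
  replace hTmax := PLift.up hTmax
  haveI := hm; haveI := hci; haveI := hsm; haveI := hconn; haveI := hTm; haveI := hTmo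
  haveI : IsAffine B.left := isAffine_of_isAffineHom iB.left
  haveI : Mono iB := Over.mono_of_mono_left _
  obtain ⟨hTa, hTs, -⟩ := torus_props T hTT
  haveI := hTa; haveI := hTs
  haveI : LocallyOfFiniteType G.hom := inferInstance
  haveI : LocallyOfFiniteType T.hom := inferInstance
  haveI : AlgebraicGeometry.IsReduced T.left := Groth.Agent.H13AlgSp.isReduced_of_smooth_mor T.hom
  obtain ⟨M, χ, hd⟩ := exists_diag_rep iT hTT
  have hinvκ : ∀ g : Pt G, conj g⁻¹ ≫ conj g = 𝟙 G := fun g => by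
    have := comp_conj_conj g⁻¹ (𝟙 G)
    rwa [Category.id_comp, _root_.inv_inv] at this
  -- points conjugating the torus into `B` come from its normalizer
  have hN : ∀ h : Pt G, (∀ t : Pt T, ∃ b : Pt B, b ≫ iB = h⁻¹ * (t ≫ iT) * h) →
      ∃ (w : Pt G) (b : Pt B), h = w * (b ≫ iB) ∧ (∀ t : Pt T, ∃ t' : Pt T, t' ≫ iT = w⁻¹ * (t ≫ iT) * w) ∧
        ∀ t' : Pt T, ∃ t : Pt T, t' ≫ iT = w⁻¹ * (t ≫ iT) * w := by
    intro h hh
    obtain ⟨j, hj⟩ := exists_factor_pts iB (iT ≫ conj h) fun t => by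
      obtain ⟨b, hb⟩ := hh t
      exact ⟨b, by rw [hb, ← Category.assoc, pt_comp_conj]⟩
    haveI : IsIso (conj h) := ⟨conj h⁻¹, by
      have := comp_conj_conj h (𝟙 G)
      rwa [Category.id_comp] at this, hinvκ h⟩
    haveI : IsIso (conj h⁻¹) := ⟨conj h, hinvκ h, by
      have := comp_conj_conj h (𝟙 G)
      rwa [Category.id_comp] at this⟩
    haveI : IsMonHom (j ≫ iB) := by rw [hj]; infer_instance
    haveI : Mono (j ≫ iB) := by rw [hj]; infer_instance
    haveI : IsMonHom j :=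
      { one_hom := by rw [← cancel_mono iB, Category.assoc, IsMonHom.one_hom iB, IsMonHom.one_hom (j ≫ iB)]
        mul_hom := by
          rw [← cancel_mono iB, Category.assoc, Category.assoc, IsMonHom.mul_hom iB, IsMonHom.mul_hom (j ≫ iB),
            ← tensorHom_comp_tensorHom, Category.assoc] }
    haveI : Mono j := mono_of_mono j iB
    let tB : T ⟶ B := tC ≫ cB
    have htB : tB ≫ iB = iT := by rw [Category.assoc, hcB, htC]
    haveI : IsMonHom (tB ≫ iB) := by rw [htB]; infer_instance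
    haveI : Mono (tB ≫ iB) := by rw [htB]; infer_instance
    haveI : IsMonHom tB := isMonHom_of_mono_comp tB iB (by rw [htB]; infer_instance)
    haveI : Mono tB := mono_of_mono tB iB
    have hM1 : AGF.IsMaxTorus j := ⟨inferInstance, inferInstance, hTT, fun Z _ z _ _ f hZ hf => by
      refine hTmax.down Z ((z ≫ iB) ≫ conj h⁻¹) f hZ ?_
      rw [← Category.assoc, ← Category.assoc, hf, hj, comp_conj_conj]⟩
    have hM2 : AGF.IsMaxTorus tB := ⟨inferInstance, inferInstance, hTT, fun Z _ z _ _ f hZ hf =>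
      hTmax.down Z (z ≫ iB) f hZ (by rw [← Category.assoc, hf, htB])⟩
    obtain ⟨b, f', hf'⟩ := Groth.Agent.S3901.result k B T T j tB hM1 hM2
    rw [H20Conj.conjBy_eq] at hf'
    have key : ∀ t : Pt T, (t ≫ f'.hom) ≫ iT = (b ≫ iB) * (h⁻¹ * (t ≫ iT) * h) * (b ≫ iB)⁻¹ := fun t => by
      conv_lhs => rw [← htB]
      rw [Category.assoc, ← Category.assoc f'.hom, hf', ← Category.assoc t, ← Category.assoc t, pt_comp_conj,
        MonObj.mul_comp, MonObj.mul_comp, GrpObj.inv_comp, GrpObj.inv_comp, _root_.inv_inv, Category.assoc t, hj,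
        ← Category.assoc, pt_comp_conj]
    refine ⟨h * (b ≫ iB)⁻¹, b, by group, fun t => ⟨t ≫ f'.hom, ?_⟩, fun t' => ⟨t' ≫ f'.inv, ?_⟩⟩
    · rw [key t]; group
    · conv_lhs => rw [show t' = (t' ≫ f'.inv) ≫ f'.hom by rw [Category.assoc, f'.inv_hom_id, Category.comp_id]]
      rw [key]; group
  -- the permutation of characters
  let Nrm : Type u := {w : Pt G // (∀ t : Pt T, ∃ t' : Pt T, t' ≫ iT = w⁻¹ * (t ≫ iT) * w) ∧
    ∀ t' : Pt T, ∃ t : Pt T, t' ≫ iT = w⁻¹ * (t ≫ iT) * w}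
  have hσ : ∀ w : Nrm, ∃ σ : Fin M.N → Fin M.N, ∀ (t t' : Pt T), t' ≫ iT = w.1⁻¹ * (t ≫ iT) * w.1 →
      ∀ b, val t' (χ b) = val t (χ (σ b)) := by
    intro w
    have hcol : ∀ b, ∃ a, M.ptMat w.1 a b ≠ 0 := fun b => by
      by_contra hne
      push Not at hne
      have e := congrFun (congrFun (show M.ptMat w.1⁻¹ * M.ptMat w.1 = 1 by
        rw [← map_mul, inv_mul_cancel, map_one]) b) b
      rw [Matrix.mul_apply, Finset.sum_eq_zero (fun a _ => by rw [hne a, mul_zero]), Matrix.one_apply_eq] at e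
      exact zero_ne_one e
    choose σ hσ using hcol
    refine ⟨σ, fun t t' ht b => ?_⟩
    have e : (t ≫ iT) * w.1 = w.1 * (t' ≫ iT) := by rw [ht]; group
    have e' := congrFun (congrFun (congrArg M.ptMat e) (σ b)) b
    rw [map_mul, map_mul, M.ptMat_diag hd, M.ptMat_diag hd, Matrix.diagonal_mul, Matrix.mul_diagonal] at e'
    exact mul_left_cancel₀ (hσ b) (e'.symm.trans (_root_.mul_comm _ _))
  choose σ hσ using hσ
  -- equal permutations: equal up to `B`
  have hB' : ∀ w₁ w₂ : Nrm, σ w₁ = σ w₂ → ∃ b : Pt B, w₂.1 = w₁.1 * (b ≫ iB) := by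
    intro w₁ w₂ he
    have hcom : ∀ t' : Pt T, Commute (w₁.1⁻¹ * w₂.1) (t' ≫ iT) := by
      intro t'
      obtain ⟨t, ht⟩ := w₁.2.2 t'
      obtain ⟨t'', ht''⟩ := w₂.2.1 t
      have e : t'' ≫ iT = t' ≫ iT := M.ptMat_injective (by
        rw [M.ptMat_diag hd, M.ptMat_diag hd]
        exact congrArg Matrix.diagonal (funext fun b => by rw [hσ w₁ t t' ht, hσ w₂ t t'' ht'', he]))
      show w₁.1⁻¹ * w₂.1 * (t' ≫ iT) = (t' ≫ iT) * (w₁.1⁻¹ * w₂.1)
      conv_lhs => rw [← e, ht'']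
      rw [ht]
      group
    obtain ⟨t₀, ht₀⟩ := exists_regular hTT χ
    obtain ⟨z, hz⟩ := M.exists_factor_centralizer hd hc (w₁.1⁻¹ * w₂.1) fun a b hab =>
      M.entry_zero hd _ t₀ (by
        rw [toUnit_unique (toUnit _) (𝟙 _), Category.id_comp]
        exact hcom t₀) (ht₀ a b hab)
    exact ⟨z ≫ cB, by rw [Category.assoc, hcB, hz]; group⟩
  let ε := Fintype.equivFin (Fin M.N → Fin M.N)
  refine ⟨_, fun j => if hj : ∃ w : Nrm, σ w = ε.symm j then hj.choose.1 else 1, fun h hh => ?_⟩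
  obtain ⟨w, b, rfl, hw⟩ := hN h hh
  refine ⟨ε (σ ⟨w, hw⟩), ?_⟩
  have hex : ∃ w' : Nrm, σ w' = ε.symm (ε (σ ⟨w, hw⟩)) := ⟨⟨w, hw⟩, by rw [ε.symm_apply_apply]⟩
  dsimp only
  rw [dif_pos hex]
  obtain ⟨b', hb'⟩ := hB' hex.choose ⟨w, hw⟩ (by rw [hex.choose_spec, ε.symm_apply_apply])
  exact ⟨b' * b, by
    rw [MonObj.mul_comp, ← _root_.mul_assoc, ← (show w = _ * (b' ≫ iB) from hb')]⟩

set_option maxHeartbeats 8000000 in
/-- **A rational point normalizing the rational points of a Borel subgroup lies in it.** -/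
theorem mem_of_normalizes {B : Over (Sk k)} [GrpObj B] (iB : B ⟶ G) (hB : Red.IsBorelOver k iB) (n : Pt G)
    (hn : ∀ b : Pt B, ∃ b' : Pt B, b' ≫ iB = n⁻¹ * (b ≫ iB) * n) :
    ∃ b : Pt B, b ≫ iB = n := by
  classical
  obtain ⟨T, C, gT, gC, iT, c, cB, tC, hT, hc, hcB, htC⟩ := exists_cartan_le iB hB
  letI := gT; letI := gC
  obtain ⟨m, reps, hreps⟩ := exists_fixed_reps iB hB iT c hT hc cB hcB tC htC
  haveI := hB.1; haveI := hB.2.1; haveI := hT.1
  obtain ⟨N, φ, F, v, hv, hF, hline⟩ := exists_line_rep iB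
  haveI := Fn.isDomain G
  haveI : LocallyOfFiniteType G.hom := inferInstance
  haveI : QuasiCompact G.hom := inferInstance
  haveI : CompactSpace G.left := QuasiCompact.compactSpace_of_compactSpace G.hom
  obtain ⟨X, qa, qo, hX, -, -⟩ := Groth.Agent.H19Quot.exists_isQuotient iB
  haveI := isProper_of_isBorelOver iB hB qa qo hX
  let mv : (𝟙_ (Over (Sk k)) ⟶ G) → (Fin N → k) → (Fin N → k) := fun g x => (φ g : Mat k N).mulVec x
  have mv_mul : ∀ g h x, mv (g * h) x = mv g (mv h x) := fun g h x => by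
    simp only [mv, map_mul, Units.val_mul, Matrix.mulVec_mulVec]
  have mv_one : ∀ x, mv 1 x = x := fun x => by simp [mv]
  have mv_smul : ∀ g (a : k) x, mv g (a • x) = a • mv g x := fun g a x => Matrix.mulVec_smul _ _ _
  -- the doubled representation and the stable subspace
  let rep : (𝟙_ (Over (Sk k)) ⟶ G) →* Matrix (Fin N ⊕ Fin N) (Fin N ⊕ Fin N) k :=
    { toFun := fun g => Matrix.fromBlocks (φ g : Mat k N) 0 0 (φ g : Mat k N)
      map_one' := by rw [map_one, Units.val_one, Matrix.fromBlocks_one]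
      map_mul' := fun g h => by simp [map_mul, Matrix.fromBlocks_multiply] }
  have hrep : ∀ g (x y : Fin N → k), (rep g).mulVec (Sum.elim x y) = Sum.elim (mv g x) (mv g y) := fun g x y => by
    show (Matrix.fromBlocks _ 0 0 _).mulVec _ = _
    rw [Matrix.fromBlocks_mulVec]
    simp [mv, Function.comp_def]
  let v' := mv n v
  let L : Submodule k (Fin N ⊕ Fin N → k) := LinearMap.range
    ({ toFun := fun ab : k × k => Sum.elim (ab.1 • v) (ab.2 • v')
       map_add' := fun x y => funext fun i => by cases i <;> simp [add_smul]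
       map_smul' := fun r x => funext fun i => by cases i <;> simp [mul_smul] } :
      k × k →ₗ[k] (Fin N ⊕ Fin N → k))
  have hL : ∀ b : Pt B, ∀ w ∈ L, (rep (b ≫ iB)).mulVec w ∈ L := by
    rintro b _ ⟨⟨a₁, a₂⟩, rfl⟩
    obtain ⟨c₁, hc₁⟩ := (hline (b ≫ iB)).mpr ⟨b, rfl⟩
    obtain ⟨b', hb'⟩ := hn b
    obtain ⟨c₂, hc₂⟩ := (hline (b' ≫ iB)).mpr ⟨b', rfl⟩
    have h2 : mv (b ≫ iB) v' = c₂ • v' := by
      show mv (b ≫ iB) (mv n v) = _
      rw [← mv_mul, show (b ≫ iB) * n = n * (b' ≫ iB) by rw [hb']; group, mv_mul]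
      exact (congrArg (mv n) hc₂).trans (mv_smul _ _ _)
    refine ⟨(a₁ * c₁, a₂ * c₂), ?_⟩
    show Sum.elim _ _ = (rep (b ≫ iB)).mulVec (Sum.elim (a₁ • v) (a₂ • v'))
    rw [hrep, mv_smul, mv_smul, h2, show mv (b ≫ iB) v = c₁ • v from hc₁, smul_smul, smul_smul]
  let F₂ : Fin N ⊕ Fin N → Fin N ⊕ Fin N → Fn G := fun p q => Matrix.fromBlocks (Matrix.of F) 0 0 (Matrix.of F) p q
  have hF₂ : ∀ g p q, rep g p q = val g (F₂ p q) := fun g p q => by
    cases p <;> cases q <;> simp [rep, F₂, hF]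
  -- the cocharacters
  obtain ⟨r, e, co, he, -, hprod, hcomm⟩ := exists_cochars T hT.2.2.1
  let lam : Fin r → (kˣ →* GLk k N) := fun j => haveI := he j
    φ.comp ((postHom (e j ≫ iT)).comp ofParHom)
  have hlau : ∀ j, IsLaurent (lam j) := fun j => by
    choose s cc hsc using fun pq : Fin N × Fin N => exists_laurent (Fn.pull (e j ≫ iT) (F pq.1 pq.2))
    refine ⟨Finset.univ.biUnion s, fun i => Matrix.of fun p q => if i ∈ s (p, q) then cc (p, q) i else 0, fun t => ?_⟩
    ext p q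
    show (φ (ofPar t ≫ e j ≫ iT) : Mat k N) p q = _
    rw [hF, ← val_pull, hsc (p, q), map_sum, Matrix.sum_apply,
      ← Finset.sum_subset (Finset.subset_biUnion_of_mem s (Finset.mem_univ (p, q))) (fun i _ hi => by simp [hi])]
    refine Finset.sum_congr rfl fun i hi => ?_
    simp [hi, val_zFn_zpow, par_ofPar, mul_comm]
  have hlamc : ∀ i j s t, Commute (lam i s : Mat k N) (lam j t) := fun i j s t => by
    have h : Commute ((ofPar s ≫ e i) ≫ iT) ((ofPar t ≫ e j) ≫ iT) := by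
      rw [Commute, SemiconjBy, ← MonObj.mul_comp, ← MonObj.mul_comp, hcomm]
    rw [Category.assoc, Category.assoc] at h
    exact (h.map φ).map (Units.coeHom _)
  -- leading parts
  obtain ⟨Q, ⟨g₁, hg₁⟩, hQclo, hQeig⟩ : ∃ Q : Mat k N, (∃ g, Q.mulVec (mv g v) ≠ 0) ∧
      (∀ g, InClo rep L (Sum.elim (Q.mulVec (mv g v)) (Q.mulVec (mv (g * n) v)))) ∧
      ∀ j : Fin r, ∀ t, ∃ a : kˣ, (lam j t : Mat k N) * Q = (a : k) • Q := by
    suffices h : ∀ S : Finset (Fin r), ∃ Q : Mat k N, (∃ g, Q.mulVec (mv g v) ≠ 0) ∧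
        (∀ g, InClo rep L (Sum.elim (Q.mulVec (mv g v)) (Q.mulVec (mv (g * n) v)))) ∧
        ∀ j ∈ S, ∀ t, ∃ a : kˣ, (lam j t : Mat k N) * Q = (a : k) • Q by
      obtain ⟨Q, h1, h2, h3⟩ := h Finset.univ
      exact ⟨Q, h1, h2, fun j => h3 j (Finset.mem_univ j)⟩
    intro S
    induction S using Finset.induction with
    | empty =>
      refine ⟨1, ⟨1, by rw [Matrix.one_mulVec, mv_one]; exact hv⟩, fun g => ?_, by simp⟩
      rw [Matrix.one_mulVec, Matrix.one_mulVec, mv_mul, ← hrep]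
      refine inClo_self rep L g ⟨(1, 1), ?_⟩
      show Sum.elim _ _ = _
      rw [one_smul, one_smul]
    | insert j S hj ih =>
      obtain ⟨Q, ⟨g₁, hg₁⟩, hclo, heig⟩ := ih
      obtain ⟨s, P, hP, hP1, hPe, hPc⟩ := exists_weights (hlau j)
      let S₀ := s.filter fun i => ∃ g, (P i).mulVec (Q.mulVec (mv g v)) ≠ 0
      have hne : S₀.Nonempty := by
        by_contra hcon
        rw [Finset.not_nonempty_iff_eq_empty, Finset.filter_eq_empty_iff] at hcon
        refine hg₁ ?_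
        rw [show Q.mulVec (mv g₁ v) = ∑ i ∈ s, (P i).mulVec (Q.mulVec (mv g₁ v)) by
          rw [← Matrix.sum_mulVec, hP1, Matrix.one_mulVec]]
        refine Finset.sum_eq_zero fun i hi => ?_
        by_contra h0
        exact hcon hi ⟨g₁, h0⟩
      let m₀ := S₀.min' hne
      obtain ⟨hms, g₂, hg₂⟩ := Finset.mem_filter.mp (S₀.min'_mem hne)
      have hlow : ∀ i ∈ s, i < m₀ → ∀ g, (P i).mulVec (Q.mulVec (mv g v)) = 0 := fun i hi hlt g => by
        by_contra h0
        exact absurd (S₀.min'_le i (Finset.mem_filter.mpr ⟨hi, g, h0⟩)) (not_le.mpr hlt)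
      refine ⟨P m₀ * Q, ⟨g₂, by rwa [← Matrix.mulVec_mulVec]⟩, fun g => ?_, fun i hi t => ?_⟩
      · let z : ℤ → Fin N ⊕ Fin N → k := fun i =>
          Sum.elim ((P i).mulVec (Q.mulVec (mv g v))) ((P i).mulVec (Q.mulVec (mv (g * n) v)))
        have hlim : ∑ i ∈ s, (0 : k) ^ (i - m₀).toNat • z i =
            Sum.elim ((P m₀ * Q).mulVec (mv g v)) ((P m₀ * Q).mulVec (mv (g * n) v)) := by
          rw [Finset.sum_eq_single_of_mem m₀ hms fun i hi hne => ?_]
          · simp [z, Matrix.mulVec_mulVec]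
          · rcases lt_or_gt_of_ne hne with h | h
            · have hz : z i = 0 := funext fun p => by
                cases p with
                | inl p => exact congrFun (hlow i hi h g) p
                | inr p => exact congrFun (hlow i hi h (g * n)) p
              rw [hz, smul_zero]
            · rw [zero_pow (by omega), zero_smul]
        rw [← hlim]
        intro p hp
        refine eval_curve_zero s _ z p fun x hx => ?_
        let t : kˣ := Units.mk0 x hx
        have hmove := inClo_move rep L ((ofPar t ≫ e j) ≫ iT) ((t ^ (-m₀) : kˣ) : k) (hclo g)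
        refine Eq.trans (congrArg (fun y => MvPolynomial.eval y p) ?_) (hmove p hp)
        rw [hrep, show mv ((ofPar t ≫ e j) ≫ iT) = fun y => (lam j t : Mat k N).mulVec y by
          funext y; rw [Category.assoc]; rfl]
        funext q
        cases q <;>
        · simp only [z, Finset.sum_apply, Pi.smul_apply, Sum.elim_inl, Sum.elim_inr, hP t, Matrix.sum_mulVec,
            Matrix.smul_mulVec, smul_eq_mul, Finset.mul_sum]
          refine Finset.sum_congr rfl fun i hi => ?_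
          by_cases hlt : i < m₀
          · simp [hlow i hi hlt]
          · have hd : ((i - m₀).toNat : ℤ) = i - m₀ := Int.toNat_of_nonneg (by omega)
            rw [← _root_.mul_assoc, ← Units.val_mul, ← _root_.zpow_add, neg_add_eq_sub, ← hd, zpow_natCast,
              Units.val_pow_eq_pow_val]
            rfl
      · rcases Finset.mem_insert.mp hi with rfl | hi
        · exact ⟨t ^ m₀, by rw [← Matrix.mul_assoc, hPe t m₀ hms, Matrix.smul_mul]⟩
        · obtain ⟨a, ha⟩ := heig i hi t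
          refine ⟨a, ?_⟩
          rw [← Matrix.mul_assoc, (hPc _ (fun u => hlamc i j t u) m₀ hms).eq, Matrix.mul_assoc, ha, Matrix.mul_smul]
  -- the torus fixes the leading lines
  let R : Subgroup (𝟙_ (Over (Sk k)) ⟶ G) :=
    { carrier := {x | ∃ a : kˣ, (φ x : Mat k N) * Q = (a : k) • Q}
      one_mem' := ⟨1, by simp⟩
      mul_mem' := fun {x y} ⟨a, ha⟩ ⟨b, hb⟩ => ⟨a * b, by
        rw [map_mul, Units.val_mul, Matrix.mul_assoc, hb, Matrix.mul_smul, ha, smul_smul, Units.val_mul,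
          _root_.mul_comm (b : k)]⟩
      inv_mem' := fun {x} ⟨a, ha⟩ => ⟨a⁻¹, by
        have h1 := congrArg (fun M => ((a⁻¹ : kˣ) : k) • ((φ x⁻¹ : Mat k N) * M)) ha
        simp only [← Matrix.mul_assoc, ← Units.val_mul, ← map_mul, inv_mul_cancel, map_one, Units.val_one,
          Matrix.one_mul, Matrix.mul_smul, smul_smul, one_smul] at h1
        exact h1.symm⟩ }
  have hTR : ∀ t : Pt T, t ≫ iT ∈ R := fun t => comp_mem_of_cochars iT e co hprod R (fun i u => by
    obtain ⟨w, rfl⟩ : ∃ w : kˣ, ofPar w = u := ⟨par u, par_injective (by rw [par_ofPar])⟩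
    obtain ⟨a, ha⟩ := hQeig i w
    exact ⟨a, by rw [Category.assoc]; exact ha⟩) t
  -- all leading lines are among finitely many
  let z : (𝟙_ (Over (Sk k)) ⟶ G) → Fin N → k := fun g => Q.mulVec (mv g v)
  have horb : ∀ g, z g ≠ 0 → ∃ (h : Pt G) (a b : k),
      a ≠ 0 ∧ z g = a • mv h v ∧ z (g * n) = b • mv h v' := by
    intro g hg
    obtain ⟨h, ⟨⟨a, b⟩, hab⟩⟩ := exists_mem_orbit rep L iB qa qo hX F₂ hF₂ hL (hQclo g)
    have hab' : Sum.elim (a • v) (b • v') = Sum.elim (mv h⁻¹ (z g)) (mv h⁻¹ (z (g * n))) :=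
      Eq.trans hab (hrep h⁻¹ (z g) (z (g * n)))
    have h1 : mv h⁻¹ (z g) = a • v := funext fun i => (congrFun hab' (Sum.inl i)).symm
    have h2 : mv h⁻¹ (z (g * n)) = b • v' := funext fun i => (congrFun hab' (Sum.inr i)).symm
    have h1' : z g = a • mv h v := by
      rw [← mv_smul, ← h1, ← mv_mul, mul_inv_cancel, mv_one]
    refine ⟨h, a, b, fun h0 => hg (by rw [h1', h0, zero_smul]), h1', ?_⟩
    rw [← mv_smul, ← h2, ← mv_mul, mul_inv_cancel, mv_one]
  have hfin : ∀ g, ∃ (j : Fin m) (a : k), z g = a • mv (reps j) v ∨ z g = 0 := by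
    intro g
    by_cases hg : z g = 0
    · rcases m.eq_zero_or_pos with hm | hm
      · obtain ⟨j, -⟩ := hreps 1 fun t => ⟨t ≫ tC ≫ cB, by
          simp only [Category.assoc, hcB, htC, inv_one, _root_.one_mul, _root_.mul_one]⟩
        exact ⟨j, 0, Or.inr hg⟩
      · exact ⟨⟨0, hm⟩, 0, Or.inr hg⟩
    obtain ⟨h, a, b, ha, hz, -⟩ := horb g hg
    obtain ⟨j, β, hj⟩ := hreps h fun t => (hline _).mp <| by
      obtain ⟨cT, hcT⟩ := hTR t
      refine ⟨(cT : k), smul_right_injective _ ha ?_⟩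
      show a • mv (h⁻¹ * (t ≫ iT) * h) v = a • ((cT : k) • v)
      rw [mv_mul, mv_mul, ← mv_smul, ← mv_smul, ← hz, show mv (t ≫ iT) (z g) = (cT : k) • z g by
        show (φ (t ≫ iT) : Mat k N).mulVec (Q.mulVec _) = _
        rw [Matrix.mulVec_mulVec, hcT, Matrix.smul_mulVec], hz, mv_smul, mv_smul, ← mv_mul, inv_mul_cancel,
        mv_one, smul_smul, smul_smul, _root_.mul_comm]
    obtain ⟨cb, hcb⟩ := (hline (β ≫ iB)).mpr ⟨β, rfl⟩
    refine ⟨j, a * cb, Or.inl ?_⟩
    rw [hz, hj, mv_mul, show mv (β ≫ iB) v = cb • v from hcb, mv_smul, smul_smul]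
  -- functions
  let zf : Fin N → Fn G := fun p => ∑ q, ∑ i, (Q p q * v i) • F q i
  have hzf : ∀ g p, val g (zf p) = z g p := fun g p => by
    simp only [zf, z, mv, map_sum, map_smul, smul_eq_mul, Matrix.mulVec, dotProduct, Finset.mul_sum, hF]
    exact Finset.sum_congr rfl fun q _ => Finset.sum_congr rfl fun i _ => by ring
  obtain ⟨p₁, hp₁⟩ : ∃ p, zf p ≠ 0 := by
    obtain ⟨p, hp⟩ := Function.ne_iff.mp hg₁
    exact ⟨p, fun h0 => hp (show z g₁ p = 0 by rw [← hzf g₁ p, h0, map_zero])⟩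
  obtain ⟨j₀, hj₀⟩ : ∃ j : Fin m, ∀ g, ∀ p q, z g p * mv (reps j) v q = z g q * mv (reps j) v p := by
    by_contra hcon
    push Not at hcon
    choose g p q hne using hcon
    let f : Fin m → Fn G := fun j => mv (reps j) v (q j) • zf (p j) - mv (reps j) v (p j) • zf (q j)
    have hf : ∀ j, f j ≠ 0 := fun j h0 => hne j <| by
      have h1 := congrArg (val (g j)) h0
      rw [map_sub, map_smul, map_smul, map_zero, hzf, hzf, smul_eq_mul, smul_eq_mul, sub_eq_zero] at h1
      rw [_root_.mul_comm, h1, _root_.mul_comm]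
    have hprod : zf p₁ * ∏ j, f j ≠ 0 := mul_ne_zero hp₁ (Finset.prod_ne_zero_iff.mpr fun j _ => hf j)
    refine hprod (Fn.ext_points fun x => ?_)
    show val x _ = val x 0
    rw [map_zero, map_mul, map_prod]
    obtain ⟨j, a, hx | hx⟩ := hfin x
    · refine mul_eq_zero_of_right _ (Finset.prod_eq_zero (Finset.mem_univ j) ?_)
      rw [map_sub, map_smul, map_smul, hzf, hzf, hx]
      simp only [Pi.smul_apply, smul_eq_mul]
      ring
    · rw [hzf, hx, Pi.zero_apply, zero_mul]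
  have hy : mv (reps j₀) v ≠ 0 := fun h0 => hv (by
    rw [← mv_one v, ← inv_mul_cancel (reps j₀), mv_mul, h0]; exact Matrix.mulVec_zero _)
  obtain ⟨i₀, hi₀⟩ := Function.ne_iff.mp hy
  have hline0 : ∀ g, ∃ a : k, z g = a • mv (reps j₀) v := fun g => ⟨z g i₀ / mv (reps j₀) v i₀, funext fun p => by
    rw [Pi.smul_apply, smul_eq_mul, div_mul_eq_mul_div, eq_div_iff (show mv (reps j₀) v i₀ ≠ 0 from hi₀),
      hj₀ g p i₀]⟩
  -- a generic point
  have hne2 : zf p₁ * Fn.pull (H20Conj.rg G n) (zf p₁) ≠ 0 := by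
    refine mul_ne_zero hp₁ fun h0 => hp₁ ?_
    have := congrArg (Fn.pull (H20Conj.rg G n⁻¹)) h0
    rwa [map_zero, Fn.pull_pull, show H20Conj.rg G n⁻¹ ≫ H20Conj.rg G n = 𝟙 G by
      refine hom_ext_pts fun x => ?_
      rw [← Category.assoc, comp_rg, comp_rg, Category.comp_id, inv_mul_cancel_right], Fn.pull_id] at this
  obtain ⟨g₀, hg₀⟩ : ∃ g₀, val g₀ (zf p₁) ≠ 0 ∧ val g₀ (Fn.pull (H20Conj.rg G n) (zf p₁)) ≠ 0 := by
    by_contra hall
    push Not at hall
    refine hne2 (Fn.ext_points fun x => ?_)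
    show val x _ = val x 0
    rw [map_mul, map_zero]
    by_cases h0 : val x (zf p₁) = 0
    · rw [h0, zero_mul]
    · rw [hall x h0, mul_zero]
  rw [val_pull, comp_rg, hzf, hzf] at hg₀
  obtain ⟨h, a, b, ha, hz1, hz2⟩ := horb g₀ fun h0 => hg₀.1 (by rw [h0]; rfl)
  have hb : b ≠ 0 := fun h0 => hg₀.2 (by rw [hz2, h0, zero_smul]; rfl)
  obtain ⟨α, hα⟩ := hline0 g₀
  obtain ⟨β, hβ⟩ := hline0 (g₀ * n)
  have hα0 : α ≠ 0 := fun h0 => hg₀.1 (by rw [hα, h0, zero_smul]; rfl)
  refine (hline n).mp ⟨b⁻¹ * (β * α⁻¹ * a), ?_⟩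
  have e1 : b • mv h v' = (β * α⁻¹ * a) • mv h v := by
    rw [← hz2, hβ, ← smul_smul, ← hz1, hα, smul_smul, inv_mul_cancel_right₀ hα0]
  have e2 := congrArg (fun y => b⁻¹ • mv h⁻¹ y) e1
  simp only [mv_smul, ← mv_mul, inv_mul_cancel, mv_one, smul_smul, _root_.one_mul] at e2
  rw [inv_mul_cancel₀ hb, one_smul] at e2
  exact e2

end H20Borel
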