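import Groth.Agent.H20Borel.GBProper
import Groth.Agent.H22Alg.GlobalFunctions
import Mathlib.LinearAlgebra.TensorProduct.Basis

/-!
# Functions invariant under a Borel subgroup are constant
-/

set_option autoImplicit false
set_option linter.style.haveILetI false
set_option backward.isDefEq.respectTransparency false
set_option maxHeartbeats 1000000
set_option synthInstance.maxHeartbeats 100000

universe u

open CategoryTheory CategoryTheory.Limits MonoidalCategory CartesianMonoidalCategory MonObj AlgebraicGeometry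
open Groth.Agent.H27Witt H20Mu H20Conj

noncomputable section

namespace H20Borel

variable {k : Type u} [Field k] [IsAlgClosed k]

local notation "Pt" X => 𝟙_ (Over (Sk k)) ⟶ X

variable {G : Over (Sk k)} [GrpObj G] [IsAffine G.left] [Smooth G.hom] [ConnectedSpace G.left]
variable {B : Over (Sk k)} [GrpObj B] (iB : B ⟶ G)

/-- **A function invariant under right translation by a Borel subgroup is constant.** -/
theorem fn_eq_const (hB : Red.IsBorelOver k iB) (F : Fn G) (hF : ∀ (g : Pt G) (b : Pt B), val (g * (b ≫ iB)) F = val g F) :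
    F = algebraMap k (Fn G) (val (1 : Pt G) F) := by
  haveI := hB.1; haveI := hB.2.1; haveI := hB.2.2.1
  haveI : IsAffine B.left := isAffine_of_isAffineHom iB.left
  haveI : LocallyOfFiniteType G.hom := inferInstance
  haveI := Fn.isDomain G
  let A1 : Over (Sk k) := Over.mk (Spec.map (CommRingCat.ofHom (algebraMap k (Polynomial k))))
  haveI : IsAffine A1.left := inferInstanceAs (IsAffine (Spec _))
  obtain ⟨f, hf⟩ := Fn.exists_hom (X := G) (Y := A1)
    ((Polynomial.aeval F).comp (Fn.specAlg (k := k) (Polynomial k)).symm.toAlgHom)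
  let T : Fn A1 := Fn.specAlg (k := k) (Polynomial k) Polynomial.X
  have hfT : Fn.pull f T = F := by
    rw [hf]
    show Polynomial.aeval F ((Fn.specAlg (k := k) (Polynomial k)).symm (Fn.specAlg (k := k) (Polynomial k) Polynomial.X)) = F
    rw [AlgEquiv.symm_apply_apply, Polynomial.aeval_X]
  haveI : Smooth (G ⊗ B).hom := Groth.Agent.H19Grp.PointsDense.smooth_tensor G B
  haveI : IsAffine (G ⊗ B).left := inferInstanceAs (IsAffine (pullback G.hom B.hom))
  have hext : ∀ {Z : Over (Sk k)} (a b : Z ⟶ A1), Fn.pull a T = Fn.pull b T → a = b := by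
    intro Z a b e
    refine Fn.hom_ext (AlgHom.ext fun z => ?_)
    obtain ⟨p, rfl⟩ := (Fn.specAlg (k := k) (Polynomial k)).surjective z
    exact AlgHom.congr_fun (Polynomial.algHom_ext (f := (Fn.pull a).comp (Fn.specAlg (k := k) (Polynomial k)).toAlgHom)
      (g := (Fn.pull b).comp (Fn.specAlg (k := k) (Polynomial k)).toAlgHom) e) p
  have huniv : (fst G B * (snd G B ≫ iB)) ≫ f = fst G B ≫ f := by
    refine hext _ _ (Fn.ext_points fun z => ?_)
    show val z _ = val z _
    rw [val_pull, val_pull, ← Category.assoc, ← Category.assoc, MonObj.comp_mul, ← Category.assoc z (snd G B),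
      ← val_pull (z ≫ fst G B * (z ≫ snd G B) ≫ iB) f, ← val_pull (z ≫ fst G B) f, hfT, hF]
  obtain ⟨X, a, o, hX, hlfp, -⟩ := Groth.Agent.H19Quot.exists_isQuotient iB
  haveI := hX.1; haveI := hlfp
  haveI := isProper_of_isBorelOver iB hB a o hX
  obtain ⟨π, hπ, -⟩ := Groth.Agent.H19Grp.QuotientDesc.existsUnique_of_isQuotient a o iB hX f fun Z g h => by
    have := congrArg (lift g h ≫ ·) huniv
    simpa only [MonObj.comp_mul, lift_fst_assoc, lift_snd_assoc, ← Category.assoc, lift_fst, lift_snd] using this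
  haveI : Algebra.IsIntegral k (Fn X) := Groth.Agent.H22Alg.GlobalFunctions.isIntegral_algΓ X.hom
  have hint : IsIntegral k F := by
    have h2 : Fn.pull (a.orbitMap o) (Fn.pull π T) = F := by rw [Fn.pull_pull, hπ, hfT]
    rw [← h2]
    exact (Algebra.IsIntegral.isIntegral (R := k) (Fn.pull π T)).map (Fn.pull (a.orbitMap o))
  obtain ⟨c, hc⟩ := minpoly.mem_range_of_degree_eq_one k F
    (IsAlgClosed.degree_eq_one_of_irreducible k (minpoly.irreducible hint))
  rw [← hc, AlgHom.commutes]
  rfl

/-- A morphism to an affine scheme invariant under right translation by a Borel subgroup is constant. -/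
theorem comp_eq_const (hB : Red.IsBorelOver k iB) {Y : Over (Sk k)} [IsAffine Y.left] (f : G ⟶ Y)
    (hf : ∀ (g : Pt G) (b : Pt B), (g * (b ≫ iB)) ≫ f = g ≫ f) : f = toUnit G ≫ (1 : Pt G) ≫ f := by
  refine Fn.hom_ext (AlgHom.ext fun y => ?_)
  rw [fn_eq_const iB hB (Fn.pull f y) (fun g b => by rw [val_pull, val_pull, hf]), pull_const, val_pull]

omit [IsAlgClosed k] [IsAffine G.left] [Smooth G.hom] [ConnectedSpace G.left] in
/-- A family of vectors with vanishing evaluations against every functional vanishes in the tensor product. -/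
theorem tmul_sum_eq_zero {A P : Type u} [CommRing A] [Algebra k A] [CommRing P] [Algebra k P] {n : ℕ}
    (a : Fin n → A) (b : Fin n → P) (h : ∀ l : P →ₗ[k] k, ∑ i, l (b i) • a i = 0) :
    (∑ i, a i ⊗ₜ[k] b i) = 0 := by
  classical
  let β := Module.Free.chooseBasis k P
  refine (TensorProduct.equivFinsuppOfBasisRight β).injective (Finsupp.ext fun j => ?_)
  rw [map_zero, Finsupp.zero_apply, map_sum, Finsupp.finsetSum_apply]
  simp only [TensorProduct.equivFinsuppOfBasisRight_apply_tmul_apply]
  exact h (β.coord j)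

/-- **What commutes with a Borel subgroup is central.** -/
theorem commute_of_commute_borel (hB : Red.IsBorelOver k iB) {P : Over (Sk k)} [IsAffine P.left] (g : P ⟶ G)
    (hg : ∀ b : Pt B, g * (toUnit P ≫ b ≫ iB) = (toUnit P ≫ b ≫ iB) * g) {Q : Over (Sk k)} (x : Q ⟶ P) (h : Q ⟶ G) :
    (x ≫ g) * h = h * (x ≫ g) := by
  let f : G ⊗ P ⟶ G := fst G P * (snd G P ≫ g) * (fst G P)⁻¹
  suffices hf : f = snd G P ≫ g by
    have := congrArg (lift h x ≫ ·) hf
    simp only [f, MonObj.comp_mul, GrpObj.comp_inv, lift_fst, lift_snd_assoc] at this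
    exact (mul_inv_eq_iff_eq_mul.mp this).symm
  haveI : IsAffine (G ⊗ P).left := inferInstanceAs (IsAffine (pullback G.hom P.hom))
  refine Fn.hom_ext (AlgHom.ext fun y => ?_)
  let sl : (Pt G) → (P ⟶ G ⊗ P) := fun z => lift (toUnit P ≫ z) (𝟙 P)
  have hsl : ∀ z : Pt G, sl z ≫ f = (toUnit P ≫ z) * g * (toUnit P ≫ z)⁻¹ := fun z => by
    simp only [sl, f, MonObj.comp_mul, GrpObj.comp_inv, lift_fst, lift_snd_assoc, Category.id_comp]
  obtain ⟨n, a, b, hab⟩ := Fn.exists_decomp (Fn.pull f y)
  have hval : ∀ (z : Pt G) (l : Fn P →ₗ[k] k), l (Fn.pull (sl z ≫ f) y) = val z (∑ i, l (b i) • a i) := fun z l => by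
    rw [← Fn.pull_pull, hab, map_sum, map_sum, map_sum]
    refine Finset.sum_congr rfl fun i _ => ?_
    rw [map_mul, Fn.pull_pull, Fn.pull_pull, lift_fst, lift_snd, Fn.pull_id, AlgHom.id_apply, pull_const,
      ← Algebra.smul_def, map_smul, map_smul, smul_eq_mul, smul_eq_mul, _root_.mul_comm]
  have hl : ∀ l : Fn P →ₗ[k] k, ∑ i, l (b i) • a i = algebraMap k (Fn G) (l (Fn.pull g y)) := fun l => by
    rw [fn_eq_const iB hB (∑ i, l (b i) • a i) (fun z c => by
      rw [← hval, ← hval, hsl, hsl, MonObj.comp_mul, _root_.mul_assoc (toUnit P ≫ z) (toUnit P ≫ c ≫ iB), ← hg c,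
        _root_.mul_inv_rev]
      refine congrArg (fun m : P ⟶ G => l (Fn.pull m y)) ?_
      group), ← hval, hsl, MonObj.comp_one, inv_one, _root_.one_mul, _root_.mul_one]
  have key := tmul_sum_eq_zero (k := k) (Fin.snoc a (-1) : Fin (n + 1) → Fn G) (Fin.snoc b (Fn.pull g y)) fun l => by
    rw [Fin.sum_univ_castSucc]
    simp only [Fin.snoc_castSucc, Fin.snoc_last]
    rw [hl l, Algebra.algebraMap_eq_smul_one, smul_neg, add_neg_cancel]
  have := congrArg (Algebra.TensorProduct.lift (Fn.pull (fst G P)) (Fn.pull (snd G P)) fun _ _ => Commute.all _ _) key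
  rw [Fin.sum_univ_castSucc, map_add, map_sum, map_zero] at this
  simp only [Fin.snoc_castSucc, Fin.snoc_last, Algebra.TensorProduct.lift_tmul] at this
  rw [← hab, map_neg, map_one, neg_one_mul, add_neg_eq_zero, Fn.pull_pull] at this
  exact this

/-- Two homomorphisms agreeing on a Borel subgroup are equal. -/
theorem hom_eq_of_eq_on_borel (hB : Red.IsBorelOver k iB) {G' : Over (Sk k)} [GrpObj G'] [IsAffine G'.left]
    (φ₁ φ₂ : G ⟶ G') [IsMonHom φ₁] [IsMonHom φ₂] (h : iB ≫ φ₁ = iB ≫ φ₂) : φ₁ = φ₂ := by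
  have h1 := comp_eq_const iB hB (φ₁ * φ₂⁻¹) fun g b => by
    rw [MonObj.comp_mul, MonObj.comp_mul, GrpObj.comp_inv, GrpObj.comp_inv, MonObj.mul_comp, MonObj.mul_comp,
      Category.assoc, Category.assoc, h, _root_.mul_inv_rev, _root_.mul_assoc, mul_inv_cancel_left]
  rw [MonObj.comp_mul (1 : Pt G), GrpObj.comp_inv, MonObj.one_comp, MonObj.one_comp, inv_one, _root_.mul_one,
    MonObj.comp_one] at h1
  exact mul_inv_eq_one.mp h1

end H20Borel
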