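import Groth.Agent.H20Borel.SemisimplePts
import Mathlib.AlgebraicGeometry.Group.Affine

/-!
# A connected group with only semisimple points is diagonalizable
-/

set_option autoImplicit false
set_option linter.style.haveILetI false
set_option backward.isDefEq.respectTransparency false
set_option maxHeartbeats 2000000
set_option synthInstance.maxHeartbeats 100000

universe u v w

open CategoryTheory MonoidalCategory CartesianMonoidalCategory MonObj AlgebraicGeometry TensorProduct WithConv
open Groth.Agent.H27Witt H20Mu H20Conj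
open Groth.Agent.H20Comod HopfRep
open scoped commutatorElement

noncomputable section

namespace H20Borel

variable {k : Type u} [Field k]

/-- Transporting points along an algebra isomorphism. -/
theorem transport_mul {A : Type v} [CommRing A] [HopfAlgebra k A] {A' : Type u} [CommRing A'] [Algebra k A']
    (e : A' ≃ₐ[k] A) : letI := Groth.Agent.H20DimTan.hopfT e
    ∀ g h : WithConv (A' →ₐ[k] k),
      toConv ((g * h).ofConv.comp e.symm.toAlgHom) =
        toConv (g.ofConv.comp e.symm.toAlgHom) * toConv (h.ofConv.comp e.symm.toAlgHom) := by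
  letI := Groth.Agent.H20DimTan.hopfT e
  intro g h
  refine WithConv.ofConv_injective (AlgHom.ext fun a => ?_)
  show (g * h).ofConv (e.symm a) = _
  rw [AlgHom.convMul_apply, AlgHom.convMul_apply]
  show Algebra.TensorProduct.lift g.ofConv h.ofConv _ (Groth.Agent.H20DimTan.comulT e (e.symm a)) = _
  simp only [Groth.Agent.H20DimTan.comulT, AlgHom.comp_apply, AlgEquiv.coe_algHom, Bialgebra.comulAlgHom_apply,
    AlgEquiv.apply_symm_apply]
  induction CoalgebraStruct.comul (R := k) a using TensorProduct.induction_on with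
  | zero => simp
  | tmul p q => simp
  | add p q hp hq => simp only [map_add, hp, hq]

/-- The rational points of the spectrum of a Hopf algebra, with values. -/
theorem exists_ptsEquiv {A : Type u} [CommRing A] [HopfAlgebra k A] :
    ∃ θ : (𝟙_ (Over (Sk k)) ⟶ (Spec (CommRingCat.of A)).asOver (Spec (CommRingCat.of k))) ≃* WithConv (A →ₐ[k] k),
      ∀ z x, (θ z).ofConv x = val z (Fn.specAlg (k := k) A x) := by
  let i : (Spec (CommRingCat.of k)).asOver (Spec (CommRingCat.of k)) ⟶ 𝟙_ (Over (Sk k)) := toUnit _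
  haveI : IsIso i.left := by
    have h : i.left ≫ (𝟙_ (Over (Sk k))).hom = ((Spec (CommRingCat.of k)).asOver (Spec (CommRingCat.of k))).hom := Over.w i
    have h1 : ((Spec (CommRingCat.of k)).asOver (Spec (CommRingCat.of k))).hom = 𝟙 _ := by
      show Spec.map (CommRingCat.ofHom (algebraMap k k)) = _
      rw [Algebra.algebraMap_self, CommRingCat.ofHom_id]
      exact Spec.map_id _
    rw [h1, show (𝟙_ (Over (Sk k))).hom = 𝟙 _ from rfl, Category.comp_id] at h
    rw [h]
    infer_instance
  haveI : IsIso i := Groth.Agent.H21Diag.isIso_of_left i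
  let θ : (𝟙_ (Over (Sk k)) ⟶ (Spec (CommRingCat.of A)).asOver (Spec (CommRingCat.of k))) ≃* WithConv (A →ₐ[k] k) :=
    { toFun := fun z => Spec.mapMulEquiv.symm (i ≫ z)
      invFun := fun w => inv i ≫ Spec.mapMulEquiv w
      left_inv := fun z => by simp
      right_inv := fun w => by simp
      map_mul' := fun a b => by rw [MonObj.comp_mul, map_mul] }
  refine ⟨θ, fun z x => ?_⟩
  obtain ⟨w, rfl⟩ := θ.symm.surjective z
  rw [MulEquiv.apply_symm_apply]
  show w.ofConv x = val (inv i ≫ Spec.mapMulEquiv w) (Fn.specAlg (k := k) A x)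
  have h1 : Fn.pull (Spec.mapMulEquiv w) (Fn.specAlg (k := k) A x) = Fn.specAlg (k := k) k (w.ofConv x) :=
    congr($(Scheme.ΓSpecIso_inv_naturality (CommRingCat.ofHom w.ofConv.toRingHom)).hom x).symm
  rw [← val_pull, h1]
  exact ((val (inv i)).commutes (w.ofConv x)).symm.trans
    (congrArg (val (inv i)) ((Fn.specAlg (k := k) k).commutes (w.ofConv x)).symm)

variable [IsAlgClosed k]

/-- A Hopf domain of finite type as a connected smooth affine group scheme with its rational points. -/
theorem exists_grp_model {A : Type u} [CommRing A] [IsDomain A] [HopfAlgebra k A] [Algebra.FiniteType k A] :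
    ∃ (G : Over (Sk k)) (_ : GrpObj G), IsAffine G.left ∧ Smooth G.hom ∧ ConnectedSpace G.left ∧
      ∃ (θ : (𝟙_ (Over (Sk k)) ⟶ G) ≃* WithConv (A →ₐ[k] k)) (Fa : A → Fn G),
        ∀ z x, (θ z).ofConv x = val z (Fa x) := by
  let G : Over (Sk k) := (Spec (CommRingCat.of A)).asOver (Spec (CommRingCat.of k))
  haveI : IsAffine G.left := inferInstanceAs (IsAffine (Spec _))
  haveI : IsIntegral G.left := inferInstanceAs (IsIntegral (Spec (CommRingCat.of A)))
  haveI : LocallyOfFiniteType G.hom := by
    show LocallyOfFiniteType (Spec.map (CommRingCat.ofHom (algebraMap k A)))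
    rw [HasRingHomProperty.Spec_iff (P := @LocallyOfFiniteType)]
    exact RingHom.finiteType_algebraMap.mpr inferInstance
  haveI : GeometricallyReduced G.hom := Groth.Agent.H06Red.geometricallyReduced_of_perfectField _
  haveI : Smooth G.hom := by
    letI hG : GrpObj G := inferInstance
    letI : GrpObj (Over.mk G.hom) := hG
    exact smooth_of_grpObj G.hom
  obtain ⟨θ, hθ⟩ := exists_ptsEquiv (k := k) (A := A)
  exact ⟨G, inferInstance, inferInstance, inferInstance, inferInstanceAs (ConnectedSpace (PrimeSpectrum A)),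
    θ, fun x => Fn.specAlg (k := k) A x, hθ⟩

/-- The commutativity of the points, in terms of a model in the universe of the field. -/
theorem commute_pts_aux {A : Type v} [CommRing A] [HopfAlgebra k A] [Algebra.FiniteType k A] [_root_.IsReduced A]
    {A' : Type u} [CommRing A'] [IsDomain A'] [HopfAlgebra k A'] [Algebra.FiniteType k A'] (e : A' ≃ₐ[k] A)
    (hmul : ∀ g h : WithConv (A' →ₐ[k] k), toConv ((g * h).ofConv.comp e.symm.toAlgHom) =
      toConv (g.ofConv.comp e.symm.toAlgHom) * toConv (h.ofConv.comp e.symm.toAlgHom))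
    (hssW : ∀ (g : A →ₐ[k] k) (W : Submodule k A) (_ : IsSubcomod (k := k) (A := A) W) (_ : Module.Finite k W)
      (hs : ∀ x ∈ W, actL g.toLinearMap x ∈ W), Module.End.IsSemisimple ((actL g.toLinearMap : A →ₗ[k] A).restrict hs)) :
    ∀ g h : WithConv (A →ₐ[k] k), g * h = h * g := by
  classical
  obtain ⟨G, gG, hGa, hGs, hGc, θ₁, Fa₁, hθ₁⟩ := exists_grp_model (k := k) (A := A')
  letI := gG; haveI := hGa; haveI := hGs; haveI := hGc
  haveI : LocallyOfFiniteType G.hom := inferInstance
  let ψ : WithConv (A' →ₐ[k] k) ≃* WithConv (A →ₐ[k] k) :=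
    { toFun := fun g => toConv (g.ofConv.comp e.symm.toAlgHom)
      invFun := fun g => toConv (g.ofConv.comp e.toAlgHom)
      left_inv := fun g => WithConv.ofConv_injective (AlgHom.ext fun x => by simp)
      right_inv := fun g => WithConv.ofConv_injective (AlgHom.ext fun x => by simp)
      map_mul' := hmul }
  let θ : (𝟙_ (Over (Sk k)) ⟶ G) ≃* WithConv (A →ₐ[k] k) := θ₁.trans ψ
  let Fa : A → Fn G := fun a => Fa₁ (e.symm a)
  have hθ : ∀ z a, (θ z).ofConv a = val z (Fa a) := fun z a => hθ₁ z (e.symm a)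
  suffices h : ∀ g h : 𝟙_ (Over (Sk k)) ⟶ G, g * h = h * g by
    intro g h'
    obtain ⟨g, rfl⟩ := θ.surjective g
    obtain ⟨h', rfl⟩ := θ.surjective h'
    rw [← map_mul, ← map_mul, h]
  obtain ⟨B, gB, iB, hB⟩ := exists_isBorelOver (G := G)
  letI := gB
  haveI := hB.1; haveI := hB.2.1; haveI := hB.2.2.1; haveI := hB.2.2.2.1
  haveI : IsAffine B.left := isAffine_of_isAffineHom iB.left
  obtain ⟨m, hm⟩ := hB.2.2.2.2.1
  haveI : Group.IsSolvable (𝟙_ (Over (Sk k)) ⟶ B) := ⟨m, hm _⟩
  haveI := Fn.isDomain B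
  let Φ : Fn B →ₐ[k] ((𝟙_ (Over (Sk k)) ⟶ B) → k) := Pi.algHom k (fun _ => k) fun x => val x
  have hΦ : Function.Injective Φ := fun a b h => Fn.ext_points fun x => congrFun h x
  have hirr : IsIrredFn Φ.range := by
    rintro _ ⟨a, rfl⟩ _ ⟨b, rfl⟩ h
    change Φ a * Φ b = 0 at h
    rw [← map_mul, map_eq_zero_iff Φ hΦ, mul_eq_zero] at h
    exact h.imp (fun h => (congrArg Φ h).trans (map_zero Φ)) (fun h => (congrArg Φ h).trans (map_zero Φ))
  let θB : (𝟙_ (Over (Sk k)) ⟶ B) →* WithConv (A →ₐ[k] k) := θ.toMonoidHom.comp (postHom iB)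
  have hcomB : ∀ a b : 𝟙_ (Over (Sk k)) ⟶ B, a * b = b * a := by
    intro a b
    haveI : Mono iB := Over.mono_of_mono_left _
    rw [← commutatorElement_eq_one_iff_mul_comm]
    have hinj : Function.Injective θB := fun x y h => by
      have h' : x ≫ iB = y ≫ iB := θ.injective h
      exact (cancel_mono iB).mp h'
    refine hinj ?_
    rw [map_one]
    refine WithConv.ofConv_injective (AlgHom.ext fun r => ?_)
    obtain ⟨W, hW, hrW, hfin⟩ : ∃ W : Submodule k A, IsSubcomod (k := k) (A := A) W ∧ r ∈ W ∧ Module.Finite k W :=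
      ⟨gen k A {r}, isSubcomod_gen _, subset_gen _ rfl, finite_gen (Set.finite_singleton r)⟩
    haveI := hfin
    let ρ : (𝟙_ (Over (Sk k)) ⟶ B) →* Module.End k W :=
      { toFun := fun x => (actL (θB x).ofConv.toLinearMap : A →ₗ[k] A).restrict
          fun y hy => actL_mem_of_isSubcomod hW _ hy
        map_one' := LinearMap.ext fun y => Subtype.ext (by
          show actL (θB 1).ofConv.toLinearMap (y : A) = (y : A)
          rw [map_one, show (1 : WithConv (A →ₐ[k] k)).ofConv.toLinearMap = CoalgebraStruct.counit (R := k) (A := A) from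
            LinearMap.ext fun z => by simp [AlgHom.convOne_apply], actL_counit])
        map_mul' := fun x y => LinearMap.ext fun w => Subtype.ext (by
          show actL (θB (x * y)).ofConv.toLinearMap (w : A) =
            actL (θB x).ofConv.toLinearMap (actL (θB y).ofConv.toLinearMap (w : A))
          rw [map_mul, actL_mul]) }
    have hρ : IsRegRep Φ.range ρ := fun φ w => by
      obtain ⟨χ, rfl⟩ : ∃ χ : A →ₗ[k] k, χ ∘ₗ W.subtype = φ := LinearMap.exists_extend φ
      have hx : ∀ x, (χ ∘ₗ W.subtype) (ρ x w) = val x (Fn.pull iB (Fa (coeff A χ (w : A)))) := fun x => by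
        show χ (actL (θB x).ofConv.toLinearMap (w : A)) = _
        rw [← apply_coeff, val_pull]
        exact hθ _ _
      exact ⟨⟨Fn.pull iB (Fa (coeff A χ (w : A))), funext fun x => (hx x).symm⟩,
        ⟨Fn.pull ((𝟙 B)⁻¹ : B ⟶ B) (Fn.pull iB (Fa (coeff A χ (w : A)))), funext fun x => by
          show val x (Fn.pull ((𝟙 B)⁻¹ : B ⟶ B) _) = _
          rw [val_pull x, GrpObj.comp_inv, Category.comp_id, hx]⟩⟩
    have hn := isNilpotent_commutator_sub_one hirr _ ρ hρ le_rfl a b
    have hs : (ρ ⁅a, b⁆ - 1).IsSemisimple := by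
      rw [show (1 : Module.End k W) = algebraMap k (Module.End k W) 1 from (map_one _).symm,
        Module.End.isSemisimple_sub_algebraMap_iff]
      exact hssW _ W hW hfin fun y hy => actL_mem_of_isSubcomod hW _ hy
    have h1 := sub_eq_zero.mp (Module.End.eq_zero_of_isNilpotent_isSemisimple hn hs)
    have h2 := congrArg (fun y : W => CoalgebraStruct.counit (R := k) (y : A)) (LinearMap.congr_fun h1 ⟨r, hrW⟩)
    change CoalgebraStruct.counit (R := k) (actL (θB ⁅a, b⁆).ofConv.toLinearMap r) = CoalgebraStruct.counit (R := k) r at h2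
    rw [← apply_coeff, coeff_counit] at h2
    rw [AlgHom.convOne_apply, Algebra.algebraMap_self, RingHom.id_apply]
    exact h2
  have hcen : ∀ (b : 𝟙_ (Over (Sk k)) ⟶ B) (g : 𝟙_ (Over (Sk k)) ⟶ G), (b ≫ iB) * g = g * (b ≫ iB) := by
    intro b g
    haveI : IsAffine (𝟙_ (Over (Sk k))).left := inferInstanceAs (IsAffine (Spec (CommRingCat.of k)))
    have h := commute_of_commute_borel iB hB (b ≫ iB) (fun c => by
      rw [show toUnit (𝟙_ (Over (Sk k))) ≫ c ≫ iB = c ≫ iB by
        rw [toUnit_unique (toUnit _) (𝟙 _), Category.id_comp], ← MonObj.mul_comp, ← MonObj.mul_comp, hcomB])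
      (𝟙 _) g
    rwa [Category.id_comp] at h
  intro g h
  obtain ⟨x, b, rfl⟩ := exists_conj_mem iB hB g
  rw [← hcen b x, mul_inv_cancel_right, hcen b h]


/-- **Semisimple points force a connected group to be diagonalizable.** -/
theorem isDiagonalizable_of_semisimple {A : Type v} [CommRing A] [HopfAlgebra k A] [Algebra.FiniteType k A]
    [_root_.IsReduced A] (hconn : ∀ e : A, IsIdempotentElem e → e = 0 ∨ e = 1)
    (hss : ∀ (g : A →ₐ[k] k) (V : Type v) [AddCommGroup V] [Module k V] [HopfRep.Comod k A V],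
      Module.Finite k V → Module.End.IsSemisimple (HopfRep.Comod.act k A V g)) :
    HopfRep.IsDiagonalizable k A := by
  classical
  have hssW : ∀ (g : A →ₐ[k] k) (W : Submodule k A) (_ : IsSubcomod (k := k) (A := A) W) (_ : Module.Finite k W)
      (hs : ∀ x ∈ W, actL g.toLinearMap x ∈ W), Module.End.IsSemisimple ((actL g.toLinearMap : A →ₗ[k] A).restrict hs) := by
    intro g W hW hfin hs
    obtain ⟨p, hp⟩ := exists_retract k A W
    letI := retractComod W hW p hp
    have h := hss g W hfin
    rwa [act_eq_actL, show (actL g.toLinearMap : W →ₗ[k] W) = (actL g.toLinearMap : A →ₗ[k] A).restrict hs from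
      LinearMap.ext fun x => (actL_retract W hW p hp _ x).trans (hp ⟨_, hs x x.2⟩)] at h
  refine isDiagonalizable_of_commute ?_ hssW
  -- a model in the universe of the field
  obtain ⟨n, f, hf⟩ := Algebra.FiniteType.iff_quotient_mvPolynomial''.mp ‹Algebra.FiniteType k A›
  let A' : Type u := MvPolynomial (Fin n) k ⧸ RingHom.ker f
  let e : A' ≃ₐ[k] A := Ideal.quotientKerAlgEquivOfSurjective hf
  letI := Groth.Agent.H20DimTan.hopfT e
  haveI : IsDomain A := Groth.Agent.H20Hopf.Rosenlicht.isDomain (k := k) hconn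
  haveI : IsDomain A' := e.toRingEquiv.injective.isDomain e.toRingEquiv.toRingHom
  haveI : Algebra.FiniteType k A' := inferInstance
  exact commute_pts_aux (A' := A') e (transport_mul e) hssW

end H20Borel
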