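import Groth.Agent.H20Borel.Exists

/-!
# Proper quotients and parabolic subgroups
-/

set_option autoImplicit false
set_option linter.style.haveILetI false
set_option backward.isDefEq.respectTransparency false
set_option maxHeartbeats 1000000
set_option synthInstance.maxHeartbeats 100000

universe u

open CategoryTheory CategoryTheory.Limits MonoidalCategory CartesianMonoidalCategory MonObj AlgebraicGeometry
open Groth.Agent.H27Witt H20Mu H20Conj

noncomputable section

namespace H20Borel

variable {k : Type u} [Field k] [IsAlgClosed k]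

local notation "Pt" X => 𝟙_ (Over (Sk k)) ⟶ X

variable {G : Over (Sk k)} [GrpObj G] [IsAffine G.left] [Smooth G.hom]

omit [IsAlgClosed k] [IsAffine G.left] [Smooth G.hom] in
theorem isIso_conj (g : Pt G) : IsIso (conj g) := by
  refine ⟨conj g⁻¹, ?_, ?_⟩ <;>
  · rw [comp_conj, conj]
    simp only [GrpObj.comp_inv, _root_.inv_inv]
    group

/-- **A subgroup with proper quotient contains a Borel subgroup.** -/
theorem exists_borel_of_isProper_quotient {P : Over (Sk k)} [GrpObj P] (iP : P ⟶ G) [IsMonHom iP]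
    [IsClosedImmersion iP.left] {X : Over (Sk k)} (a : AlgGrp.Action G X) (o : Pt X)
    (hX : AGF.IsQuotient iP X a o) [IsProper X.hom] :
    ∃ (B : Over (Sk k)) (_ : GrpObj B) (b : B ⟶ P), IsMonHom b ∧ Red.IsBorelOver k (b ≫ iP) := by
  haveI : LocallyOfFiniteType G.hom := inferInstance
  haveI : QuasiCompact G.hom := inferInstance
  haveI : CompactSpace G.left := QuasiCompact.compactSpace_of_compactSpace G.hom
  haveI : Mono iP := Over.mono_of_mono_left _
  haveI := hX.1; haveI := hX.2.2.1
  obtain ⟨B, gB, iB, hB⟩ := exists_isBorelOver (G := G)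
  letI := gB
  obtain ⟨hm, hci, hsm, hconn, hsol, hmax⟩ := hB
  replace hmax := PLift.up hmax -- kept out of instance search
  haveI := hm; haveI := hci; haveI := hsm; haveI := hconn
  haveI : IsAffine B.left := isAffine_of_isAffineHom iB.left
  obtain ⟨x, hx⟩ := exists_fixed hsol (pullAct a iB) o
  obtain ⟨g, hg⟩ := exists_pt_lift (a.orbitMap o) x
  haveI := isIso_conj g
  have hB' : Red.IsBorelOver k (iB ≫ conj g) :=
    isBorelOver_comp_iso ⟨hm, hci, hsm, hconn, hsol, hmax.down⟩ (conj g)
  haveI := hB'.1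
  have hfac : (iB ≫ conj g) ≫ a.orbitMap o = (1 : B ⟶ G) ≫ a.orbitMap o := by
    refine hom_ext_pts fun z => ?_
    have h := hx z
    rw [Fixes, lift_pullAct, ← hg, pt_orbitMap, ← mul_act'] at h
    rw [← Category.assoc, ← Category.assoc, ← Category.assoc, comp_conj, MonObj.comp_one,
      show toUnit (T0 k) ≫ g = g from
        (congrArg (· ≫ g) (toUnit_unique (toUnit (T0 k)) (𝟙 _))).trans (Category.id_comp g),
      _root_.mul_assoc, pt_orbitMap, pt_orbitMap, one_act',
      mul_act', h, inv_act_act]
  obtain ⟨b, hb⟩ :=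
    (Groth.Agent.H19Grp.QuotientDesc.comp_orbitMap_eq_iff a o iP hX _ _).1 hfac.symm
  rw [_root_.one_mul] at hb
  haveI : IsMonHom b :=
    { one_hom := by rw [← cancel_mono iP, Category.assoc, ← hb, IsMonHom.one_hom (iB ≫ conj g), IsMonHom.one_hom iP]
      mul_hom := by
        rw [← cancel_mono iP, Category.assoc, ← hb, IsMonHom.mul_hom (iB ≫ conj g), Category.assoc,
          IsMonHom.mul_hom iP, tensorHom_comp_tensorHom_assoc, ← hb] }
  exact ⟨B, gB, b, inferInstance, hb ▸ hB'⟩

/-- **Parabolic subgroups have proper quotient.** -/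
theorem isProper_quotient_of_le [ConnectedSpace G.left] {P : Over (Sk k)} [GrpObj P] (iP : P ⟶ G) [IsMonHom iP]
    [IsClosedImmersion iP.left] {X : Over (Sk k)} (a : AlgGrp.Action G X) (o : Pt X)
    (hX : AGF.IsQuotient iP X a o) {B : Over (Sk k)} [GrpObj B] (b : B ⟶ P) (hB : Red.IsBorelOver k (b ≫ iP)) :
    IsProper X.hom := by
  haveI : LocallyOfFiniteType G.hom := inferInstance
  haveI : QuasiCompact G.hom := inferInstance
  haveI : CompactSpace G.left := QuasiCompact.compactSpace_of_compactSpace G.hom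
  haveI := hX.1; haveI := hX.2.2.1
  haveI := hB.1; haveI := hB.2.1
  obtain ⟨Z, c, z, hZ, -, -⟩ := Groth.Agent.H19Quot.exists_isQuotient (b ≫ iP)
  haveI := isProper_of_isBorelOver (b ≫ iP) hB c z hZ
  haveI := hZ.1
  haveI := Groth.Agent.H19Grp.QuotientDesc.lfp_orbitMap c z
  obtain ⟨π, hπ, -⟩ := Groth.Agent.H19Grp.QuotientDesc.existsUnique_of_isQuotient c z (b ≫ iP) hZ (a.orbitMap o)
    fun T g h => ((Groth.Agent.H19Grp.QuotientDesc.comp_orbitMap_eq_iff a o iP hX g _).2
      ⟨h ≫ b, by rw [Category.assoc]⟩).symm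
  haveI : Surjective π.left := by
    haveI : Surjective ((c.orbitMap z).left ≫ π.left) := by rw [← Over.comp_left, hπ]; infer_instance
    exact Surjective.of_comp (c.orbitMap z).left π.left
  haveI : UniversallyClosed (π.left ≫ X.hom) := by rw [Over.w]; infer_instance
  haveI := UniversallyClosed.of_comp_surjective π.left X.hom
  haveI : IsSeparated X.hom := isSeparated_of_isQuotient iP a o hX
  exact {}

/-- A connected solvable subgroup containing a Borel subgroup is one. -/
theorem isBorelOver_of_le {H B : Over (Sk k)} [GrpObj H] [GrpObj B] (iH : H ⟶ G) [IsMonHom iH]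
    [IsClosedImmersion iH.left] [Smooth H.hom] [ConnectedSpace H.left] (hsol : Red.IsSolvableGrp H)
    (b : B ⟶ H) (hB : Red.IsBorelOver k (b ≫ iH)) : Red.IsBorelOver k iH := by
  refine ⟨inferInstance, inferInstance, inferInstance, inferInstance, hsol, ?_⟩
  intro B' _ i' _ f hci hsm hconn hsol' hf
  haveI h1 : IsIso b := hB.2.2.2.2.2 H iH b inferInstance inferInstance inferInstance hsol rfl
  haveI h2 : IsIso (b ≫ f) := hB.2.2.2.2.2 B' i' (b ≫ f) hci hsm hconn hsol' (by rw [Category.assoc, hf])
  exact IsIso.of_isIso_comp_left b f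

end H20Borel
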