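import Groth.Agent.H20Borel.BaseBorel
import Groth.Agent.H20Borel.Parabolic
import Groth.Agent.H19Grp.PointsSeries
import Groth.Agent.H19Grp.DominantHom
import Groth.Agent.H13Flat.SmoothDescent
import Groth.Agent.S3905

/-!
# Images of Borel subgroups under surjective homomorphisms
-/

set_option autoImplicit false
set_option linter.style.haveILetI false
set_option backward.isDefEq.respectTransparency false
set_option maxHeartbeats 1000000
set_option synthInstance.maxHeartbeats 100000

universe u

open CategoryTheory CategoryTheory.Limits MonoidalCategory CartesianMonoidalCategory MonObj AlgebraicGeometry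
open Groth.Agent.H27Witt H20Mu H20Conj

noncomputable section

namespace H20Borel

variable {k : Type u} [Field k]

theorem isMonHom_of_comp_mono {A B C : Over (Sk k)} [GrpObj A] [GrpObj B] [GrpObj C] (p : A ⟶ B) (i : B ⟶ C)
    [IsMonHom i] [Mono i] (h : IsMonHom (p ≫ i)) : IsMonHom p where
  one_hom := by rw [← cancel_mono i, Category.assoc, IsMonHom.one_hom i, IsMonHom.one_hom (p ≫ i)]
  mul_hom := by
    rw [← cancel_mono i, Category.assoc, Category.assoc, IsMonHom.mul_hom i, IsMonHom.mul_hom (p ≫ i),
      ← tensorHom_comp_tensorHom, Category.assoc]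

/-- **Over an algebraically closed field the image of a Borel subgroup is a Borel subgroup.** -/
theorem isBorelOver_image [IsAlgClosed k] {G Q B B' : Over (Sk k)} [GrpObj G] [IsAffine G.left] [Smooth G.hom]
    [ConnectedSpace G.left] [GrpObj Q] [IsAffine Q.left] [Smooth Q.hom] [ConnectedSpace Q.left]
    [GrpObj B] [GrpObj B'] (q : G ⟶ Q) [IsMonHom q] [Surjective q.left] (iB : B ⟶ G)
    (hB : Red.IsBorelOver k iB) (iB' : B' ⟶ Q) [IsMonHom iB'] [IsClosedImmersion iB'.left] [Smooth B'.hom]
    [ConnectedSpace B'.left] (p : B ⟶ B') [Flat p.left] [Surjective p.left] (hp : p ≫ iB' = iB ≫ q) :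
    Red.IsBorelOver k iB' := by
  haveI := hB.1; haveI := hB.2.1
  haveI : Mono iB' := Over.mono_of_mono_left _
  haveI : IsMonHom p := isMonHom_of_comp_mono p iB' (by rw [hp]; infer_instance)
  have hsol : Red.IsSolvableGrp B' := Groth.Agent.H19Grp.PointsSeries.isSolvableGrp_of_surjective p hB.2.2.2.2.1
  haveI : LocallyOfFiniteType G.hom := inferInstance
  haveI : LocallyOfFiniteType Q.hom := inferInstance
  haveI : QuasiCompact G.hom := inferInstance
  haveI : CompactSpace G.left := QuasiCompact.compactSpace_of_compactSpace G.hom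
  haveI : QuasiCompact Q.hom := inferInstance
  haveI : CompactSpace Q.left := QuasiCompact.compactSpace_of_compactSpace Q.hom
  obtain ⟨Z, c, z, hZ, -, -⟩ := Groth.Agent.H19Quot.exists_isQuotient iB
  obtain ⟨X, a, o, hX, -, hXsep⟩ := Groth.Agent.H19Quot.exists_isQuotient iB'
  haveI := isProper_of_isBorelOver iB hB c z hZ
  haveI := hZ.1; haveI := hX.1; haveI := hX.2.2.1; haveI := hXsep
  haveI := Groth.Agent.H19Grp.QuotientDesc.lfp_orbitMap c z
  obtain ⟨π, hπ, -⟩ := Groth.Agent.H19Grp.QuotientDesc.existsUnique_of_isQuotient c z iB hZ (q ≫ a.orbitMap o)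
    fun T g h => by
      rw [← Category.assoc, ← Category.assoc, MonObj.mul_comp]
      exact ((Groth.Agent.H19Grp.QuotientDesc.comp_orbitMap_eq_iff a o iB' hX (g ≫ q) _).2
        ⟨h ≫ p, by simp only [Category.assoc, hp]⟩).symm
  haveI : Surjective π.left := by
    haveI : Surjective ((c.orbitMap z).left ≫ π.left) := by
      rw [← Over.comp_left, hπ, Over.comp_left]; infer_instance
    exact Surjective.of_comp (c.orbitMap z).left π.left
  haveI : UniversallyClosed (π.left ≫ X.hom) := by rw [Over.w]; infer_instance
  haveI := UniversallyClosed.of_comp_surjective π.left X.hom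
  exact Groth.Agent.S3905.result k Q B' iB' inferInstance hsol X a o hX {}

/-- **The image of a Borel subgroup is a Borel subgroup.** -/
theorem isBorel_image {G Q B B' : Over (Sk k)} [GrpObj G] [IsAffine G.left] [Smooth G.hom] [ConnectedSpace G.left]
    [GrpObj Q] [IsAffine Q.left] [Smooth Q.hom] [ConnectedSpace Q.left] [GrpObj B] [GrpObj B']
    (q : G ⟶ Q) [IsMonHom q] [Surjective q.left] (iB : B ⟶ G) (hB : Red.IsBorel iB) (iB' : B' ⟶ Q) [IsMonHom iB']
    [IsClosedImmersion iB'.left] [IsReduced B'.left] (p : B ⟶ B') [Surjective p.left] (hp : p ≫ iB' = iB ≫ q) :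
    Red.IsBorel iB' := by
  obtain ⟨hm, hci, hsm, hgeo⟩ := hB
  replace hgeo := PLift.up hgeo
  haveI := hm; haveI := hci; haveI := hsm
  haveI : Mono iB' := Over.mono_of_mono_left _
  haveI : IsAffine B.left := isAffine_of_isAffineHom iB.left
  haveI : IsAffine B'.left := isAffine_of_isAffineHom iB'.left
  haveI : IsMonHom p := isMonHom_of_comp_mono p iB' (by rw [hp]; infer_instance)
  haveI : Flat p.left := Groth.Agent.H19Grp.flat_of_dense_hom p p.left.surjective.denseRange
  haveI : LocallyOfFiniteType B'.hom := by rw [← Over.w iB']; infer_instance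
  haveI : IsLocallyNoetherian B'.left := LocallyOfFiniteType.isLocallyNoetherian B'.hom
  haveI : LocallyOfFiniteType (p.left ≫ B'.hom) := by rw [Over.w]; infer_instance
  haveI : LocallyOfFiniteType p.left := locallyOfFiniteType_of_comp p.left B'.hom
  haveI : Smooth B'.hom := Groth.Agent.H13Flat.smooth_of_fppf_covering B'.hom fun x =>
    ⟨B.left, p.left, inferInstance, inferInstance, p.left.surjective x, by rw [Over.w]; infer_instance⟩
  refine ⟨inferInstance, inferInstance, inferInstance, fun s => ?_⟩
  set z := Red.geomPt s with hz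
  let F := Over.pullback z
  haveI := isAffine_bc z G; haveI := isAffine_bc z Q
  haveI := smooth_bc z G; haveI := smooth_bc z Q; haveI := smooth_bc z B'
  haveI := connected_bc z G; haveI := connected_bc z Q
  haveI : Surjective (F.map q).left := MorphismProperty.overPullbackMap z q inferInstance
  haveI : Surjective (F.map p).left := MorphismProperty.overPullbackMap z p inferInstance
  haveI : Flat (F.map p).left := MorphismProperty.overPullbackMap z p inferInstance
  haveI : IsClosedImmersion (F.map iB').left := MorphismProperty.overPullbackMap z iB' inferInstance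
  haveI := (hgeo.down s).2.2.2.1
  haveI : ConnectedSpace (F.obj B').left := (F.map p).left.surjective.connectedSpace (F.map p).left.continuous
  exact isBorelOver_image (F.map q) (F.map iB) (hgeo.down s) (F.map iB') (F.map p) (by
    rw [← Functor.map_comp, hp, Functor.map_comp])

end H20Borel
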