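import Groth.Agent.H20Borel.CartanBorel
import Groth.Agent.H20Borel.Image
import Groth.Agent.H20Borel.Parabolic

/-!
# Borel subgroups through commuting elements; Borel subgroups and surjective homomorphisms
-/

set_option autoImplicit false
set_option linter.style.haveILetI false
set_option backward.isDefEq.respectTransparency false
set_option maxHeartbeats 1000000
set_option synthInstance.maxHeartbeats 100000

universe u

open CategoryTheory CategoryTheory.Limits MonoidalCategory CartesianMonoidalCategory MonObj AlgebraicGeometry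
open Groth.Agent.H27Witt H20Mu H20Conj

noncomputable section

namespace H20Borel

variable {k : Type u} [Field k] [IsAlgClosed k]
variable {G : Over (Sk k)} [GrpObj G] [IsAffine G.left] [Smooth G.hom] [ConnectedSpace G.left]

local notation "Pt" X => 𝟙_ (Over (Sk k)) ⟶ X

/-- **A torus and a point commuting with it lie in a common Borel subgroup.** -/
theorem exists_borel_torus_pt {S : Over (Sk k)} [GrpObj S] (iS : S ⟶ G) [IsMonHom iS] [Mono iS]
    (hS : Red.IsTorus S) (c : Pt G)
    (hc : ∀ (X : Over (Sk k)) (s : X ⟶ S), (toUnit X ≫ c) * (s ≫ iS) = (s ≫ iS) * (toUnit X ≫ c)) :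
    ∃ (B : Over (Sk k)) (_ : GrpObj B) (iB : B ⟶ G) (_ : Red.IsBorelOver k iB) (t : S ⟶ B) (b : Pt B),
      t ≫ iB = iS ∧ b ≫ iB = c := by
  haveI : LocallyOfFiniteType G.hom := inferInstance
  haveI : LocallyOfFinitePresentation G.hom := inferInstance
  haveI : QuasiCompact G.hom := inferInstance
  haveI : QuasiSeparated G.hom := inferInstance
  obtain ⟨hSa, hSs, -⟩ := torus_props S hS
  haveI := hSa; haveI := hSs
  haveI : LocallyOfFiniteType S.hom := inferInstance
  haveI : AlgebraicGeometry.IsReduced S.left := Groth.Agent.H13AlgSp.isReduced_of_smooth_mor S.hom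
  haveI := isClosedImmersion_torus iS hS
  obtain ⟨Z, gZ, z, hz, hzci, hZs⟩ := (Groth.Agent.S3006.result (Sk k) G S iS inferInstance hS).1
  letI := gZ; haveI := hz.1; haveI := hzci; haveI := hZs
  haveI : ConnectedSpace Z.left := Groth.Agent.S3908.result k G S iS hS Z z hz
  haveI : IsAffine Z.left := isAffine_of_isAffineHom z.left
  haveI : Mono z := Over.mono_of_mono_left _
  obtain ⟨c', hc'⟩ := (hz.2.2 _ c).mpr fun X x h => by
    rw [toUnit_unique x (toUnit X)]
    exact hc X h
  obtain ⟨sZ, hsZ⟩ := (hz.2.2 S iS).mpr fun X x h => by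
    obtain ⟨r, e, co, -, -, -, hcomm⟩ := exists_cochars S hS
    rw [← MonObj.mul_comp, ← MonObj.mul_comp, hcomm]
  -- a Borel subgroup of the centralizer through `c`
  obtain ⟨D₀, gD, d₀, hD₀⟩ := exists_isBorelOver (G := Z)
  letI := gD
  obtain ⟨y, β, hy⟩ := exists_conj_mem d₀ hD₀ c'
  haveI := isIso_conj (y⁻¹)
  have hD : Red.IsBorelOver k (d₀ ≫ conj y⁻¹) := isBorelOver_comp_iso hD₀ (conj y⁻¹)
  haveI := hD.1; haveI := hD.2.1; haveI := hD.2.2.1; haveI := hD.2.2.2.1
  haveI : IsAffine D₀.left := isAffine_of_isAffineHom (d₀ ≫ conj y⁻¹).left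
  obtain ⟨sD, hsD⟩ := exists_factor_of_central (d₀ ≫ conj y⁻¹) hD sZ fun W x h => (cancel_mono z).mp (by
    rw [MonObj.mul_comp, MonObj.mul_comp, Category.assoc, hsZ]
    have e := (hz.2.2 W (h ≫ z)).mp ⟨h, rfl⟩ W (𝟙 W) x
    rw [Category.id_comp] at e
    exact e.symm)
  -- enlarge it in `G`
  haveI : IsClosedImmersion ((d₀ ≫ conj y⁻¹) ≫ z).left := by rw [Over.comp_left]; infer_instance
  obtain ⟨n, hn⟩ := hD.2.2.2.2.1
  haveI : Group.IsSolvable (Pt D₀) := ⟨n, hn _⟩
  haveI : Group.IsSolvable (postHom ((d₀ ≫ conj y⁻¹) ≫ z)).range :=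
    Group.isSolvable_of_surjective (postHom ((d₀ ≫ conj y⁻¹) ≫ z)).rangeRestrict_surjective
  have hclo : ∀ x ∈ clo (postHom ((d₀ ≫ conj y⁻¹) ≫ z)).range, x ∈ (postHom ((d₀ ≫ conj y⁻¹) ≫ z)).range :=
    fun x hx => clo_range_le ((d₀ ≫ conj y⁻¹) ≫ z) hx
  obtain ⟨B, gB, iB, hB, hpts⟩ := exists_isBorelOver_ge (postHom ((d₀ ≫ conj y⁻¹) ≫ z)).range (isPrime_range _)
    (Group.isSolvable_of_isSolvable_injective (f := Subgroup.inclusion hclo) (Subgroup.inclusion_injective _))
  letI := gB
  haveI := hB.2.1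
  obtain ⟨t, ht⟩ := exists_factor_pts iB iS fun s => hpts (s ≫ iS) ⟨s ≫ sD, by
    show (s ≫ sD) ≫ (d₀ ≫ conj y⁻¹) ≫ z = s ≫ iS
    rw [Category.assoc, ← Category.assoc sD, hsD, hsZ]⟩
  obtain ⟨b, hb⟩ := hpts c ⟨β, by
    show β ≫ (d₀ ≫ conj y⁻¹) ≫ z = c
    rw [← hc', ← Category.assoc]
    congr 1
    rw [← Category.assoc, comp_conj, toUnit_unique (toUnit _) (𝟙 _), Category.id_comp, _root_.inv_inv, hy]⟩
  exact ⟨B, gB, iB, hB, t, b, ht, hb⟩

omit [IsAlgClosed k] [GrpObj G] [IsAffine G.left] [Smooth G.hom] [ConnectedSpace G.left] in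
/-- Injective on functions implies dominant. -/
theorem denseRange_of_injective_pull {X Y : Over (Sk k)} [IsAffine X.left] [IsAffine Y.left] (f : X ⟶ Y)
    (hf : Function.Injective (Fn.pull f)) : DenseRange f.left.base := by
  rw [denseRange_iff_closure_range]
  by_contra hne
  obtain ⟨y, hy⟩ := (Set.ne_univ_iff_exists_notMem _).mp hne
  obtain ⟨s, hs, hys⟩ := (isAffineOpen_top Y.left).exists_basicOpen_le
    (V := ⟨(closure (Set.range f.left.base))ᶜ, isClosed_closure.isOpen_compl⟩) ⟨y, hy⟩ trivial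
  have h0 : f.left ⁻¹ᵁ Y.left.basicOpen s = ⊥ := by
    refine TopologicalSpace.Opens.ext (Set.eq_empty_iff_forall_notMem.mpr fun x hx => ?_)
    exact (hs hx : f.left x ∈ (closure (Set.range f.left.base))ᶜ) (subset_closure ⟨x, rfl⟩)
  rw [Scheme.preimage_basicOpen] at h0
  obtain ⟨n, hn⟩ := (Scheme.isNilpotent_iff_basicOpen_eq_bot (X := X.left) ((f.left.app ⊤) s)).mpr h0
  have hs0 : s ^ n = 0 := hf (a₁ := (s ^ n : Fn Y)) (a₂ := 0) (by
    rw [map_zero]
    show (f.left.app ⊤) (s ^ n) = 0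
    rw [map_pow]; exact hn)
  rcases Nat.eq_zero_or_pos n with rfl | hpos
  · rw [pow_zero] at hs0
    rw [show s = 0 by rw [← _root_.mul_one s, hs0, mul_zero], Scheme.basicOpen_zero] at hys
    exact hys
  · rw [← Scheme.basicOpen_pow _ _ hpos, hs0, Scheme.basicOpen_zero] at hys
    exact hys

/-- **A homomorphism of a Borel subgroup into a Borel subgroup over a surjective homomorphism is surjective.** -/
theorem surjective_borel_map {G' : Over (Sk k)} [GrpObj G'] [IsAffine G'.left] [Smooth G'.hom]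
    [ConnectedSpace G'.left] (φ : G ⟶ G') [IsMonHom φ] [Surjective φ.left] {B B' : Over (Sk k)} [GrpObj B]
    [GrpObj B'] (i : B ⟶ G) (hi : Red.IsBorelOver k i) (i' : B' ⟶ G') (hi' : Red.IsBorelOver k i') (f : B ⟶ B')
    (hf : f ≫ i' = i ≫ φ) : Surjective f.left := by
  obtain ⟨hm, hci, hsm, hconn, hsol, hmax⟩ := hi
  replace hmax := PLift.up hmax
  obtain ⟨hm', hci', hsm', hconn', hsol', -⟩ := id hi'
  haveI := hm; haveI := hci; haveI := hsm; haveI := hconn; haveI := hm'; haveI := hci'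
  haveI : IsAffine B.left := isAffine_of_isAffineHom i.left
  haveI : IsAffine B'.left := isAffine_of_isAffineHom i'.left
  haveI : LocallyOfFiniteType B.hom := inferInstance
  haveI : AlgebraicGeometry.IsReduced B.left := Groth.Agent.H13AlgSp.isReduced_of_smooth_mor B.hom
  haveI : Mono i' := Over.mono_of_mono_left _
  let R := (postHom (i ≫ φ)).range
  have hle : ∀ g ∈ clo R, g ∈ (postHom i').range := fun g hg => clo_range_le i' fun a ha =>
    hg a (mem_vanish.mpr fun x hx => mem_vanish.mp ha x (by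
      obtain ⟨b, rfl⟩ := hx
      exact ⟨b ≫ f, by show (b ≫ f) ≫ i' = b ≫ i ≫ φ; rw [Category.assoc, hf]⟩))
  obtain ⟨n, hn⟩ := hsol'
  haveI : Group.IsSolvable (Pt B') := ⟨n, hn _⟩
  haveI : Group.IsSolvable (postHom i').range := Group.isSolvable_of_surjective (postHom i').rangeRestrict_surjective
  have hsR : Group.IsSolvable (clo R) :=
    Group.isSolvable_of_isSolvable_injective (f := Subgroup.inclusion hle) (Subgroup.inclusion_injective _)
  obtain ⟨H, gH, j, hj, hjc, hHa, hHs, hHc, hHsol, hHpts, hlift⟩ :=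
    exists_subgroup_scheme R (isPrime_range (i ≫ φ)) hsR
  letI := gH; haveI := hj; haveI := hjc; haveI := hHa; haveI := hHs; haveI := hHc
  haveI : Mono j := Over.mono_of_mono_left _
  obtain ⟨p, hp⟩ := hlift (i ≫ φ) fun y a ha => mem_vanish.mp ha _ ⟨y, rfl⟩
  haveI : IsMonHom p := isMonHom_of_comp_mono p j (by rw [hp]; infer_instance)
  have hinj : Function.Injective (Fn.pull p) := by
    refine (injective_iff_map_eq_zero _).mpr fun a ha => Fn.ext_points fun h => ?_
    obtain ⟨r, rfl⟩ := (IsClosedImmersion.isAffine_surjective_of_isAffine j.left).2 a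
    show val h (Fn.pull j r) = val h 0
    rw [val_pull, map_zero]
    refine mem_clo.mp (hHpts h) r (mem_vanish.mpr ?_)
    rintro _ ⟨b, rfl⟩
    show val (b ≫ i ≫ φ) r = 0
    rw [← hp, ← Category.assoc, ← val_pull, ← val_pull, show Fn.pull p (Fn.pull j r) = 0 from ha, map_zero]
  haveI : QuasiCompact p.left := inferInstance
  haveI : Surjective p.left := Groth.Agent.H19Grp.surjective_of_dense_hom p (denseRange_of_injective_pull p hinj)
  haveI : AlgebraicGeometry.IsReduced H.left := Groth.Agent.H13AlgSp.isReduced_of_smooth_mor H.hom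
  haveI : Flat p.left := Groth.Agent.H19Grp.flat_of_dense_hom p (denseRange_of_injective_pull p hinj)
  have hH : Red.IsBorelOver k j := isBorelOver_image φ i ⟨hm, hci, hsm, hconn, hsol, hmax.down⟩ j p hp
  obtain ⟨e, he⟩ : ∃ e : H ⟶ B', e ≫ i' = j := exists_factor_pts i' j fun h => hle _ (hHpts h)
  haveI : IsIso e := hH.2.2.2.2.2 B' i' e hci' hsm' hconn' ⟨n, hn⟩ he
  have hpe : p ≫ e = f := (cancel_mono i').mp (by rw [Category.assoc, he, hp, hf])
  rw [← hpe, Over.comp_left]
  haveI : IsIso e.left := inferInstanceAs (IsIso ((Over.forget _).map e))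
  infer_instance

end H20Borel
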