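import Groth.Agent.H20Borel.CharScheme
import Groth.Agent.H20Borel.BorelLemmas
import Groth.Agent.H19Borel.Basic

/-!
# Characters of Cartan subgroups

* `char_eq_one_of_maxTorus`: a character trivial on a maximal torus is trivial.
* `exists_factor_maxTorus_of_central`: central diagonalisable homomorphisms land in every maximal torus.
* `isMaxTorus_image`: images of maximal tori are maximal tori.
-/

set_option autoImplicit false
set_option linter.style.haveILetI false
set_option backward.isDefEq.respectTransparency false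
set_option maxHeartbeats 800000
set_option synthInstance.maxHeartbeats 200000

universe u

open CategoryTheory CategoryTheory.Limits MonoidalCategory CartesianMonoidalCategory MonObj AlgebraicGeometry
open Groth.Agent.H27Witt H20Mu H20Conj

noncomputable section

namespace H20Borel

variable {k : Type u} [Field k]

local notation "Pt" X => 𝟙_ (Over (Sk k)) ⟶ X
local notation "𝔾ₘ" => Red.Gm (Sk k)

/-- A maximal torus of a group is one of every subgroup containing it. -/
theorem isMaxTorus_of_comp_mono {T L G : Over (Sk k)} [GrpObj T] [GrpObj L] [GrpObj G] (v : T ⟶ L) (l : L ⟶ G)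
    [IsMonHom l] [Mono l] (h : AGF.IsMaxTorus (v ≫ l)) : AGF.IsMaxTorus v := by
  obtain ⟨hm, hmo, hT, hmax⟩ := h
  replace hmax := PLift.up hmax
  haveI := hm; haveI := hmo
  refine ⟨isMonHom_of_comp_mono v l hm, mono_of_mono v l, hT, fun Z _ j _ _ f hZ hf =>
    hmax.down Z (j ≫ l) f hZ (by rw [← Category.assoc, hf])⟩

/-- Maximal tori are transported by automorphisms. -/
theorem isMaxTorus_comp_iso {T G G' : Over (Sk k)} [GrpObj T] [GrpObj G] [GrpObj G'] {v : T ⟶ G}
    (h : AGF.IsMaxTorus v) (e : G ⟶ G') [IsMonHom e] [IsIso e] : AGF.IsMaxTorus (v ≫ e) := by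
  obtain ⟨hm, hmo, hT, hmax⟩ := h
  replace hmax := PLift.up hmax
  haveI := hm; haveI := hmo
  haveI : IsMonHom (inv e) := isMonHom_iso_inv (asIso e)
  exact ⟨inferInstance, inferInstance, hT, fun Z _ j _ _ f hZ hf =>
    hmax.down Z (j ≫ inv e) f hZ (by rw [← Category.assoc, hf, Category.assoc, IsIso.hom_inv_id, Category.comp_id])⟩

/-- Conjugation commutes with homomorphisms. -/
theorem conj_comp_hom' {H G : Over (Sk k)} [GrpObj H] [GrpObj G] (i : H ⟶ G) [IsMonHom i] (a : Pt H) :
    conj a ≫ i = i ≫ conj (a ≫ i) := by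
  rw [comp_conj, conj, MonObj.mul_comp, MonObj.mul_comp, GrpObj.inv_comp, Category.id_comp, Category.assoc]

/-- Being a torus is invariant under isomorphism. -/
theorem isTorus_of_iso' {A B : Over (Sk k)} [GrpObj A] [GrpObj B] (w : A ⟶ B) [IsMonHom w] [IsIso w]
    (h : Red.IsTorus B) : Red.IsTorus A := by
  obtain ⟨S', f, hf, hs, hq, hsplit⟩ := h
  refine ⟨S', f, hf, hs, hq, fun s => ?_⟩
  obtain ⟨U, hU, r, ⟨e⟩⟩ := hsplit s
  exact ⟨U, hU, r, ⟨Groth.Agent.H21Diag.bcMapIso _ (Grp.mkIso' (asIso w)) ≪≫ e⟩⟩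

/-- A torus is commutative. -/
theorem torus_comm [IsAlgClosed k] {T : Over (Sk k)} [GrpObj T] (hT : Red.IsTorus T) {X : Over (Sk k)} (a b : X ⟶ T) :
    a * b = b * a := by
  obtain ⟨r, e, co, -, -, -, hcomm⟩ := exists_cochars T hT
  exact hcomm a b

variable [IsAlgClosed k]

/-- **Maximality on one-parameter subgroups.** -/
theorem hmax_of_isMaxTorus {G T : Over (Sk k)} [GrpObj G] [GrpObj T] [IsAffine G.left] [LocallyOfFiniteType G.hom]
    {iT : T ⟶ G} (hT : AGF.IsMaxTorus iT) (d : 𝔾ₘ ⟶ G) [IsMonHom d]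
    (hd : ∀ (u : Pt 𝔾ₘ) (t : Pt T), Commute (u ≫ d) (t ≫ iT)) (u : Pt 𝔾ₘ) : ∃ t : Pt T, t ≫ iT = u ≫ d := by
  obtain ⟨hm, hmo, hT', hmax⟩ := hT
  replace hmax := PLift.up hmax
  haveI := hm; haveI := hmo
  obtain ⟨hTa, hTs, -⟩ := torus_props T hT'
  haveI := hTa; haveI := hTs
  haveI : LocallyOfFiniteType T.hom := inferInstance
  haveI : AlgebraicGeometry.IsReduced T.left := Groth.Agent.H13AlgSp.isReduced_of_smooth_mor T.hom
  obtain ⟨r, e, co, he, -, hprod, hcomm⟩ := exists_cochars T hT'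
  let c : Fin (r + 1) → (𝔾ₘ ⟶ G) := Fin.cons d fun i => e i ≫ iT
  haveI : ∀ i, IsMonHom (c i) := fun i => by
    refine Fin.cases ?_ (fun i => ?_) i
    · assumption
    · haveI := he i
      simp only [c, Fin.cons_succ]
      infer_instance
  have hc : ∀ i j, ∀ s t : Pt 𝔾ₘ, Commute (s ≫ c i) (t ≫ c j) := by
    intro i j s t
    refine Fin.cases ?_ (fun i => ?_) i <;> refine Fin.cases ?_ (fun j => ?_) j <;>
      simp only [c, Fin.cons_zero, Fin.cons_succ, ← Category.assoc]
    · show _ * _ = _ * _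
      rw [← MonObj.mul_comp, ← MonObj.mul_comp, gm_comm]
    · exact hd s (t ≫ e j)
    · exact (hd t (s ≫ e i)).symm
    · show _ * _ = _ * _
      rw [← MonObj.mul_comp, ← MonObj.mul_comp, hcomm]
  obtain ⟨Q, gQ, j, hj, hjm, hQ, hfac⟩ := exists_torus c hc
  letI := gQ; haveI := hj; haveI := hjm
  haveI := isClosedImmersion_torus j hQ
  have hR : ∀ t : Pt T, ∃ z : Pt Q, z ≫ j = t ≫ iT := fun t => by
    have h := comp_mem_of_cochars iT e co hprod (postHom j).range (fun i s => by
      obtain ⟨q, hq⟩ := hfac i.succ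
      exact ⟨s ≫ q, by
        show (s ≫ q) ≫ j = (s ≫ e i) ≫ iT
        rw [Category.assoc, hq, Category.assoc]; simp only [c, Fin.cons_succ]⟩) t
    exact h
  obtain ⟨f, hf⟩ := exists_factor_pts j iT hR
  haveI := hmax.down Q j f hQ hf
  obtain ⟨d₀, hd₀⟩ := hfac 0
  exact ⟨u ≫ d₀ ≫ inv f, by
    rw [Category.assoc, Category.assoc, show inv f ≫ iT = j by rw [IsIso.inv_comp_eq, hf], hd₀]; rfl⟩

/-- The basic properties of the centralizer of a torus. -/
theorem centralizer_props {G T C : Over (Sk k)} [GrpObj G] [GrpObj T] [GrpObj C] [IsAffine G.left] [Smooth G.hom]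
    [ConnectedSpace G.left] (iT : T ⟶ G) [IsMonHom iT] [Mono iT] (hT : Red.IsTorus T) (c : C ⟶ G)
    (hc : Red.IsCentralizerOf iT c) :
    IsClosedImmersion c.left ∧ Smooth C.hom ∧ IsAffine C.left ∧ ConnectedSpace C.left := by
  haveI : LocallyOfFiniteType G.hom := inferInstance
  haveI : LocallyOfFinitePresentation G.hom := inferInstance
  haveI : QuasiCompact G.hom := inferInstance
  haveI : QuasiSeparated G.hom := inferInstance
  haveI := isClosedImmersion_torus iT hT
  obtain ⟨Z, gZ, z, hz, hzci, hZs⟩ := (Groth.Agent.S3006.result (Sk k) G T iT inferInstance hT).1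
  letI := gZ; haveI := hzci; haveI := hZs
  haveI := hz.2.1; haveI := hc.2.1
  obtain ⟨f, hf⟩ := (hz.2.2 C c).mpr fun X x h => (hc.2.2 C c).mp ⟨𝟙 C, Category.id_comp _⟩ X x h
  obtain ⟨g, hg⟩ := (hc.2.2 Z z).mpr fun X x h => (hz.2.2 Z z).mp ⟨𝟙 Z, Category.id_comp _⟩ X x h
  haveI : IsIso f := ⟨g, (cancel_mono c).mp (by rw [Category.assoc, hg, hf, Category.id_comp]),
    (cancel_mono z).mp (by rw [Category.assoc, hf, hg, Category.id_comp])⟩
  haveI : IsIso f.left := inferInstanceAs (IsIso ((Over.forget _).map f))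
  have hci : IsClosedImmersion c.left := by
    rw [← hf, Over.comp_left]
    infer_instance
  haveI := hci
  refine ⟨hci, ?_, isAffine_of_isAffineHom c.left, Groth.Agent.S3908.result k G T iT hT C c hc⟩
  rw [← Over.w f]
  infer_instance

section Char

variable {B T : Over (Sk k)} [GrpObj B] [GrpObj T] [IsAffine B.left] [Smooth B.hom] [ConnectedSpace B.left]

/-- **A character trivial on a maximal torus is trivial.** -/
theorem char_eq_one_of_maxTorus {iT : T ⟶ B} (hT : AGF.IsMaxTorus iT) (χ : B ⟶ 𝔾ₘ) [IsMonHom χ]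
    (h : iT ≫ χ = 1) : χ = 1 := by
  refine char_eq_one_of_cochar χ fun d hd => ?_
  haveI := hd
  obtain ⟨g, hg⟩ := exists_conj_factor hT (fun _ : Fin 1 => d) fun _ _ s t => by
    show _ * _ = _ * _
    rw [← MonObj.mul_comp, ← MonObj.mul_comp, gm_comm]
  obtain ⟨d', hd'⟩ := hg 0
  have h1 : AGF.conjBy g d ≫ χ = d ≫ χ := by
    rw [AGF.conjBy]
    generalize toUnit _ ≫ g = a
    have key : ∀ {P : Over (Sk k)} (x y : P ⟶ B), (x * y) ≫ χ = (y * x) ≫ χ := fun x y =>
      (MonObj.mul_comp x y χ).trans ((gm_comm _ _).trans (MonObj.mul_comp y x χ).symm)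
    rw [key, inv_mul_cancel_left]
  rw [← h1, ← hd', Category.assoc, h, MonObj.comp_one]

end Char

section Central

variable {G T : Over (Sk k)} [GrpObj G] [GrpObj T] [IsAffine G.left] [Smooth G.hom] [ConnectedSpace G.left]

/-- The rational points of a Cartan subgroup form a solvable group. -/
theorem isSolvable_cartan {iT : T ⟶ G} (hT : AGF.IsMaxTorus iT) {C : Over (Sk k)} [GrpObj C] (c : C ⟶ G)
    (hc : Red.IsCentralizerOf iT c) : Group.IsSolvable (Pt C) := by
  haveI := hT.1; haveI := hT.2.1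
  obtain ⟨hci, hCs, hCa, hCc⟩ := centralizer_props iT hT.2.2.1 c hc
  haveI := hci; haveI := hCs; haveI := hCa; haveI := hCc; haveI := hc.1; haveI := hc.2.1
  haveI : LocallyOfFiniteType G.hom := inferInstance
  haveI := isSolvable_centralizer iT hT.2.2.1 (fun d hd => by haveI := hd; exact hmax_of_isMaxTorus hT d) c hc
  exact Group.isSolvable_of_isSolvable_injective (f := (postHom c).rangeRestrict) fun a b hab =>
    (cancel_mono c).mp (congrArg Subtype.val hab)

/-- **Characters of a Cartan subgroup are detected on the torus.** -/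
theorem char_eq_one_of_centralizer {iT : T ⟶ G} (hT : AGF.IsMaxTorus iT) {C : Over (Sk k)} [GrpObj C] (c : C ⟶ G)
    (hc : Red.IsCentralizerOf iT c) (tC : T ⟶ C) (htC : tC ≫ c = iT) (χ : C ⟶ 𝔾ₘ) [IsMonHom χ]
    (h : tC ≫ χ = 1) : χ = 1 := by
  haveI := hT.1; haveI := hT.2.1
  obtain ⟨hci, hCs, hCa, hCc⟩ := centralizer_props iT hT.2.2.1 c hc
  haveI := hci; haveI := hCs; haveI := hCa; haveI := hCc; haveI := hc.1; haveI := hc.2.1
  exact char_eq_one_of_maxTorus (isMaxTorus_of_comp_mono tC c (htC.symm ▸ hT)) χ h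

omit [IsAffine G.left] [Smooth G.hom] [ConnectedSpace G.left] in
/-- The torus is contained in its centralizer. -/
theorem exists_torus_to_centralizer {iT : T ⟶ G} [IsMonHom iT] (hT : Red.IsTorus T) {C : Over (Sk k)} [GrpObj C]
    (c : C ⟶ G) (hc : Red.IsCentralizerOf iT c) : ∃ tC : T ⟶ C, tC ≫ c = iT :=
  (hc.2.2 T iT).mpr fun X x h => by rw [← MonObj.mul_comp, ← MonObj.mul_comp, torus_comm hT]

/-- **A central homomorphism from a diagonalisable group lands in every maximal torus.** -/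
theorem exists_factor_maxTorus_of_central {iT : T ⟶ G} (hT : AGF.IsMaxTorus iT) {H : Over (Sk k)} [GrpObj H]
    (hH : IsDiagGrp H) (u : H ⟶ G) [IsMonHom u]
    (hu : ∀ (W : Over (Sk k)) (x : W ⟶ H) (g : W ⟶ G), (x ≫ u) * g = g * (x ≫ u)) :
    ∃ v : H ⟶ T, v ≫ iT = u := by
  haveI := hT.1; haveI := hT.2.1
  obtain ⟨hTa, hTs, -⟩ := torus_props T hT.2.2.1
  haveI := hTa; haveI := hTs
  obtain ⟨Cc, gC, c, hc, hcci, hCs⟩ : ∃ (C : Over (Sk k)) (_ : GrpObj C) (c : C ⟶ G),
      Red.IsCentralizerOf iT c ∧ IsClosedImmersion c.left ∧ Smooth C.hom := by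
    haveI : LocallyOfFiniteType G.hom := inferInstance
    haveI : LocallyOfFinitePresentation G.hom := inferInstance
    haveI : QuasiCompact G.hom := inferInstance
    haveI : QuasiSeparated G.hom := inferInstance
    haveI := isClosedImmersion_torus iT hT.2.2.1
    exact (Groth.Agent.S3006.result (Sk k) G T iT inferInstance hT.2.2.1).1
  letI := gC
  obtain ⟨hci, hCs', hCa, hCc⟩ := centralizer_props iT hT.2.2.1 c hc
  haveI := hci; haveI := hCs'; haveI := hCa; haveI := hCc; haveI := hc.1; haveI := hc.2.1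
  obtain ⟨tC, htC⟩ := exists_torus_to_centralizer hT.2.2.1 c hc
  haveI : IsMonHom tC := isMonHom_of_comp_mono tC c (htC.symm ▸ hT.1)
  haveI : Mono (tC ≫ c) := htC.symm ▸ hT.2.1
  haveI : Mono tC := mono_of_mono tC c
  haveI : LocallyOfFiniteType Cc.hom := inferInstance
  haveI := isClosedImmersion_torus tC hT.2.2.1
  obtain ⟨uC, huC⟩ := (hc.2.2 H u).mpr fun X x h => hu X x (h ≫ iT)
  haveI : IsMonHom uC := isMonHom_of_comp_mono uC c (huC.symm ▸ ‹IsMonHom u›)
  obtain ⟨v, hv⟩ := exists_factor_diag (isSolvable_cartan hT c hc) (isDiagGrp_of_isTorus hT.2.2.1) hH tC tC (𝟙 T)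
    (Category.id_comp _) uC (fun W x y => (cancel_mono c).mp (by
      rw [MonObj.mul_comp, MonObj.mul_comp, Category.assoc, Category.assoc, htC, huC]
      exact (hu W y (x ≫ iT)).symm))
    (fun χ hχ h => by haveI := hχ; exact char_eq_one_of_centralizer hT c hc tC htC χ h)
  exact ⟨v, by rw [← htC, ← Category.assoc, hv, huC]⟩

end Central

section Image

variable {G Q : Over (Sk k)} [GrpObj G] [IsAffine G.left] [Smooth G.hom] [ConnectedSpace G.left]
  [GrpObj Q] [IsAffine Q.left] [Smooth Q.hom] [ConnectedSpace Q.left]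

set_option maxHeartbeats 1600000 in
/-- **The image of a maximal torus is a maximal torus.** -/
theorem isMaxTorus_image (q : G ⟶ Q) [IsMonHom q] [Surjective q.left] {T T' : Over (Sk k)} [GrpObj T] [GrpObj T']
    {iT : T ⟶ G} (hT : AGF.IsMaxTorus iT) (iT' : T' ⟶ Q) [IsMonHom iT'] [IsClosedImmersion iT'.left]
    [AlgebraicGeometry.IsReduced T'.left] (p : T ⟶ T') [Surjective p.left] (hp : p ≫ iT' = iT ≫ q) :
    AGF.IsMaxTorus iT' := by
  haveI := hT.1; haveI := hT.2.1
  obtain ⟨hTa, hTs, hTc⟩ := torus_props T hT.2.2.1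
  haveI := hTa; haveI := hTs; haveI := hTc
  haveI : LocallyOfFiniteType T.hom := inferInstance
  haveI : QuasiCompact T.hom := inferInstance
  haveI : CompactSpace T.left := QuasiCompact.compactSpace_of_compactSpace T.hom
  haveI : LocallyOfFiniteType Q.hom := inferInstance
  haveI : LocallyOfFiniteType T'.hom := by rw [← Over.w iT']; infer_instance
  haveI : IsAffine T'.left := isAffine_of_isAffineHom iT'.left
  haveI : Mono iT' := Over.mono_of_mono_left _
  haveI : IsMonHom p := isMonHom_of_comp_mono p iT' (hp.symm ▸ (inferInstance : IsMonHom (iT ≫ q)))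
  -- a Borel subgroup through the torus and its image
  obtain ⟨B, gB, iB, hB, t, -, ht, -⟩ := exists_borel_torus_pt iT hT.2.2.1 (1 : Pt G) fun X s => by
    rw [MonObj.comp_one, _root_.one_mul, _root_.mul_one]
  letI := gB
  obtain ⟨hBm, hBci, hBs, hBc, hBsol, -⟩ := id hB
  haveI := hBm; haveI := hBci; haveI := hBs; haveI := hBc
  haveI : IsAffine B.left := isAffine_of_isAffineHom iB.left
  haveI : Mono iB := Over.mono_of_mono_left _
  have htmax : AGF.IsMaxTorus t := isMaxTorus_of_comp_mono t iB (ht.symm ▸ hT)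
  haveI := htmax.1
  obtain ⟨B', gB', iB', qB, hB', hqB, -, hqs, -, hqc⟩ := Groth.Agent.H19Borel.exists_borel_image q iB hB
  letI := gB'; haveI := hqB; haveI := hqs
  obtain ⟨hB'm, hB'ci, hB's, hB'c, hB'sol, -⟩ := id hB'
  haveI := hB'm; haveI := hB'ci; haveI := hB's; haveI := hB'c
  haveI : IsAffine B'.left := isAffine_of_isAffineHom iB'.left
  haveI : LocallyOfFiniteType B'.hom := inferInstance
  haveI : Mono iB' := Over.mono_of_mono_left _
  let i : T ⟶ B' := t ≫ qB
  have hi : i ≫ iB' = iT ≫ q := by simp only [i, Category.assoc, hqc, ← ht]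
  -- the torus `S` of `B'`
  obtain ⟨T₀, C₀, gT₀, gC₀, iT₀, c₀, cB, tC, hT₀, hc₀, hcB, htC⟩ := exists_cartan_le iB' hB'
  letI := gT₀; letI := gC₀
  have ht₀ : AGF.IsMaxTorus (tC ≫ cB) :=
    isMaxTorus_of_comp_mono (tC ≫ cB) iB' (by rwa [Category.assoc, hcB, htC])
  obtain ⟨r, e, co, he, -, hprod, hcomm⟩ := exists_cochars T hT.2.2.1
  haveI : ∀ a, IsMonHom (e a ≫ i) := fun a => by haveI := he a; infer_instance
  obtain ⟨g, hg⟩ := exists_conj_factor ht₀ (fun a => e a ≫ i) fun a b s s' => by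
    show _ * _ = _ * _
    rw [← Category.assoc s (e a) i, ← Category.assoc s' (e b) i, ← MonObj.mul_comp, ← MonObj.mul_comp, hcomm]
  haveI := isIso_conj g
  let S : T₀ ⟶ B' := (tC ≫ cB) ≫ conj g
  have hS : AGF.IsMaxTorus S := isMaxTorus_comp_iso ht₀ (conj g)
  haveI := hS.1; haveI := hS.2.1
  haveI := isClosedImmersion_torus S hS.2.2.1
  obtain ⟨hSa, hSs, -⟩ := torus_props T₀ hS.2.2.1
  haveI := hSa; haveI := hSs
  haveI : LocallyOfFiniteType T₀.hom := inferInstance
  haveI : AlgebraicGeometry.IsReduced T₀.left := Groth.Agent.H13AlgSp.isReduced_of_smooth_mor T₀.hom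
  have hcc : conj g⁻¹ ≫ conj g = 𝟙 B' := by
    have := comp_conj_conj g⁻¹ (𝟙 B')
    rwa [Category.id_comp, _root_.inv_inv] at this
  have hTS : ∀ x : Pt T, ∃ z : Pt T₀, z ≫ S = x ≫ i := fun x => by
    have h := comp_mem_of_cochars i e co hprod (postHom S).range (fun a s => by
      obtain ⟨d, hd⟩ := hg a
      refine ⟨s ≫ d, ?_⟩
      show (s ≫ d) ≫ S = (s ≫ e a) ≫ i
      simp only [S]
      rw [← Category.assoc (s ≫ d), Category.assoc s d, hd, H20Conj.conjBy_eq, Category.assoc, Category.assoc,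
        hcc, Category.comp_id, Category.assoc]) x
    exact h
  -- `T'` inside `B'`
  obtain ⟨jT, hjT⟩ := exists_factor_pts iB' iT' fun y => by
    obtain ⟨x, hx⟩ := exists_pt_lift p y
    exact ⟨x ≫ i, by rw [Category.assoc, hi, ← hp, ← Category.assoc, hx]⟩
  haveI : IsMonHom jT := isMonHom_of_comp_mono jT iB' (hjT.symm ▸ ‹IsMonHom iT'›)
  haveI : IsClosedImmersion jT.left := by
    haveI : IsClosedImmersion (jT.left ≫ iB'.left) := by rw [← Over.comp_left, hjT]; infer_instance
    exact IsClosedImmersion.of_comp jT.left iB'.left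
  have hpj : p ≫ jT = i := (cancel_mono iB').mp (by rw [Category.assoc, hjT, hi, hp])
  haveI : Mono jT := Over.mono_of_mono_left _
  -- the torus factors through the image
  have hcommS : ∀ (W : Over (Sk k)) (x : W ⟶ T) (y : W ⟶ T₀), (x ≫ i) * (y ≫ S) = (y ≫ S) * (x ≫ i) := by
    haveI : AlgebraicGeometry.IsReduced T.left := Groth.Agent.H13AlgSp.isReduced_of_smooth_mor T.hom
    obtain ⟨f, hf⟩ := exists_factor_pts S i hTS
    intro W x y
    rw [← hf, ← Category.assoc, ← MonObj.mul_comp, ← MonObj.mul_comp, torus_comm hS.2.2.1]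
  have hsolv : Group.IsSolvable (Pt B') := by
    obtain ⟨n, hn⟩ := hB'sol
    exact ⟨n, hn _⟩
  obtain ⟨v, hv⟩ := exists_factor_diag hsolv (isDiagGrp_of_isTorus hT.2.2.1) (isDiagGrp_of_isTorus hS.2.2.1)
    i jT p hpj S hcommS fun χ hχ h => by
      haveI := hχ
      have h1 : qB ≫ χ = 1 := char_eq_one_of_maxTorus htmax (qB ≫ χ) (by rw [← Category.assoc]; exact h)
      haveI : IsAffine (Red.diag (ULift.{u} ℤ) ℤ).left := inferInstanceAs (IsAffine (Spec _))
      haveI : IsAffineHom (Red.Gm (Sk k)).hom :=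
        MorphismProperty.pullback_snd (P := @IsAffineHom) (Red.diag (ULift.{u} ℤ) ℤ).hom _
          (inferInstance : IsAffineHom (Red.diag (ULift.{u} ℤ) ℤ).hom)
      exact hom_ext_pts fun (y : Pt B') => by
        haveI : LocallyOfFiniteType B.hom := inferInstance
        haveI : QuasiCompact B.hom := inferInstance
        haveI : CompactSpace B.left := QuasiCompact.compactSpace_of_compactSpace B.hom
        obtain ⟨x, hx⟩ := exists_pt_lift qB y
        rw [← hx, Category.assoc, h1, MonObj.comp_one, MonObj.comp_one]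
  obtain ⟨w, hw⟩ := exists_factor_pts S jT fun y => by
    obtain ⟨x, hx⟩ := exists_pt_lift p y
    obtain ⟨z, hz⟩ := hTS x
    exact ⟨z, by rw [hz, ← hx, Category.assoc, hpj]⟩
  haveI : IsMonHom w := isMonHom_of_comp_mono w S (hw.symm ▸ ‹IsMonHom jT›)
  haveI : IsIso w := ⟨v, (cancel_mono jT).mp (by rw [Category.assoc, hv, hw, Category.id_comp]),
    (cancel_mono S).mp (by rw [Category.assoc, hw, hv, Category.id_comp])⟩
  -- `S` is maximal in the big group
  have hbig : AGF.IsMaxTorus (S ≫ iB') := by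
    haveI := isIso_conj (g ≫ iB')
    have h := isMaxTorus_comp_iso hT₀ (conj (g ≫ iB'))
    have e1 : S ≫ iB' = iT₀ ≫ conj (g ≫ iB') := by
      simp only [S, Category.assoc]
      rw [conj_comp_hom', ← Category.assoc cB, hcB, ← Category.assoc, htC]
    rwa [e1]
  obtain ⟨-, -, hSt, hSmax⟩ := hbig
  replace hSmax := PLift.up hSmax
  have hiw : w ≫ (S ≫ iB') = iT' := by rw [← Category.assoc, hw, hjT]
  refine ⟨inferInstance, inferInstance, isTorus_of_iso' w hSt, fun Z _ j _ _ f hZ hf => ?_⟩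
  haveI : IsIso (inv w ≫ f) :=
    hSmax.down Z j (inv w ≫ f) hZ (by rw [Category.assoc, hf, IsIso.inv_comp_eq, hiw])
  exact IsIso.of_isIso_comp_left (inv w) f

end Image

end H20Borel

end
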