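import Groth.Agent.H20Borel.DiagRep
import Groth.Agent.H20Borel.Exists
import Groth.Agent.H19Grp.QuasiFiniteHom

/-!
# A subtorus which is maximal on rational points
-/

set_option autoImplicit false
set_option linter.style.haveILetI false
set_option backward.isDefEq.respectTransparency false
set_option maxHeartbeats 1000000
set_option synthInstance.maxHeartbeats 100000

universe u

open CategoryTheory CategoryTheory.Limits MonoidalCategory CartesianMonoidalCategory MonObj AlgebraicGeometry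
open Groth.Agent.H27Witt H20Mu H20Conj

noncomputable section

namespace H20Borel

variable {k : Type u} [Field k] [IsAlgClosed k]

local notation "Pt" X => 𝟙_ (Over (Sk k)) ⟶ X

variable {G : Over (Sk k)} [GrpObj G] [IsAffine G.left] [LocallyOfFiniteType G.hom]

/-- A monomorphism from a torus into an affine group is a closed immersion. -/
theorem isClosedImmersion_torus {Q : Over (Sk k)} [GrpObj Q] (j : Q ⟶ G) [IsMonHom j] [Mono j]
    (hQ : Red.IsTorus Q) : IsClosedImmersion j.left := by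
  obtain ⟨hQa, hQs, -⟩ := torus_props Q hQ
  haveI := hQa; haveI := hQs
  haveI : LocallyOfFiniteType Q.hom := inferInstance
  haveI : Mono j.left := inferInstanceAs (Mono ((Over.forget _).map j))
  exact Groth.Agent.H19Grp.QuasiFiniteHom.isClosedImmersion_of_mono j

omit [IsAlgClosed k] [IsAffine G.left] [LocallyOfFiniteType G.hom] in
/-- The rational points of a torus are products of values of cochar. -/
theorem comp_mem_of_cochars {Q : Over (Sk k)} [GrpObj Q] (j : Q ⟶ G) [IsMonHom j] {r : ℕ}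
    (e : Fin r → (Red.Gm (Sk k) ⟶ Q)) (co : Fin r → (Q ⟶ Red.Gm (Sk k)))
    (hprod : (List.ofFn fun i => co i ≫ e i).prod = 𝟙 Q) (R : Subgroup (Pt G))
    (h : ∀ i u, (u ≫ e i) ≫ j ∈ R) (t : Pt Q) : t ≫ j ∈ R := by
  let ψ : (Q ⟶ Q) →* (Pt G) :=
    { toFun := fun m => (t ≫ m) ≫ j
      map_one' := by rw [MonObj.comp_one, MonObj.one_comp]
      map_mul' := fun a b => by rw [MonObj.comp_mul, MonObj.mul_comp] }
  have : t ≫ j = ψ (List.ofFn fun i => co i ≫ e i).prod := by
    rw [hprod]; show _ = (t ≫ 𝟙 Q) ≫ j; rw [Category.comp_id]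
  rw [this, map_list_prod]
  refine list_prod_mem fun x hx => ?_
  simp only [List.mem_map, List.mem_ofFn] at hx
  obtain ⟨_, ⟨i, rfl⟩, rfl⟩ := hx
  show (t ≫ co i ≫ e i) ≫ j ∈ R
  rw [← Category.assoc t]
  exact h i _

/-- **A torus which is maximal on rational points**: it contains every cocharacter commuting with it. -/
theorem exists_maxTorus :
    ∃ (T : Over (Sk k)) (_ : GrpObj T) (iT : T ⟶ G), IsMonHom iT ∧ IsClosedImmersion iT.left ∧ Red.IsTorus T ∧
      ∀ (d : Red.Gm (Sk k) ⟶ G), IsMonHom d →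
        (∀ (u : Pt (Red.Gm (Sk k))) (t : Pt T), Commute (u ≫ d) (t ≫ iT)) → ∀ u, ∃ t : Pt T, t ≫ iT = u ≫ d := by
  haveI := Fn.finiteType G
  haveI : IsNoetherianRing (Fn G) := Algebra.FiniteType.isNoetherianRing k (Fn G)
  let Good : Subgroup (Pt G) → Prop := fun R => ∃ (Q : Over (Sk k)) (_ : GrpObj Q) (j : Q ⟶ G) (_ : IsMonHom j),
    Mono j ∧ Red.IsTorus Q ∧ (postHom j).range = R
  haveI : Nonempty {R : Subgroup (Pt G) // Good R} := by
    let c₀ : Fin 0 → (Red.Gm (Sk k) ⟶ G) := fun i => i.elim0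
    haveI : ∀ i, IsMonHom (c₀ i) := fun i => i.elim0
    obtain ⟨Q, gQ, j, hj, hm, hQ, -⟩ := exists_torus c₀ (h := fun i => i.elim0)
    exact ⟨⟨_, Q, gQ, j, hj, hm, hQ, rfl⟩⟩
  have hprime : ∀ R, Good R → (vanish (R : Set (Pt G))).IsPrime := by
    rintro R ⟨Q, gQ, j, hj, -, hQ, rfl⟩
    letI := gQ; haveI := hj
    obtain ⟨hQa, hQs, hQc⟩ := torus_props Q hQ
    haveI := hQa; haveI := hQs; haveI := hQc
    exact isPrime_range j
  let ht : {R : Subgroup (Pt G) // Good R} → ℕ∞ := fun R => (vanish (R.1 : Set (Pt G))).height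
  set M := Function.argmin ht with hMdef
  obtain ⟨T, gT, iT, hiT, hm, hT, hR⟩ := M.2
  letI := gT; haveI := hiT; haveI := hm
  refine ⟨T, gT, iT, hiT, isClosedImmersion_torus iT hT, hT, fun d hd hcom u => ?_⟩
  haveI := hd
  obtain ⟨r, e, co, he, hco, hprod, hcomm⟩ := exists_cochars T hT
  let c : Fin (r + 1) → (Red.Gm (Sk k) ⟶ G) := Fin.cons d fun i => e i ≫ iT
  haveI : ∀ i, IsMonHom (c i) := fun i => by
    refine Fin.cases ?_ (fun i => ?_) i
    · exact hd
    · haveI := he i
      simp only [c, Fin.cons_succ]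
      infer_instance
  have hgm : ∀ (s t : Pt (Red.Gm (Sk k))), s * t = t * s := fun s t =>
    par_injective (by rw [par_mul, par_mul, _root_.mul_comm])
  have hc : ∀ i j, ∀ s t : Pt (Red.Gm (Sk k)), Commute (s ≫ c i) (t ≫ c j) := by
    intro i j s t
    refine Fin.cases ?_ (fun i => ?_) i <;> refine Fin.cases ?_ (fun j => ?_) j <;>
      simp only [c, Fin.cons_zero, Fin.cons_succ, ← Category.assoc]
    · show _ * _ = _ * _
      rw [← MonObj.mul_comp, ← MonObj.mul_comp, hgm]
    · exact hcom s (t ≫ e j)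
    · exact (hcom t (s ≫ e i)).symm
    · show _ * _ = _ * _
      rw [← MonObj.mul_comp, ← MonObj.mul_comp, hcomm]
  obtain ⟨Q', gQ', j', hj', hm', hQ', hfac⟩ := exists_torus c hc
  letI := gQ'; haveI := hj'
  have hci : ∀ i (s : Pt (Red.Gm (Sk k))), s ≫ c i ∈ (postHom j').range := fun i s => by
    obtain ⟨q, hq⟩ := hfac i
    exact ⟨s ≫ q, (Category.assoc _ _ _).trans (congrArg (s ≫ ·) hq)⟩
  have hle : M.1 ≤ (postHom j').range := by
    rw [← hR]
    rintro _ ⟨t, rfl⟩
    refine comp_mem_of_cochars iT e co hprod _ (fun i s => ?_) t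
    rw [Category.assoc]
    exact hci i.succ s
  have heq : vanish ((postHom j').range : Set (Pt G)) = vanish (M.1 : Set (Pt G)) := by
    by_contra hne
    have hlt := lt_of_le_of_ne (vanish_anti hle) hne
    haveI := hprime _ ⟨Q', gQ', j', hj', hm', hQ', rfl⟩
    exact Function.not_lt_argmin ht ⟨_, Q', gQ', j', hj', hm', hQ', rfl⟩
      (Ideal.height_strict_mono_of_isPrime hlt)
  haveI := isClosedImmersion_torus iT hT
  obtain ⟨t, ht'⟩ := clo_range_le iT (h := u ≫ d) (by
    intro a ha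
    rw [hR, ← heq] at ha
    exact mem_vanish.mp ha _ (hci 0 u))
  exact ⟨t, ht'⟩

end H20Borel
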