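import Groth.Agent.H20Borel.Gen
import Groth.Agent.H20Comod.OrbitPrimes

/-!
# The identity component of a closed group of rational points
-/

set_option autoImplicit false
set_option linter.style.haveILetI false
set_option backward.isDefEq.respectTransparency false

universe u

open CategoryTheory CategoryTheory.Limits MonoidalCategory CartesianMonoidalCategory MonObj AlgebraicGeometry
open Groth.Agent.H27Witt H20Mu

noncomputable section

namespace H20Borel

variable {k : Type u} [Field k] [IsAlgClosed k]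

local notation "Pt" X => 𝟙_ (Over (Sk k)) ⟶ X

variable {G : Over (Sk k)} [GrpObj G] [IsAffine G.left] [LocallyOfFiniteType G.hom]

/-- The zero set of an ideal among the rational points. -/
def zeroPts (P : Ideal (Fn G)) : Set (Pt G) := {g | P ≤ RingHom.ker (val g)}

omit [IsAlgClosed k] [IsAffine G.left] [LocallyOfFiniteType G.hom] [GrpObj G] in
theorem mem_zeroPts {P : Ideal (Fn G)} {g : Pt G} : g ∈ zeroPts P ↔ ∀ a ∈ P, val g a = 0 := Iff.rfl

/-- **Nullstellensatz**: the functions vanishing on the zero set of a prime. -/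
theorem vanish_zeroPts (P : Ideal (Fn G)) [P.IsPrime] : vanish (zeroPts P) = P := by
  haveI := Fn.finiteType G
  refine le_antisymm (fun a ha => ?_) fun a ha => mem_vanish.mpr fun g hg => hg ha
  by_contra h
  obtain ⟨z, hz, hza⟩ := Groth.Agent.H20Comod.OrbitPrimes.exists_point_notMem (k := k) P h
  obtain ⟨g, rfl⟩ := Fn.exists_point z
  exact hza (mem_vanish.mp ha g hz)

omit [IsAlgClosed k] [IsAffine G.left] [LocallyOfFiniteType G.hom] in
theorem isPrime_singleton (g : Pt G) : (vanish ({g} : Set (Pt G))).IsPrime := by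
  rw [show vanish ({g} : Set (Pt G)) = RingHom.ker (val g) from by
    ext a
    rw [mem_vanish, RingHom.mem_ker]
    simp]
  exact RingHom.ker_isPrime _

omit [IsAlgClosed k] [IsAffine G.left] [LocallyOfFiniteType G.hom] in
theorem vanish_anti {A C : Set (Pt G)} (h : A ⊆ C) : vanish C ≤ vanish A := fun _ ha =>
  mem_vanish.mpr fun g hg => mem_vanish.mp ha g (h hg)

/-- A connected set of points through a component is contained in it. -/
theorem subset_zeroPts_of_minimal {R : Set (Pt G)} {P : Ideal (Fn G)} (hP : P ∈ (vanish R).minimalPrimes)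
    {S : Set (Pt G)} (hS : (vanish S).IsPrime) (hSR : S ⊆ R) (hPS : zeroPts P ⊆ S) : S ⊆ zeroPts P := by
  haveI := hP.1.1
  have h : vanish S ≤ P := (vanish_anti hPS).trans (vanish_zeroPts P).le
  exact fun g hg a ha => mem_vanish.mp (hP.2 ⟨hS, vanish_anti hSR⟩ h ha) g hg

/-- **The identity component of a closed group of rational points.** -/
theorem exists_component (R : Subgroup (Pt G)) (hR : ∀ g ∈ clo R, g ∈ R) :
    ∃ R₀ : Subgroup (Pt G), R₀ ≤ R ∧ (vanish (R₀ : Set (Pt G))).IsPrime ∧ (R₀.subgroupOf R).FiniteIndex ∧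
      ∀ S : Subgroup (Pt G), S ≤ R → (vanish (S : Set (Pt G))).IsPrime → S ≤ R₀ := by
  classical
  haveI := Fn.finiteType G
  haveI : IsNoetherianRing (Fn G) := Algebra.FiniteType.isNoetherianRing k (Fn G)
  set I := vanish (R : Set (Pt G)) with hI
  have hzR : ∀ {P : Ideal (Fn G)}, I ≤ P → zeroPts P ⊆ (R : Set (Pt G)) := fun {P} hP g hg =>
    hR g fun a ha => hg (hP ha)
  haveI : (RingHom.ker (val (1 : Pt G))).IsPrime := RingHom.ker_isPrime _
  obtain ⟨P, hP, hP1⟩ := Ideal.exists_minimalPrimes_le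
    (I := I) (J := RingHom.ker (val (1 : Pt G))) (fun a ha => mem_vanish.mp ha 1 R.one_mem)
  haveI := hP.1.1
  have hAR : zeroPts P ⊆ (R : Set (Pt G)) := hzR hP.1.2
  have h1 : (1 : Pt G) ∈ zeroPts P := hP1
  have hA : (vanish (zeroPts P)).IsPrime := (vanish_zeroPts P).symm ▸ hP.1.1
  have key : ∀ (S T : Set (Pt G)), (vanish S).IsPrime → (vanish T).IsPrime → S ⊆ (R : Set (Pt G)) →
      T ⊆ (R : Set (Pt G)) → S.Nonempty → T.Nonempty → zeroPts P ⊆ Set.image2 (· * ·) S T →
      Set.image2 (· * ·) S T ⊆ zeroPts P := fun S T hS hT hSR hTR hS0 hT0 h =>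
    subset_zeroPts_of_minimal hP (isPrime_mul hS hT hS0 hT0) (by
      rintro _ ⟨x, hx, y, hy, rfl⟩
      exact R.mul_mem (hSR hx) (hTR hy)) h
  have hmul : ∀ a ∈ zeroPts P, ∀ b ∈ zeroPts P, a * b ∈ zeroPts P := fun a ha b hb =>
    key _ _ hA hA hAR hAR ⟨1, h1⟩ ⟨1, h1⟩ (fun g hg => ⟨g, hg, 1, h1, mul_one g⟩) ⟨a, ha, b, hb, rfl⟩
  have hinv : ∀ a ∈ zeroPts P, a⁻¹ ∈ zeroPts P := fun a ha => by
    have hA' : (vanish (Set.image2 (· * ·) ({a⁻¹} : Set (Pt G)) (zeroPts P))).IsPrime :=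
      isPrime_mul (isPrime_singleton _) hA (Set.singleton_nonempty _) ⟨1, h1⟩
    refine key _ _ hA' hA (by
      rintro _ ⟨x, rfl, y, hy, rfl⟩
      exact R.mul_mem (R.inv_mem (hAR ha)) (hAR hy)) hAR ⟨1, a⁻¹, rfl, a, ha, inv_mul_cancel a⟩ ⟨1, h1⟩
      (fun g hg => ⟨1, ⟨a⁻¹, rfl, a, ha, inv_mul_cancel a⟩, g, hg, one_mul g⟩)
      ⟨a⁻¹, ⟨a⁻¹, rfl, 1, h1, mul_one _⟩, 1, h1, mul_one _⟩
  let R₀ : Subgroup (Pt G) :=
    { carrier := zeroPts P
      one_mem' := h1
      mul_mem' := fun {a b} ha hb => hmul a ha b hb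
      inv_mem' := fun {a} ha => hinv a ha }
  refine ⟨R₀, hAR, hA, ?_, fun S hS hSp g hg => ?_⟩
  · let N := R₀.subgroupOf R
    haveI : Finite I.minimalPrimes :=
      (Ideal.finite_minimalPrimes_of_isNoetherianRing (Fn G) I).to_subtype
    have hgA : ∀ g : R, (vanish (Set.image2 (· * ·) ({(g : Pt G)} : Set (Pt G)) (zeroPts P))).IsPrime := fun g =>
      isPrime_mul (isPrime_singleton _) hA (Set.singleton_nonempty _) ⟨1, h1⟩
    have hmin : ∀ g : R, ∃ Q ∈ I.minimalPrimes, zeroPts Q =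
        Set.image2 (· * ·) ({(g : Pt G)} : Set (Pt G)) (zeroPts P) := fun g => by
      haveI := hgA g
      obtain ⟨Q, hQ, hQle⟩ := Ideal.exists_minimalPrimes_le
        (I := I) (J := vanish (Set.image2 (· * ·) ({(g : Pt G)} : Set (Pt G)) (zeroPts P))) (hI ▸ vanish_anti (by
          rintro _ ⟨x, rfl, y, hy, rfl⟩
          exact R.mul_mem g.2 (hAR hy)))
      haveI := hQ.1.1
      refine ⟨Q, hQ, Set.Subset.antisymm (fun x hx => ⟨g, rfl, (g : Pt G)⁻¹ * x, ?_, mul_inv_cancel_left _ _⟩)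
        fun x hx a ha => mem_vanish.mp (hQle ha) x hx⟩
      refine key _ _ (isPrime_singleton _) ((vanish_zeroPts Q).symm ▸ hQ.1.1)
        (by rintro _ rfl; exact R.inv_mem g.2) (hzR hQ.1.2) (Set.singleton_nonempty _) ⟨x, hx⟩ (fun y hy => ?_)
        ⟨_, rfl, x, hx, rfl⟩
      exact ⟨_, rfl, (g : Pt G) * y, fun a ha => mem_vanish.mp (hQle ha) _ ⟨_, rfl, y, hy, rfl⟩,
        inv_mul_cancel_left _ _⟩
    choose Q hQ hQz using hmin
    haveI : Finite (R ⧸ N) := by
      refine Finite.of_injective (β := I.minimalPrimes) (fun q => ⟨Q q.out, hQ q.out⟩) fun q q' h => ?_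
      have hz := congrArg zeroPts (congrArg Subtype.val h)
      rw [hQz, hQz] at hz
      have hmem : ((q.out : R) : Pt G) ∈ Set.image2 (· * ·) ({((q.out : R) : Pt G)} : Set (Pt G)) (zeroPts P) :=
        ⟨_, rfl, 1, h1, mul_one _⟩
      rw [hz] at hmem
      obtain ⟨_, rfl, y, hy, hxy⟩ := hmem
      rw [← q.out_eq, ← q'.out_eq]
      refine (QuotientGroup.eq.mpr ?_).symm
      show ((q'.out : R) : Pt G)⁻¹ * ((q.out : R) : Pt G) ∈ zeroPts P
      rw [← hxy, inv_mul_cancel_left]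
      exact hy
    exact Subgroup.finiteIndex_of_finite_quotient
  · exact key _ _ hSp hA hS hAR ⟨1, S.one_mem⟩ ⟨1, h1⟩ (fun x hx => ⟨1, S.one_mem, x, hx, one_mul x⟩)
      ⟨g, hg, 1, h1, mul_one g⟩

end H20Borel

end
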