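import Groth.Agent.H20Borel.Dominant

/-!
# Rational points of smooth affine schemes are regular
-/

set_option autoImplicit false
set_option linter.style.haveILetI false
set_option backward.isDefEq.respectTransparency false

universe u

open CategoryTheory AlgebraicGeometry IsLocalRing MonoidalCategory CartesianMonoidalCategory MonObj
open Groth.Agent.H27Witt H20Mu

noncomputable section

namespace H20Borel

variable {k : Type u} [Field k] {X : Over (Sk k)} [IsAffine X.left] [Smooth X.hom]

theorem finrank_cotangent_le_height (x : 𝟙_ (Over (Sk k)) ⟶ X) :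
    (Module.finrank k (RingHom.ker (val x)).Cotangent : ℕ∞) ≤ (RingHom.ker (val x)).height := by
  haveI hM : (RingHom.ker (val x)).IsMaximal :=
    RingHom.ker_isMaximal_of_surjective _ fun c => ⟨algebraMap k (Fn X) c, (val x).commutes c⟩
  haveI := Fn.finiteType X
  haveI : IsNoetherianRing (Fn X) := Algebra.FiniteType.isNoetherianRing k (Fn X)
  set M := RingHom.ker (val x)
  let U : X.left.Opens := ⊤
  have hU : IsAffineOpen U := isAffineOpen_top X.left
  let y : PrimeSpectrum Γ(X.left, U) := ⟨M, hM.isPrime⟩
  have hy : hU.fromSpec y ∈ U := trivial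
  letI : Algebra (Fn X) (X.left.presheaf.stalk (hU.fromSpec y)) := TopCat.Presheaf.algebra_section_stalk X.left.presheaf ⟨_, hy⟩
  haveI : IsLocalization.AtPrime (X.left.presheaf.stalk (hU.fromSpec y)) M := hU.isLocalization_stalk' y hy
  haveI := Groth.Agent.H19Grp.isRegularLocalRing_stalk_of_smooth X.hom (hU.fromSpec y)
  haveI : IsRegularLocalRing (Localization.AtPrime M) :=
    IsRegularLocalRing.of_ringEquiv
      (IsLocalization.algEquiv M.primeCompl (X.left.presheaf.stalk (hU.fromSpec y)) (Localization.AtPrime M)).toRingEquiv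
  have h := IsRegularLocalRing.spanFinrank_maximalIdeal (R := Localization.AtPrime M)
  rw [spanFinrank_maximalIdeal_eq_finrank_cotangentSpace,
    Groth.Agent.H25SmVar.finrank_cotangentSpace_localization (Fn X) M,
    IsLocalization.AtPrime.ringKrullDim_eq_height M (Localization.AtPrime M),
    height_le_finrank_cotangent.finrank_eq_of_residue (val x)] at h
  exact (WithBot.coe_inj.mp h).le

theorem finite_cotangent [IsAlgClosed k] (x : 𝟙_ (Over (Sk k)) ⟶ X) : Module.Finite k (RingHom.ker (val x)).Cotangent := by
  haveI := Fn.finiteType X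
  haveI : IsNoetherianRing (Fn X) := Algebra.FiniteType.isNoetherianRing k (Fn X)
  haveI hM : (RingHom.ker (val x)).IsMaximal :=
    RingHom.ker_isMaximal_of_surjective _ fun c => ⟨algebraMap k (Fn X) c, (val x).commutes c⟩
  set M := RingHom.ker (val x)
  haveI : Module.Finite (Fn X ⧸ M) M.Cotangent := Module.Finite.of_restrictScalars_finite (Fn X) _ _
  haveI : Algebra.FiniteType k (Fn X ⧸ M) :=
    Algebra.FiniteType.of_surjective (Ideal.Quotient.mkₐ k M) Ideal.Quotient.mk_surjective
  letI := Ideal.Quotient.field M
  haveI : Module.Finite k (Fn X ⧸ M) := finite_of_finite_type_of_isJacobsonRing k (Fn X ⧸ M)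
  haveI : IsScalarTower k (Fn X ⧸ M) M.Cotangent := IsScalarTower.of_algebraMap_smul fun c v => by
    show Ideal.Quotient.mk M (algebraMap k (Fn X) c) • v = c • v
    obtain ⟨y, rfl⟩ := Ideal.toCotangent_surjective _ v
    exact algebraMap_smul (Fn X) c (M.toCotangent y)
  exact Module.Finite.trans (Fn X ⧸ M) _

end H20Borel
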