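import Groth.Agent.H20Borel.Tangent
import Groth.Agent.H20Borel.RegPoint
import Groth.Agent.S3006
import Groth.Agent.S3908
import Groth.Agent.S8087
import Groth.Agent.S3900

/-!
# The conjugates of a Borel subgroup cover the group
-/

set_option autoImplicit false
set_option linter.style.haveILetI false
set_option backward.isDefEq.respectTransparency false
set_option maxHeartbeats 1000000
set_option synthInstance.maxHeartbeats 100000

universe u

open CategoryTheory CategoryTheory.Limits MonoidalCategory CartesianMonoidalCategory MonObj AlgebraicGeometry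
open Groth.Agent.H27Witt H20Mu H20Conj

noncomputable section

namespace H20Borel

variable {k : Type u} [Field k] [IsAlgClosed k]

local notation "Pt" X => 𝟙_ (Over (Sk k)) ⟶ X

/-- Functions on a product of connected smooth affine groups form a domain. -/
theorem isDomain_tensor (G B : Over (Sk k)) [GrpObj G] [GrpObj B] [IsAffine G.left] [IsAffine B.left]
    [Smooth G.hom] [Smooth B.hom] [ConnectedSpace G.left] [ConnectedSpace B.left] : IsDomain (Fn (G ⊗ B)) := by
  haveI := Fn.isDomain G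
  haveI := Fn.isDomain B
  haveI : Smooth (G ⊗ B).hom := Groth.Agent.H19Grp.PointsDense.smooth_tensor G B
  haveI : IsAffine (G ⊗ B).left := inferInstanceAs (IsAffine (pullback G.hom B.hom))
  haveI : Nontrivial (Fn (G ⊗ B)) :=
    (val (lift (1 : Pt G) (1 : Pt B))).toRingHom.domain_nontrivial
  haveI : NoZeroDivisors (Fn (G ⊗ B)) := ⟨fun {a b} hab => by
    let sl : (Pt B) → (G ⟶ G ⊗ B) := fun y => lift (𝟙 G) (toUnit G ≫ y)
    let sr : (Pt G) → (B ⟶ G ⊗ B) := fun x => lift (toUnit B ≫ x) (𝟙 B)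
    have hsl : ∀ x y, x ≫ sl y = lift x y := fun x y => by
      simp only [sl, comp_lift, Category.comp_id, ← Category.assoc, toUnit_unique (x ≫ toUnit G) (𝟙 _), Category.id_comp]
    have hsr : ∀ x y, y ≫ sr x = lift x y := fun x y => by
      simp only [sr, comp_lift, Category.comp_id, ← Category.assoc, toUnit_unique (y ≫ toUnit B) (𝟙 _), Category.id_comp]
    by_contra hne
    rw [not_or] at hne
    obtain ⟨z₁, h₁⟩ : ∃ z, val z a ≠ 0 := by
      by_contra h; push Not at h
      exact hne.1 (Fn.ext_points fun z => (h z).trans (map_zero _).symm)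
    obtain ⟨z₂, h₂⟩ : ∃ z, val z b ≠ 0 := by
      by_contra h; push Not at h
      exact hne.2 (Fn.ext_points fun z => (h z).trans (map_zero _).symm)
    let x₁ := z₁ ≫ fst G B; let y₁ := z₁ ≫ snd G B
    let x₂ := z₂ ≫ fst G B; let y₂ := z₂ ≫ snd G B
    have hz : ∀ z : Pt (G ⊗ B), lift (z ≫ fst G B) (z ≫ snd G B) = z := fun z => by
      rw [← comp_lift, lift_fst_snd, Category.comp_id]
    have h12 : Fn.pull (sl y₁) a * Fn.pull (sl y₂) b = 0 := by
      refine Fn.ext_points fun x => ?_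
      show val x _ = val x 0
      rw [map_zero]
      have h0 : Fn.pull (sr x) a * Fn.pull (sr x) b = 0 := by rw [← map_mul, hab, map_zero]
      rw [map_mul, val_pull, val_pull, hsl, hsl]
      rcases mul_eq_zero.mp h0 with h | h
      · rw [← hsr, ← val_pull, h, map_zero, zero_mul]
      · rw [← hsr x y₂, ← val_pull _ (sr x) b, h, map_zero, mul_zero]
    rcases mul_eq_zero.mp h12 with h | h
    · apply h₁
      rw [← hz z₁, ← hsl, ← val_pull, h, map_zero]
    · apply h₂
      rw [← hz z₂, ← hsl, ← val_pull, h, map_zero]⟩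
  exact NoZeroDivisors.to_isDomain _

variable {G : Over (Sk k)} [GrpObj G] [IsAffine G.left] [Smooth G.hom]

/-- The union of the conjugates of a subgroup containing a Cartan subgroup is dense, on functions. -/
theorem injective_conj {T : Over (Sk k)} [GrpObj T] (iT : T ⟶ G) [IsMonHom iT] (M : MatRep G)
    {χ : Fin M.N → Fn T} (hd : M.IsDiagFor iT χ) (t₀ : Pt T)
    (ht₀ : ∀ a b, χ a ≠ χ b → val t₀ (χ a) ≠ val t₀ (χ b))
    {C : Over (Sk k)} [GrpObj C] {c : C ⟶ G} (hc : Red.IsCentralizerOf iT c) [ConnectedSpace G.left]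
    {B : Over (Sk k)} [GrpObj B] (iB : B ⟶ G) [IsMonHom iB] [IsClosedImmersion iB.left] [Smooth B.hom]
    [ConnectedSpace B.left] (cB : C ⟶ B) (hcB : cB ≫ iB = c) (t₀' : Pt C) (ht₀' : t₀' ≫ c = t₀ ≫ iT) :
    Function.Injective (Fn.pull (fst G B * (snd G B ≫ iB) * (fst G B)⁻¹)) := by
  classical
  let Ψ : G ⊗ B ⟶ G := fst G B * (snd G B ≫ iB) * (fst G B)⁻¹
  haveI : IsAffine B.left := isAffine_of_isAffineHom iB.left
  haveI : Mono iB := Over.mono_of_mono_left _
  haveI := isDomain_tensor G B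
  haveI := Fn.isDomain G
  haveI : Smooth (G ⊗ B).hom := Groth.Agent.H19Grp.PointsDense.smooth_tensor G B
  haveI : IsAffine (G ⊗ B).left := inferInstanceAs (IsAffine (pullback G.hom B.hom))
  haveI : LocallyOfFiniteType G.hom := inferInstance
  haveI : LocallyOfFiniteType (G ⊗ B).hom := inferInstance
  haveI := Fn.finiteType G
  haveI : IsNoetherianRing (Fn G) := Algebra.FiniteType.isNoetherianRing k (Fn G)
  haveI := Fn.finiteType (G ⊗ B)
  haveI : IsNoetherianRing (Fn (G ⊗ B)) := Algebra.FiniteType.isNoetherianRing k (Fn (G ⊗ B))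
  let b₀ : Pt B := t₀' ≫ cB
  have hb₀ : b₀ ≫ iB = t₀ ≫ iT := by rw [Category.assoc, hcB, ht₀']
  let x₁ : Pt (G ⊗ B) := lift 1 b₀
  have hx₁ : x₁ ≫ Ψ = t₀ ≫ iT := by
    simp only [x₁, Ψ, MonObj.comp_mul, GrpObj.comp_inv, lift_fst, lift_snd_assoc, hb₀, _root_.one_mul, inv_one,
      _root_.mul_one]
  have hcomp : (val x₁).comp (Fn.pull Ψ) = val (t₀ ≫ iT) := AlgHom.ext fun a => by
    rw [AlgHom.comp_apply, val_pull, hx₁]
  haveI := finite_cotangent x₁
  haveI : Module.Finite k (RingHom.ker ((val x₁).comp (Fn.pull Ψ))).Cotangent := by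
    rw [hcomp]; exact finite_cotangent (t₀ ≫ iT)
  refine injective_of_cotangent (Fn.pull Ψ) (val x₁) (finrank_cotangent_le_height x₁) fun a ha ha2 => ?_
  rw [hcomp]
  set m := RingHom.ker (val (t₀ ≫ iT)) with hm
  have ham : a ∈ m := by
    show val (t₀ ≫ iT) a = 0
    rw [← hcomp]; exact ha
  suffices h : m.toCotangent ⟨a, ham⟩ = 0 from (Ideal.toCotangent_eq_zero m ⟨a, ham⟩).mp h
  refine (Module.forall_dual_apply_eq_zero_iff k _).mp fun f => ?_
  have hev : ∀ x : Fn G, x - algebraMap k _ (val (t₀ ≫ iT) x) ∈ m := fun x => by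
    show val (t₀ ≫ iT) _ = 0
    rw [map_sub, AlgHom.commutes]; exact sub_self _
  let D : Fn G →ₗ[k] k :=
    { toFun := fun x => f (m.toCotangent ⟨_, hev x⟩)
      map_add' := fun x y => by
        rw [← map_add f, ← map_add]
        congr 2
        exact Subtype.ext (by simp only [map_add, Submodule.coe_add]; abel)
      map_smul' := fun r x => by
        rw [RingHom.id_apply, ← map_smul f, ← LinearMap.map_smul_of_tower m.toCotangent r ⟨_, hev x⟩]
        congr 2
        exact Subtype.ext (by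
          show r • x - algebraMap k _ (val (t₀ ≫ iT) (r • x)) = r • (x - algebraMap k _ (val (t₀ ≫ iT) x))
          rw [map_smul, smul_eq_mul, map_mul, Algebra.smul_def, Algebra.smul_def, mul_sub]) }
  have hD : ∀ x y, D (x * y) = val (t₀ ≫ iT) x * D y + val (t₀ ≫ iT) y * D x := fun x y => by
    show f (m.toCotangent ⟨_, hev (x * y)⟩) = _ * f (m.toCotangent _) + _ * f (m.toCotangent _)
    refine Eq.trans ?_ (congrArg₂ (· + ·) (map_smul f (val (t₀ ≫ iT) x) _) (map_smul f (val (t₀ ≫ iT) y) _))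
    rw [← map_add f]
    congr 1
    rw [← LinearMap.map_smul_of_tower m.toCotangent, ← LinearMap.map_smul_of_tower m.toCotangent, ← map_add]
    refine (Ideal.toCotangent_eq m).mpr ?_
    have h2 : (x - algebraMap k _ (val (t₀ ≫ iT) x)) * (y - algebraMap k _ (val (t₀ ≫ iT) y)) ∈ m ^ 2 := by
      rw [pow_two]; exact Ideal.mul_mem_mul (hev x) (hev y)
    show (x * y - algebraMap k _ (val (t₀ ≫ iT) (x * y))) - (val (t₀ ≫ iT) x • (y - algebraMap k _ (val (t₀ ≫ iT) y)) +
      val (t₀ ≫ iT) y • (x - algebraMap k _ (val (t₀ ≫ iT) x))) ∈ m ^ 2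
    convert h2 using 1
    simp only [map_mul, Algebra.smul_def]
    ring
  have hD1 : D 1 = 0 := by simpa using hD 1 1
  let φ : Fn G →ₐ[k] DualNumber k :=
    AlgHom.ofLinearMap
      ((TrivSqZeroExt.inlAlgHom k k k).toLinearMap.comp (val (t₀ ≫ iT)).toLinearMap + (TrivSqZeroExt.inrHom k k).comp D)
      (by
        show TrivSqZeroExt.inl (val (t₀ ≫ iT) 1) + TrivSqZeroExt.inr (D 1) = 1
        rw [map_one, hD1, TrivSqZeroExt.inl_one, TrivSqZeroExt.inr_zero, add_zero])
      (fun x y => by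
        show TrivSqZeroExt.inl (val (t₀ ≫ iT) (x * y)) + TrivSqZeroExt.inr (D (x * y)) =
          (TrivSqZeroExt.inl (val (t₀ ≫ iT) x) + TrivSqZeroExt.inr (D x)) *
            (TrivSqZeroExt.inl (val (t₀ ≫ iT) y) + TrivSqZeroExt.inr (D y))
        ext
        · simp
        · simp [hD]; ring)
  obtain ⟨z, hz⟩ := Fn.exists_hom (X := Tv k) (Y := G) (tvEquiv.toAlgHom.comp φ)
  have hzφ : ∀ x, Fn.pull z x = tvEquiv (φ x) := fun x => AlgHom.congr_fun hz x
  have hzo : tvPt ≫ z = t₀ ≫ iT := by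
    refine Fn.point_ext (AlgHom.ext fun x => ?_)
    show val (tvPt ≫ z) x = val (t₀ ≫ iT) x
    rw [← val_pull, hzφ, val_tvPt, AlgEquiv.symm_apply_apply]
    show TrivSqZeroExt.fst (TrivSqZeroExt.inl (val (t₀ ≫ iT) x) + TrivSqZeroExt.inr (D x)) = _
    simp
  obtain ⟨g, c', hg, hc', hgz⟩ := exists_conj_tangent iT M hd t₀ ht₀ hc z hzo
  let w : Tv k ⟶ G ⊗ B := lift g (c' ≫ cB)
  have hwΨ : w ≫ Ψ = z := by
    simp only [w, Ψ, MonObj.comp_mul, GrpObj.comp_inv, lift_fst, lift_snd_assoc, Category.assoc, hcB]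
    exact hgz
  have hwo : tvPt ≫ w = x₁ := by
    simp only [w, x₁, comp_lift, hg]
    refine congrArg _ ((cancel_mono iB).mp ?_)
    rw [Category.assoc, Category.assoc, hcB, hc', hb₀]
  let K : Ideal (Fn (Tv k)) := RingHom.ker (val tvPt)
  have hmap : ∀ x ∈ RingHom.ker (val x₁), Fn.pull w x ∈ K := fun x hx => by
    show val tvPt (Fn.pull w x) = 0
    rw [val_pull, hwo]; exact hx
  have hKsq : ∀ x ∈ K ^ 2, x = 0 := fun x hx => by
    rw [pow_two] at hx
    refine Submodule.mul_induction_on hx (fun p hp q hq => ?_) fun p q hp hq => by rw [hp, hq, add_zero]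
    rw [decomp_tv p, decomp_tv q, RingHom.mem_ker.mp hp, RingHom.mem_ker.mp hq, map_zero, zero_add, zero_add,
      eps_mul_eps]
  have h0 : Fn.pull z a = 0 := by
    rw [← hwΨ, ← Fn.pull_pull]
    refine hKsq _ (Ideal.pow_right_mono (Ideal.map_le_iff_le_comap.mpr fun x hx => hmap x hx :
      (RingHom.ker (val x₁)).map (Fn.pull w) ≤ K) 2 ?_)
    rw [← Ideal.map_pow]
    exact Ideal.mem_map_of_mem _ ha2
  rw [hzφ, map_eq_zero_iff _ tvEquiv.injective] at h0
  have h1 : D a = 0 := by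
    have := congrArg TrivSqZeroExt.snd h0
    simpa [φ] using this
  rw [← h1]
  show _ = f (m.toCotangent ⟨_, hev a⟩)
  congr 2
  refine Subtype.ext ?_
  show a = a - algebraMap k _ (val (t₀ ≫ iT) a)
  rw [RingHom.mem_ker.mp ham, map_zero, sub_zero]

/-- A morphism of affine schemes which is injective on functions and has closed image is surjective. -/
theorem surjective_of_injective_pull {X Y : Over (Sk k)} [IsAffine X.left] [IsAffine Y.left] (f : X ⟶ Y) (hf : Function.Injective (Fn.pull f)) (hcl : IsClosed (Set.range f.left.base)) :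
    Surjective f.left := by
  refine ⟨fun y => ?_⟩
  by_contra hy
  obtain ⟨s, hs, hys⟩ := (isAffineOpen_top Y.left).exists_basicOpen_le
    (V := ⟨(Set.range f.left.base)ᶜ, hcl.isOpen_compl⟩) ⟨y, hy⟩ trivial
  have h0 : f.left ⁻¹ᵁ Y.left.basicOpen s = ⊥ := by
    refine TopologicalSpace.Opens.ext (Set.eq_empty_iff_forall_notMem.mpr fun x hx => ?_)
    exact (hs hx : f.left x ∈ (Set.range f.left.base)ᶜ) ⟨x, rfl⟩
  rw [Scheme.preimage_basicOpen] at h0
  obtain ⟨n, hn⟩ := (Scheme.isNilpotent_iff_basicOpen_eq_bot (X := X.left) ((f.left.app ⊤) s)).mpr h0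
  have hs0 : s ^ n = 0 := hf (a₁ := (s ^ n : Fn Y)) (a₂ := 0) (by
    rw [map_zero]
    show (f.left.app ⊤) (s ^ n) = 0
    rw [map_pow]; exact hn)
  rcases Nat.eq_zero_or_pos n with rfl | hpos
  · rw [pow_zero] at hs0
    rw [show s = 0 by rw [← _root_.mul_one s, hs0, mul_zero], Scheme.basicOpen_zero] at hys
    exact hys
  · rw [← Scheme.basicOpen_pow _ _ hpos, hs0, Scheme.basicOpen_zero] at hys
    exact hys

variable [ConnectedSpace G.left]

/-- **Every rational point is conjugate to a point of any Borel subgroup.** -/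
theorem exists_conj_mem {B : Over (Sk k)} [GrpObj B] (iB : B ⟶ G) (hB : Red.IsBorelOver k iB) (g : Pt G) :
    ∃ (x : Pt G) (b : Pt B), x * (b ≫ iB) * x⁻¹ = g := by
  haveI : LocallyOfFiniteType G.hom := inferInstance
  haveI : LocallyOfFinitePresentation G.hom := inferInstance
  haveI : QuasiCompact G.hom := inferInstance
  haveI : QuasiSeparated G.hom := inferInstance
  obtain ⟨T, gT, iT, hiT, hciT, hT, hmax⟩ := exists_maxTorus (G := G)
  letI := gT; haveI := hiT; haveI := hciT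
  haveI : Mono iT := Over.mono_of_mono_left _
  obtain ⟨C, gC, c, hc, hcic, hCs⟩ := (Groth.Agent.S3006.result (Sk k) G T iT hciT hT).1
  letI := gC; haveI := hc.1; haveI := hcic; haveI := hCs
  haveI : ConnectedSpace C.left := Groth.Agent.S3908.result k G T iT hT C c hc
  haveI : IsAffine C.left := isAffine_of_isAffineHom c.left
  haveI := isSolvable_centralizer iT hT hmax c hc
  have hclo : ∀ x ∈ clo (postHom c).range, x ∈ (postHom c).range := fun x hx => clo_range_le c hx
  obtain ⟨B₁, gB₁, iB₁, hB₁, hpts⟩ := exists_isBorelOver_ge (postHom c).range (isPrime_range c)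
    (Group.isSolvable_of_isSolvable_injective (f := Subgroup.inclusion hclo) (Subgroup.inclusion_injective _))
  letI := gB₁; haveI := hB₁.1; haveI := hB₁.2.1; haveI := hB₁.2.2.1; haveI := hB₁.2.2.2.1
  haveI : IsAffine B₁.left := isAffine_of_isAffineHom iB₁.left
  haveI : Mono iB₁ := Over.mono_of_mono_left _
  obtain ⟨cB, hcB⟩ : ∃ cB : C ⟶ B₁, cB ≫ iB₁ = c := by
    have hsurj : Function.Surjective (Fn.pull iB₁ : Fn G →ₐ[k] Fn B₁) :=
      (IsClosedImmersion.isAffine_surjective_of_isAffine iB₁.left).2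
    have hker : ∀ r ∈ RingHom.ker (Fn.pull iB₁ : Fn G →ₐ[k] Fn B₁), Fn.pull c r = 0 := fun r hr =>
      Fn.ext_points fun z => by
        show val z _ = val z 0
        obtain ⟨b, hb⟩ := hpts (z ≫ c) ⟨z, rfl⟩
        rw [val_pull, map_zero, ← hb, ← val_pull, RingHom.mem_ker.mp hr, map_zero]
    obtain ⟨cB, hcB⟩ := Fn.exists_hom (X := C) (Y := B₁)
      ((Ideal.Quotient.liftₐ (RingHom.ker (Fn.pull iB₁)) (Fn.pull c) hker).comp
        (Ideal.quotientKerAlgEquivOfSurjective hsurj).symm.toAlgHom)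
    refine ⟨cB, Fn.hom_ext (AlgHom.ext fun r => ?_)⟩
    rw [Fn.pull_comp, AlgHom.comp_apply, hcB]
    show (Ideal.Quotient.liftₐ _ (Fn.pull c) hker) ((Ideal.quotientKerAlgEquivOfSurjective hsurj).symm (Fn.pull iB₁ r)) = _
    rw [show (Ideal.quotientKerAlgEquivOfSurjective hsurj).symm (Fn.pull iB₁ r) = Ideal.Quotient.mk _ r from
      (AlgEquiv.symm_apply_eq _).mpr rfl]
    rfl
  obtain ⟨M, χ, hd⟩ := exists_diag_rep iT hT
  obtain ⟨t₀, ht₀⟩ := exists_regular hT χ
  obtain ⟨hTa, hTs, -⟩ := torus_props T hT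
  obtain ⟨t₀', ht₀'⟩ := (hc.2.2 _ (t₀ ≫ iT)).mpr fun X' x h => by
    obtain ⟨r, e, co, -, -, -, hcomm⟩ := exists_cochars T hT
    rw [← Category.assoc, ← MonObj.mul_comp, ← MonObj.mul_comp, hcomm]
  have hinj := injective_conj iT M hd t₀ ht₀ hc iB₁ cB hcB t₀' ht₀'
  obtain ⟨X, a, o, hX, -, -⟩ := Groth.Agent.H19Quot.exists_isQuotient iB₁
  haveI := isProper_of_isBorelOver iB₁ hB₁ a o hX
  have hcl := Groth.Agent.S8087.result k G B₁ iB₁ inferInstance X a o hX
  let Ψ : G ⊗ B₁ ⟶ G := fst G B₁ * (snd G B₁ ≫ iB₁) * (fst G B₁)⁻¹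
  haveI : Smooth (G ⊗ B₁).hom := Groth.Agent.H19Grp.PointsDense.smooth_tensor G B₁
  haveI : IsAffine (G ⊗ B₁).left := inferInstanceAs (IsAffine (pullback G.hom B₁.hom))
  haveI : Surjective Ψ.left := surjective_of_injective_pull Ψ hinj hcl
  obtain ⟨p, hp⟩ := exists_pt_lift Ψ g
  obtain ⟨y, f, hf⟩ := Groth.Agent.S3900.result k G B B₁ iB iB₁ hB hB₁
  refine ⟨(p ≫ fst G B₁) * y, (p ≫ snd G B₁) ≫ f.inv, ?_⟩
  have hyf : iB₁ = (toUnit B₁ ≫ y) * (f.inv ≫ iB) * (toUnit B₁ ≫ y)⁻¹ := by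
    rw [show iB₁ = f.inv ≫ f.hom ≫ iB₁ by rw [f.inv_hom_id_assoc], hf, AGF.conjBy]
    simp only [MonObj.comp_mul, GrpObj.comp_inv, ← Category.assoc]
    rw [toUnit_unique (f.inv ≫ toUnit B) (toUnit B₁)]
  rw [← hp]
  simp only [Ψ, MonObj.comp_mul, GrpObj.comp_inv]
  conv_rhs => rw [hyf]
  simp only [MonObj.comp_mul, GrpObj.comp_inv, ← Category.assoc,
    toUnit_unique ((p ≫ snd G B₁) ≫ toUnit B₁) (𝟙 _), Category.id_comp]
  group

end H20Borel
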