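import Groth.Agent.H20Borel.BaseBorel
import Groth.Agent.H20Borel.Conjugates
import Groth.Agent.H13Flat.Descend
import Mathlib.AlgebraicGeometry.Morphisms.FlatDescent

/-!
# The centre lies in every Borel subgroup
-/

set_option autoImplicit false
set_option linter.style.haveILetI false
set_option backward.isDefEq.respectTransparency false
set_option maxHeartbeats 1000000
set_option synthInstance.maxHeartbeats 100000

universe u

open CategoryTheory CategoryTheory.Limits MonoidalCategory CartesianMonoidalCategory MonObj AlgebraicGeometry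
open Groth.Agent.H27Witt H20Mu H20Conj

noncomputable section

namespace H20Borel

section AlgClosed

variable {k : Type u} [Field k] [IsAlgClosed k]
variable {G : Over (Sk k)} [GrpObj G] [IsAffine G.left] [Smooth G.hom] [ConnectedSpace G.left]

local notation "Pt" X => 𝟙_ (Over (Sk k)) ⟶ X

/-- Some Borel subgroup contains the centralizer of a maximal torus. -/
theorem exists_borel_ge_cartan :
    ∃ (T C B₁ : Over (Sk k)) (_ : GrpObj T) (_ : GrpObj C) (_ : GrpObj B₁) (iT : T ⟶ G) (c : C ⟶ G) (iB₁ : B₁ ⟶ G)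
      (cB : C ⟶ B₁), IsMonHom iT ∧ Red.IsTorus T ∧ Red.IsCentralizerOf iT c ∧ Red.IsBorelOver k iB₁ ∧ cB ≫ iB₁ = c := by
  haveI : LocallyOfFiniteType G.hom := inferInstance
  haveI : LocallyOfFinitePresentation G.hom := inferInstance
  haveI : QuasiCompact G.hom := inferInstance
  haveI : QuasiSeparated G.hom := inferInstance
  obtain ⟨T, gT, iT, hiT, hciT, hT, hmax⟩ := exists_maxTorus (G := G)
  letI := gT; haveI := hiT; haveI := hciT
  haveI : Mono iT := Over.mono_of_mono_left _
  obtain ⟨C, gC, c, hc, hcic, hCs⟩ := (Groth.Agent.S3006.result (Sk k) G T iT hciT hT).1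
  letI := gC; haveI := hc.1; haveI := hcic; haveI := hCs
  haveI : ConnectedSpace C.left := Groth.Agent.S3908.result k G T iT hT C c hc
  haveI : IsAffine C.left := isAffine_of_isAffineHom c.left
  haveI := isSolvable_centralizer iT hT hmax c hc
  have hclo : ∀ x ∈ clo (postHom c).range, x ∈ (postHom c).range := fun x hx => clo_range_le c hx
  obtain ⟨B₁, gB₁, iB₁, hB₁, hpts⟩ := exists_isBorelOver_ge (postHom c).range (isPrime_range c)
    (Group.isSolvable_of_isSolvable_injective (f := Subgroup.inclusion hclo) (Subgroup.inclusion_injective _))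
  letI := gB₁; haveI := hB₁.1; haveI := hB₁.2.1
  haveI : IsAffine B₁.left := isAffine_of_isAffineHom iB₁.left
  have hsurj : Function.Surjective (Fn.pull iB₁ : Fn G →ₐ[k] Fn B₁) :=
    (IsClosedImmersion.isAffine_surjective_of_isAffine iB₁.left).2
  have hker : ∀ r ∈ RingHom.ker (Fn.pull iB₁ : Fn G →ₐ[k] Fn B₁), Fn.pull c r = 0 := fun r hr =>
    Fn.ext_points fun z => by
      show val z _ = val z 0
      obtain ⟨b, hb⟩ := hpts (z ≫ c) ⟨z, rfl⟩
      rw [val_pull, map_zero, ← hb, ← val_pull, RingHom.mem_ker.mp hr, map_zero]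
  obtain ⟨cB, hcB⟩ := Fn.exists_hom (X := C) (Y := B₁)
    ((Ideal.Quotient.liftₐ (RingHom.ker (Fn.pull iB₁)) (Fn.pull c) hker).comp
      (Ideal.quotientKerAlgEquivOfSurjective hsurj).symm.toAlgHom)
  refine ⟨T, C, B₁, gT, gC, gB₁, iT, c, iB₁, cB, hiT, hT, hc, hB₁, Fn.hom_ext (AlgHom.ext fun r => ?_)⟩
  rw [Fn.pull_comp, AlgHom.comp_apply, hcB]
  show (Ideal.Quotient.liftₐ _ (Fn.pull c) hker) ((Ideal.quotientKerAlgEquivOfSurjective hsurj).symm (Fn.pull iB₁ r)) = _
  rw [show (Ideal.quotientKerAlgEquivOfSurjective hsurj).symm (Fn.pull iB₁ r) = Ideal.Quotient.mk _ r from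
    (AlgEquiv.symm_apply_eq _).mpr rfl]
  rfl

/-- **Central points lie in every Borel subgroup.** -/
theorem exists_factor_of_central {B : Over (Sk k)} [GrpObj B] (iB : B ⟶ G) (hB : Red.IsBorelOver k iB)
    {P : Over (Sk k)} (g : P ⟶ G)
    (hg : ∀ (W : Over (Sk k)) (x : W ⟶ P) (h : W ⟶ G), (x ≫ g) * h = h * (x ≫ g)) :
    ∃ b : P ⟶ B, b ≫ iB = g := by
  obtain ⟨T, C, B₁, gT, gC, gB₁, iT, c, iB₁, cB, hiT, hT, hc, hB₁, hcB⟩ := exists_borel_ge_cartan (G := G)
  letI := gT; letI := gC; letI := gB₁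
  obtain ⟨c', hc'⟩ := (hc.2.2 P g).mpr fun W x h => hg W x (h ≫ iT)
  obtain ⟨y, f, hf⟩ := Groth.Agent.S3900.result k G B B₁ iB iB₁ hB hB₁
  let b : P ⟶ B := c' ≫ cB ≫ f.inv
  refine ⟨b, ?_⟩
  let Y : P ⟶ G := toUnit P ≫ y
  have h1 : g = Y * (b ≫ iB) * Y⁻¹ := by
    conv_lhs => rw [← hc', ← hcB, show cB ≫ iB₁ = (cB ≫ f.inv) ≫ f.hom ≫ iB₁ by
      rw [Category.assoc, f.inv_hom_id_assoc], hf, AGF.conjBy]
    simp only [b, Y, MonObj.comp_mul, GrpObj.comp_inv, ← Category.assoc]
    rw [toUnit_unique (((c' ≫ cB) ≫ f.inv) ≫ toUnit B) (toUnit P)]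
  have h2 := hg P (𝟙 P) Y
  rw [Category.id_comp] at h2
  calc b ≫ iB = Y⁻¹ * g * Y := by rw [h1]; group
    _ = Y⁻¹ * (g * Y) := _root_.mul_assoc _ _ _
    _ = g := by rw [h2, inv_mul_cancel_left]

end AlgClosed

variable {k : Type u} [Field k] {K : Type u} [Field K]
  (z : Spec (CommRingCat.of K) ⟶ Spec (CommRingCat.of k))

/-- Universal commutation is preserved by base change. -/
theorem commute_bc {G H X : Over (Sk k)} [GrpObj G] (j : H ⟶ G) (g : X ⟶ G)
    (hg : ∀ (X' : Over (Sk k)) (x : X' ⟶ X) (h : X' ⟶ H), (x ≫ g) * (h ≫ j) = (h ≫ j) * (x ≫ g))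
    {W : Over (Spec (CommRingCat.of K))} (x : W ⟶ (Over.pullback z).obj X) (h : W ⟶ (Over.pullback z).obj H) :
    (x ≫ (Over.pullback z).map g) * (h ≫ (Over.pullback z).map j) =
      (h ≫ (Over.pullback z).map j) * (x ≫ (Over.pullback z).map g) := by
  let F := Over.pullback z
  let w : W ⟶ F.obj (X ⊗ H) := lift x h ≫ Functor.LaxMonoidal.μ F X H
  have hw1 : w ≫ F.map (fst X H) = x := by simp only [w, Category.assoc, Functor.Monoidal.μ_fst]; exact lift_fst x h
  have hw2 : w ≫ F.map (snd X H) = h := by simp only [w, Category.assoc, Functor.Monoidal.μ_snd]; exact lift_snd x h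
  have h0 := congrArg (fun m => w ≫ F.map m) (hg (X ⊗ H) (fst X H) (snd X H))
  simp only [Functor.map_mul, MonObj.comp_mul, F.map_comp (fst X H), F.map_comp (snd X H), ← Category.assoc w,
    hw1, hw2] at h0
  exact h0

/-- Factoring through a closed subscheme can be checked after a field extension. -/
theorem exists_factor_of_bc {X B G : Over (Sk k)} (iB : B ⟶ G) [IsClosedImmersion iB.left] (g : X ⟶ G)
    (b : (Over.pullback z).obj X ⟶ (Over.pullback z).obj B) (hb : b ≫ (Over.pullback z).map iB = (Over.pullback z).map g) :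
    ∃ b' : X ⟶ B, b' ≫ iB = g := by
  obtain ⟨hf, hs, hq⟩ := flat_surjective_point z
  haveI := hf; haveI := hs; haveI := hq
  let j : pullback g.left iB.left ⟶ X.left := pullback.fst g.left iB.left
  let q : pullback X.hom z ⟶ X.left := pullback.fst X.hom z
  haveI : Flat q := MorphismProperty.pullback_fst _ _ inferInstance
  haveI : Surjective q := MorphismProperty.pullback_fst _ _ inferInstance
  haveI : QuasiCompact q := MorphismProperty.pullback_fst _ _ inferInstance
  have hcomm : q ≫ g.left = (b.left ≫ pullback.fst B.hom z) ≫ iB.left := by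
    have h := congrArg (fun m => m.left ≫ pullback.fst G.hom z) hb
    simpa [Over.pullback] using h.symm
  haveI : IsSplitEpi (pullback.snd j q) :=
    ⟨⟨⟨pullback.lift (pullback.lift q (b.left ≫ pullback.fst B.hom z) hcomm) (𝟙 _)
      (by rw [Category.id_comp]; exact pullback.lift_fst _ _ _), pullback.lift_snd _ _ _⟩⟩⟩
  have hiso : IsIso (pullback.snd j q) := isIso_of_mono_of_isSplitEpi _
  haveI : IsIso j := MorphismProperty.of_isPullback_of_descendsAlong
    (P := MorphismProperty.isomorphisms Scheme.{u}) (Q := @Surjective ⊓ @Flat ⊓ @QuasiCompact)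
    (IsPullback.of_hasPullback j q).flip ⟨⟨inferInstance, inferInstance⟩, inferInstance⟩ hiso
  refine ⟨Over.homMk (inv j ≫ pullback.snd g.left iB.left) ?_, Over.OverMorphism.ext ?_⟩
  · rw [← Over.w iB, Category.assoc, ← Category.assoc (pullback.snd _ _), ← pullback.condition]
    show inv j ≫ (j ≫ g.left) ≫ G.hom = X.hom
    rw [Category.assoc, IsIso.inv_hom_id_assoc, Over.w g]
  · show (inv j ≫ pullback.snd g.left iB.left) ≫ iB.left = g.left
    rw [Category.assoc, ← pullback.condition]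
    exact IsIso.inv_hom_id_assoc j g.left

end H20Borel
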