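import Groth.Agent.H21Aff.Borel
import Groth.Agent.H20Borel.ThroughTorus
import Groth.Agent.H20Borel.CartanChar
import Groth.Agent.S3901
import Groth.Agent.S3910

/-!
# Borel subgroups and maximal tori of smooth connected algebraic groups
-/

set_option autoImplicit false
set_option linter.style.haveILetI false
set_option backward.isDefEq.respectTransparency false
set_option maxHeartbeats 1000000
set_option synthInstance.maxHeartbeats 400000

universe u

open CategoryTheory CategoryTheory.Limits MonoidalCategory CartesianMonoidalCategory MonObj AlgebraicGeometry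
open Groth.Agent.H27Witt H20Mu H20Conj

noncomputable section

namespace H20Borel

variable {k : Type u} [Field k] [IsAlgClosed k]

local notation "Pt" X => 𝟙_ (Over (Sk k)) ⟶ X
local notation "𝐍" => Groth.Agent.H19Grp.AffinizationKernel.N
local notation "𝐝" => Groth.Agent.H19Grp.AffinizationKernel.incl

/-- A morphism from a smooth scheme factors through a closed subscheme when its rational points do. -/
theorem exists_factor_of_pts {W G H : Over (Sk k)} [Smooth W.hom] (i : H ⟶ G) [IsClosedImmersion i.left]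
    (f : W ⟶ G) (h : ∀ w : Pt W, ∃ z : Pt H, z ≫ i = w ≫ f) : ∃ f' : W ⟶ H, f' ≫ i = f :=
  Groth.Agent.H19Grp.PointsDense.exists_factor (K := k) i f fun w => by
    obtain ⟨z, hz⟩ := h ((t01 k).hom ≫ w)
    exact ⟨(t01 k).inv ≫ z, by rw [Category.assoc, hz, Category.assoc, Iso.inv_hom_id_assoc]⟩

omit [IsAlgClosed k] in
/-- Solvability passes to subgroups. -/
theorem isSolvableGrp_mono {A B : Over (Sk k)} [GrpObj A] [GrpObj B] (f : A ⟶ B) [IsMonHom f] [Mono f]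
    (h : Red.IsSolvableGrp B) : Red.IsSolvableGrp A := by
  obtain ⟨n, hn⟩ := h
  refine ⟨n, fun X => ?_⟩
  let ψ : (X ⟶ A) →* (X ⟶ B) := MonoidHom.mk' (fun a => a ≫ f) fun a b => MonObj.mul_comp a b f
  have hψ : Function.Injective ψ := fun a b e => (cancel_mono f).1 e
  refine (Subgroup.map_eq_bot_iff_of_injective _ hψ).1 (eq_bot_iff.2 ?_)
  rw [← hn X]
  exact map_derivedSeries_le_derivedSeries ψ n

variable {G : Over (Sk k)} [GrpObj G] [Smooth G.hom] [QuasiCompact G.hom] [ConnectedSpace G.left]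

omit [ConnectedSpace G.left] in
theorem antiAffine_props : IsIso (𝐍 G).hom.appTop ∧ LocallyOfFiniteType (𝐍 G).hom ∧ QuasiCompact (𝐍 G).hom := by
  haveI : IsSeparated G.hom := Groth.Agent.H19Grp.AffineQuotient.isSeparated_of_grp G
  refine ⟨(Groth.Agent.H19Grp.AffinizationKernel.smooth_and_connected G).1, ?_, ?_⟩ <;>
    (rw [← Over.w (𝐝 G)]; infer_instance)

/-- The anti-affine part is central. -/
theorem antiAffine_comm {W : Over (Sk k)} (m : W ⟶ 𝐍 G) (g : W ⟶ G) : (m ≫ 𝐝 G) * g = g * (m ≫ 𝐝 G) := by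
  obtain ⟨gD, hd⟩ := Groth.Agent.H19Grp.AffinizationKernel.exists_grpObj G
  obtain ⟨h1, h2, h3⟩ := antiAffine_props (G := G)
  haveI := hd; haveI := h1; haveI := h2; haveI := h3
  exact Groth.Agent.H19Grp.AntiAffineGroup.central _ m g

omit [IsAlgClosed k] [Smooth G.hom] [ConnectedSpace G.left] in
/-- Homomorphisms from anti-affine groups land in the anti-affine part. -/
theorem exists_antiAffine_lift [LocallyOfFiniteType G.hom] {H : Over (Sk k)} [GrpObj H] [IsIso H.hom.appTop]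
    (φ : H ⟶ G) [IsMonHom φ] : ∃ v : H ⟶ 𝐍 G, v ≫ 𝐝 G = φ := by
  refine Groth.Agent.H19Grp.AffinizationKernel.lift_rho G φ (Over.OverMorphism.ext (ext_of_isAffine ?_))
  haveI : IsIso ((η[H]).left.appTop) := by
    haveI : IsIso (H.hom.appTop ≫ (η[H]).left.appTop) := by
      rw [← Scheme.Hom.comp_appTop, Over.w]
      show IsIso (𝟙 (Sk k) : Sk k ⟶ Sk k).appTop
      rw [Scheme.Hom.id_appTop]; infer_instance
    exact IsIso.of_isIso_comp_left H.hom.appTop _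
  rw [← cancel_mono (η[H]).left.appTop, ← Scheme.Hom.comp_appTop, ← Scheme.Hom.comp_appTop,
    ← Over.comp_left, ← Over.comp_left, ← Category.assoc η[H] φ, IsMonHom.one_hom, ← Category.assoc η[H] (toUnit H),
    toUnit_unique (η[H] ≫ toUnit H) (𝟙 _), Category.id_comp]

/-- The affine part of a smooth connected group. -/
structure IsAffPart {L : Over (Sk k)} [GrpObj L] (l : L ⟶ G) : Prop where
  hom : IsMonHom l
  closed : IsClosedImmersion l.left
  affine : IsAffine L.left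
  smooth : Smooth L.hom
  conn : ConnectedSpace L.left
  normal : AlgGrp.IsNormalHom l
  univ : ∀ (H : Over (Sk k)) [GrpObj H] (i : H ⟶ G) [IsMonHom i],
    IsAffine H.left → Smooth H.hom → ConnectedSpace H.left → ∃ v : H ⟶ L, v ≫ l = i ∧ IsMonHom v
  decomp : ∀ g : Pt G, ∃ (x : Pt L) (m : Pt (𝐍 G)), g = (x ≫ l) * (m ≫ 𝐝 G)

theorem exists_isAffPart : ∃ (L : Over (Sk k)) (_ : GrpObj L) (l : L ⟶ G), IsAffPart l := by
  obtain ⟨L, gL, l, h1, h2, h3, h4, h5, h6, h7, h8⟩ := Groth.Agent.H21Aff.exists_affinePart G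
  obtain ⟨L', gL', l', h1', h2', h3', h4', h5', -, h7'⟩ := Groth.Agent.H19Chev.pts_decomp G
  haveI := h1'
  obtain ⟨v, hv, -⟩ := h8 L' l' h3' h4' h5'
  refine ⟨L, gL, l, h1, h2, h5, h6, h7, h4, h8, fun g => ?_⟩
  obtain ⟨x, m, hg⟩ := h7' g
  exact ⟨x ≫ v, m, by rw [Category.assoc, hv, hg]⟩

variable {B : Over (Sk k)} [GrpObj B] {b : B ⟶ G}

/-- A Borel subgroup contains the anti-affine part. -/
theorem antiAffine_mem (hb : Red.IsBorelOver k b) (m : Pt (𝐍 G)) : ∃ y : Pt B, y ≫ b = m ≫ 𝐝 G := by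
  obtain ⟨hm, hbc, hBs, hBn, hsol, hmax⟩ := hb
  replace hmax := PLift.up hmax
  haveI := hm; haveI := hbc; haveI := hBs; haveI := hBn
  obtain ⟨C, gC, c, hc, hcc, hCs, hCn, hCsol, hpts⟩ := Groth.Agent.H21Aff.exists_solvable_with_antiAffine G B b hsol
  haveI := hc; haveI := hcc
  obtain ⟨gD, hd⟩ := Groth.Agent.H19Grp.AffinizationKernel.exists_grpObj G
  haveI := hd
  obtain ⟨f, hf⟩ := exists_factor_of_pts c b fun y => by
    obtain ⟨z, hz⟩ := hpts y 1
    exact ⟨z, by rw [hz, MonObj.one_comp, _root_.mul_one]⟩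
  haveI := hmax.down C c f hcc hCs hCn hCsol hf
  obtain ⟨z, hz⟩ := hpts 1 m
  exact ⟨z ≫ inv f, by rw [Category.assoc, ← hf, IsIso.inv_hom_id_assoc, hz, MonObj.one_comp, _root_.one_mul]⟩

variable {L : Over (Sk k)} [GrpObj L] {l : L ⟶ G}

/-- **Borel subgroups are generated by a Borel subgroup of the affine part and the anti-affine part.** -/
theorem exists_affine_borel (hl : IsAffPart l) (hb : Red.IsBorelOver k b) :
    ∃ (B₀ : Over (Sk k)) (_ : GrpObj B₀) (b₀ : B₀ ⟶ L) (f : B₀ ⟶ B), Red.IsBorelOver k b₀ ∧ f ≫ b = b₀ ≫ l ∧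
      (∀ y : Pt B, ∃ (x : Pt B₀) (m : Pt (𝐍 G)), y ≫ b = (x ≫ b₀ ≫ l) * (m ≫ 𝐝 G)) ∧
      ∀ x : Pt L, (∃ y : Pt B, y ≫ b = x ≫ l) → ∃ x₀ : Pt B₀, x₀ ≫ b₀ = x := by
  haveI := hl.hom; haveI := hl.closed; haveI := hl.affine; haveI := hl.smooth; haveI := hl.conn
  haveI : Mono l := Over.mono_of_mono_left _
  obtain ⟨hm, hbc, hBs, hBn, hsol, hmax⟩ := id hb
  replace hmax := PLift.up hmax
  haveI := hm; haveI := hbc; haveI := hBs; haveI := hBn
  haveI : Mono b := Over.mono_of_mono_left _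
  haveI : QuasiCompact B.hom := by rw [← Over.w b]; infer_instance
  haveI : LocallyOfFiniteType G.hom := inferInstance
  haveI : LocallyOfFiniteType L.hom := inferInstance
  obtain ⟨LB, gLB, lB, hlB⟩ := exists_isAffPart (G := B)
  haveI := hlB.hom; haveI := hlB.closed; haveI := hlB.affine; haveI := hlB.smooth; haveI := hlB.conn
  haveI : Mono lB := Over.mono_of_mono_left _
  obtain ⟨v, hv, hvm⟩ := hl.univ LB (lB ≫ b) hlB.affine hlB.smooth hlB.conn
  haveI := hvm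
  haveI : IsClosedImmersion (v.left ≫ l.left) := by rw [← Over.comp_left, hv, Over.comp_left]; infer_instance
  haveI : IsClosedImmersion v.left := IsClosedImmersion.of_comp v.left l.left
  haveI : QuasiCompact L.hom := inferInstance
  obtain ⟨B₀, gB₀, b₀, hb₀, f₀, hf₀⟩ := Groth.Agent.H21Aff.exists_borel_ge L LB v hlB.smooth hlB.conn
    (isSolvableGrp_mono lB hsol)
  obtain ⟨hm₀, hc₀, hs₀, hn₀, hsol₀, -⟩ := id hb₀
  haveI := hm₀; haveI := hc₀; haveI := hs₀; haveI := hn₀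
  haveI : IsClosedImmersion (b₀ ≫ l).left := by rw [Over.comp_left]; infer_instance
  obtain ⟨gDB, hdB⟩ := Groth.Agent.H19Grp.AffinizationKernel.exists_grpObj B
  haveI := hdB
  obtain ⟨hi1, -, -⟩ := antiAffine_props (G := B)
  haveI := hi1
  obtain ⟨w, hw⟩ := exists_antiAffine_lift (G := G) (𝐝 B ≫ b)
  have hpts : ∀ y : Pt B, ∃ (x : Pt B₀) (m : Pt (𝐍 G)), y ≫ b = (x ≫ b₀ ≫ l) * (m ≫ 𝐝 G) := by
    intro y
    obtain ⟨x', m', rfl⟩ := hlB.decomp y
    refine ⟨x' ≫ f₀, m' ≫ w, ?_⟩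
    rw [MonObj.mul_comp, Category.assoc x', Category.assoc m', Category.assoc x', Category.assoc m',
      ← Category.assoc f₀, hf₀, hv, hw]
  obtain ⟨gD, hd⟩ := Groth.Agent.H19Grp.AffinizationKernel.exists_grpObj G
  haveI := hd
  obtain ⟨C, gC, c, hc, hcc, hCs, hCn, hCsol, hC⟩ :=
    Groth.Agent.H21Aff.exists_solvable_with_antiAffine G B₀ (b₀ ≫ l) hsol₀
  haveI := hc; haveI := hcc
  obtain ⟨g, hg⟩ := exists_factor_of_pts c b fun y => by
    obtain ⟨x, m, hy⟩ := hpts y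
    obtain ⟨z, hz⟩ := hC x m
    exact ⟨z, by rw [hz, hy]⟩
  haveI := hmax.down C c g hcc hCs hCn hCsol hg
  obtain ⟨h, hh⟩ := exists_factor_of_pts c (b₀ ≫ l) fun x => by
    obtain ⟨z, hz⟩ := hC x 1
    exact ⟨z, by rw [hz, MonObj.one_comp, _root_.mul_one]⟩
  refine ⟨B₀, gB₀, b₀, h ≫ inv g, hb₀, by rw [Category.assoc, ← hg, IsIso.inv_hom_id_assoc, hh], hpts, ?_⟩
  rintro x ⟨y, hy⟩
  obtain ⟨x₁, m, hx⟩ := hpts y
  rw [hy] at hx
  let z : Pt L := (x₁ ≫ b₀)⁻¹ * x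
  have hz : z ≫ l = m ≫ 𝐝 G := by
    simp only [z, MonObj.mul_comp, GrpObj.inv_comp, Category.assoc, hx, inv_mul_cancel_left]
  obtain ⟨a, z', hz'⟩ := exists_conj_mem b₀ hb₀ z
  have hzc : a * z = z * a := (cancel_mono l).1 (by rw [MonObj.mul_comp a z l, MonObj.mul_comp z a l, hz, antiAffine_comm])
  refine ⟨x₁ * z', ?_⟩
  rw [MonObj.mul_comp]
  have e : z' ≫ b₀ = z := by
    have e1 : z' ≫ b₀ = a⁻¹ * z * a := by rw [← hz']; group
    rw [e1, _root_.mul_assoc, ← hzc, inv_mul_cancel_left]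
  rw [e, mul_inv_cancel_left]

/-- Maximal tori of Borel subgroups of affine groups are maximal. -/
theorem isMaxTorus_of_borel_affine [IsAffine L.left] [Smooth L.hom] [ConnectedSpace L.left]
    {B₀ : Over (Sk k)} [GrpObj B₀] {b₀ : B₀ ⟶ L} (hb₀ : Red.IsBorelOver k b₀) {T : Over (Sk k)} [GrpObj T]
    (v : T ⟶ B₀) (hv : AGF.IsMaxTorus v) : AGF.IsMaxTorus (v ≫ b₀) := by
  haveI := hb₀.1; haveI := hb₀.2.1; haveI := hb₀.2.2.1; haveI := hb₀.2.2.2.1
  haveI : IsAffine B₀.left := isAffine_of_isAffineHom b₀.left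
  haveI : Mono b₀ := Over.mono_of_mono_left _
  haveI := hv.1
  obtain ⟨T₁, C₁, gT₁, gC₁, iT₁, c₁, cB, tC, hT₁, -, hcB, htC⟩ := exists_cartan_le b₀ hb₀
  letI := gT₁; letI := gC₁
  have h1 : AGF.IsMaxTorus ((tC ≫ cB) ≫ b₀) := by rwa [Category.assoc, hcB, htC]
  obtain ⟨g, φ, hφ⟩ := Groth.Agent.S3901.result k B₀ T T₁ v (tC ≫ cB) hv (isMaxTorus_of_comp_mono _ b₀ h1)
  have e : v ≫ b₀ = φ.hom ≫ iT₁ ≫ conj (g ≫ b₀) := by
    have h2 := congrArg (· ≫ b₀) hφ
    simp only [H20Conj.conjBy_eq, Category.assoc, conj_comp_hom', GrpObj.inv_comp] at h2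
    rw [← Category.assoc φ.hom, show φ.hom ≫ iT₁ = v ≫ b₀ ≫ conj (g ≫ b₀)⁻¹ by
      rw [← Category.assoc v, ← htC, ← hcB, ← Category.assoc]
      simpa only [Category.assoc] using h2]
    rw [Category.assoc, Category.assoc]
    have h3 := comp_conj_conj (g ≫ b₀)⁻¹ (𝟙 L)
    rw [_root_.inv_inv, Category.id_comp] at h3
    rw [h3, Category.comp_id]
  haveI : IsMonHom (conj (g ≫ b₀)) := isMonHom_conj _
  haveI : IsIso (conj (g ≫ b₀)) := ⟨conj (g ≫ b₀)⁻¹, by
    have := comp_conj_conj (g ≫ b₀) (𝟙 L); rwa [Category.id_comp] at this, by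
    have := comp_conj_conj (g ≫ b₀)⁻¹ (𝟙 L); rwa [Category.id_comp, _root_.inv_inv] at this⟩
  have h4 := isMaxTorus_comp_iso hT₁ (conj (g ≫ b₀))
  obtain ⟨hm4, hmo4, -, hmax4⟩ := id h4
  replace hmax4 := PLift.up hmax4
  haveI := hv.2.1
  refine ⟨inferInstance, inferInstance, hv.2.2.1, fun Z _ j _ _ f hZ hf => ?_⟩
  haveI : IsIso (φ.inv ≫ f) := hmax4.down Z j (φ.inv ≫ f) hZ (by
    rw [Category.assoc, hf, e, φ.inv_hom_id_assoc])
  exact IsIso.of_isIso_comp_left φ.inv f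

/-- **Maximal tori of a Borel subgroup are maximal tori.** -/
theorem isMaxTorus_comp_borel (hb : Red.IsBorelOver k b) {T : Over (Sk k)} [GrpObj T] (t : T ⟶ B)
    (ht : AGF.IsMaxTorus t) : AGF.IsMaxTorus (t ≫ b) := by
  obtain ⟨L, gL, l, hl⟩ := exists_isAffPart (G := G)
  haveI := hl.hom; haveI := hl.closed; haveI := hl.affine; haveI := hl.smooth; haveI := hl.conn
  haveI : Mono l := Over.mono_of_mono_left _
  obtain ⟨B₀, gB₀, b₀, f, hb₀, hf, -, hmem⟩ := exists_affine_borel hl hb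
  haveI := hb.1; haveI := hb.2.1; haveI := hb₀.1; haveI := hb₀.2.1
  haveI : Mono b := Over.mono_of_mono_left _
  haveI : Mono b₀ := Over.mono_of_mono_left _
  haveI : IsMonHom (f ≫ b) := hf ▸ inferInstance
  haveI : IsMonHom f := isMonHom_of_comp_mono f b inferInstance
  haveI : Mono (f ≫ b) := hf ▸ inferInstance
  haveI : Mono f := mono_of_mono f b
  haveI := ht.1; haveI := ht.2.1
  obtain ⟨hTa, hTs, hTc⟩ := torus_props T ht.2.2.1
  haveI := hTs
  obtain ⟨u, hu, hum⟩ := hl.univ T (t ≫ b) hTa hTs hTc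
  haveI := hum
  obtain ⟨v, hv⟩ := exists_factor_of_pts b₀ u fun y =>
    hmem (y ≫ u) ⟨y ≫ t, by rw [Category.assoc, Category.assoc, hu]⟩
  have hvf : v ≫ f = t := (cancel_mono b).1 (by rw [Category.assoc, hf, ← Category.assoc, hv, hu])
  have hvT : AGF.IsMaxTorus v := isMaxTorus_of_comp_mono v f (hvf ▸ ht)
  have h1 := isMaxTorus_of_borel_affine hb₀ v hvT
  rw [hv] at h1
  obtain ⟨-, -, -, hmax⟩ := h1
  replace hmax := PLift.up hmax
  refine ⟨inferInstance, inferInstance, ht.2.2.1, fun Z _ j _ _ q hZ hq => ?_⟩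
  obtain ⟨hZa, hZs, hZc⟩ := torus_props Z hZ
  obtain ⟨j', hj', hj'm⟩ := hl.univ Z j hZa hZs hZc
  haveI := hj'm
  haveI : Mono (j' ≫ l) := hj'.symm ▸ inferInstance
  haveI : Mono j' := mono_of_mono j' l
  exact hmax.down Z j' q hZ ((cancel_mono l).1 (by rw [Category.assoc, hj', hq, hu]))

/-- Borel subgroups of connected groups are conjugate, one inclusion. -/
theorem exists_conj_borel (hb : Red.IsBorelOver k b) {B' : Over (Sk k)} [GrpObj B'] {b' : B' ⟶ G}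
    (hb' : Red.IsBorelOver k b') :
    ∃ (g : Pt G) (φ : B ≅ B'), φ.hom ≫ b' = AGF.conjBy g b := by
  obtain ⟨L, gL, l, hl⟩ := exists_isAffPart (G := G)
  haveI := hl.hom; haveI := hl.closed; haveI := hl.affine; haveI := hl.smooth; haveI := hl.conn
  obtain ⟨B₀, gB₀, b₀, f₀, hb₀, hf₀, hpts, -⟩ := exists_affine_borel hl hb
  obtain ⟨B₀', gB₀', b₀', f₀', hb₀', hf₀', hpts', -⟩ := exists_affine_borel hl hb'
  obtain ⟨g, φ₀, hφ₀⟩ := Groth.Agent.S3900.result k L B₀ B₀' b₀ b₀' hb₀ hb₀'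
  haveI := hb.1; haveI := hb.2.1; haveI := hb.2.2.1
  haveI := hb'.1; haveI := hb'.2.1; haveI := hb'.2.2.1
  haveI : Mono b := Over.mono_of_mono_left _
  haveI : Mono b' := Over.mono_of_mono_left _
  have key : ∀ x : Pt B₀, (g ≫ l) * (x ≫ b₀ ≫ l) * (g ≫ l)⁻¹ = ((x ≫ φ₀.hom) ≫ f₀') ≫ b' := by
    intro x
    rw [Category.assoc, hf₀', ← Category.assoc (x ≫ φ₀.hom), Category.assoc x φ₀.hom, hφ₀, comp_conjBy]
    simp only [MonObj.mul_comp, GrpObj.inv_comp, Category.assoc]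
  have hmem : ∀ y : Pt B, ∃ z : Pt B', z ≫ b' = (g ≫ l) * (y ≫ b) * (g ≫ l)⁻¹ := by
    intro y
    obtain ⟨x, m, hy⟩ := hpts y
    obtain ⟨z, hz⟩ := antiAffine_mem hb' m
    refine ⟨((x ≫ φ₀.hom) ≫ f₀') * z, ?_⟩
    rw [MonObj.mul_comp, ← key, hz, hy]
    simp only [_root_.mul_assoc]
    rw [← antiAffine_comm m (g ≫ l)⁻¹]
  have hmem' : ∀ y : Pt B', ∃ z : Pt B, z ≫ b = (g ≫ l)⁻¹ * (y ≫ b') * (g ≫ l) := by
    intro y
    obtain ⟨x', m, hy⟩ := hpts' y
    obtain ⟨z, hz⟩ := antiAffine_mem hb m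
    obtain ⟨x, rfl⟩ : ∃ x, x ≫ φ₀.hom = x' := ⟨x' ≫ φ₀.inv, by simp⟩
    refine ⟨(x ≫ f₀) * z, ?_⟩
    rw [MonObj.mul_comp, hz, hy, Category.assoc x f₀, hf₀]
    have := key x
    rw [Category.assoc (x ≫ φ₀.hom), hf₀'] at this
    rw [← this]
    simp only [_root_.mul_assoc]
    rw [antiAffine_comm m (g ≫ l)]
    simp only [inv_mul_cancel_left]
  haveI : IsSeparated G.hom := Groth.Agent.H19Grp.AffineQuotient.isSeparated_of_grp G
  haveI : IsSeparated B'.hom := by rw [← Over.w b']; infer_instance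
  obtain ⟨φ, hφ⟩ := exists_factor_of_pts b' (AGF.conjBy (g ≫ l) b) fun y => by
    obtain ⟨z, hz⟩ := hmem y
    exact ⟨z, by rw [hz, comp_conjBy]⟩
  obtain ⟨ψ, hψ⟩ := exists_factor_of_pts b (AGF.conjBy (g ≫ l)⁻¹ b') fun y => by
    obtain ⟨z, hz⟩ := hmem' y
    exact ⟨z, by rw [hz, comp_conjBy, _root_.inv_inv]⟩
  refine ⟨g ≫ l, ⟨φ, ψ, (cancel_mono b).1 (hom_ext_pts fun y => ?_), (cancel_mono b').1 (hom_ext_pts fun y => ?_)⟩, hφ⟩
  · rw [Category.assoc, hψ, ← Category.assoc y, comp_conjBy, Category.assoc y φ, hφ, comp_conjBy, Category.id_comp]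
    group
  · rw [Category.assoc, hφ, ← Category.assoc y, comp_conjBy, Category.assoc y ψ, hψ, comp_conjBy, Category.id_comp]
    group

end H20Borel

end
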