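import Groth.Agent.H20Borel.TorusNorm
import Groth.Agent.H20Borel.BaseBorel
import Groth.Agent.H20Borel.NilCartan
import Groth.Agent.H20Borel.ParabolicNorm
import Groth.Agent.H21Taylor.GrpTransporter
import Groth.Agent.H20Conj.MaxConv
import Groth.Agent.H21Split.Red0.IsoBase

/-!
# Normalizers of maximal tori and Cartan subgroups of algebraic groups
-/

set_option autoImplicit false
set_option linter.style.haveILetI false
set_option backward.isDefEq.respectTransparency false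
set_option maxHeartbeats 1000000
set_option synthInstance.maxHeartbeats 400000

universe u

open CategoryTheory CategoryTheory.Limits MonoidalCategory CartesianMonoidalCategory MonObj AlgebraicGeometry
open Groth.Agent.H27Witt H20Mu H20Conj

noncomputable section

namespace H20Borel

variable {k : Type u} [Field k] [IsAlgClosed k]

local notation "Pt" X => 𝟙_ (Over (Sk k)) ⟶ X

theorem isMaximalTorus_of_isMax {T G : Over (Sk k)} [GrpObj T] [GrpObj G] {i : T ⟶ G} (h : AGF.IsMaxTorus i) :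
    Red.IsMaximalTorus i := by
  haveI := h.1; haveI := h.2.1
  exact Groth.Agent.H21Red0.isMaximalTorus_of_maximal i h.2.2.1 h.2.2.2

variable {G : Over (Sk k)} [GrpObj G] [Smooth G.hom] [QuasiCompact G.hom] [ConnectedSpace G.left]

/-- A maximal torus is a maximal torus of the affine part. -/
theorem exists_torus_affPart {L : Over (Sk k)} [GrpObj L] {l : L ⟶ G} (hl : IsAffPart l) {T : Over (Sk k)} [GrpObj T]
    {i : T ⟶ G} (hT : Red.IsMaximalTorus i) : ∃ v : T ⟶ L, v ≫ l = i ∧ Red.IsMaximalTorus v := by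
  haveI := hl.hom; haveI := hl.closed
  haveI : Mono l := Over.mono_of_mono_left _
  haveI := hT.1
  obtain ⟨hTa, hTs, hTc⟩ := torus_props T hT.2.2.1
  obtain ⟨v, hv, -⟩ := hl.univ T i hTa hTs hTc
  exact ⟨v, hv, isMaximalTorus_of_isMax (isMaxTorus_of_comp_mono v l (hv.symm ▸ isMaxTorus_of_isMaximalTorus hT))⟩

/-- **An element conjugating a maximal torus into its centralizer normalizes it.** -/
theorem exists_conj_torus {T : Over (Sk k)} [GrpObj T] {i : T ⟶ G} (hT : Red.IsMaximalTorus i)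
    {X : Over (Sk k)} (g : X ⟶ G)
    (hg : ∀ (X' : Over (Sk k)) (x : X' ⟶ X) (t s : X' ⟶ T),
      Commute ((x ≫ g) * (t ≫ i) * (x ≫ g)⁻¹) (s ≫ i))
    (X' : Over (Sk k)) (x : X' ⟶ X) (t : X' ⟶ T) :
    ∃ t' : X' ⟶ T, t' ≫ i = (x ≫ g) * (t ≫ i) * (x ≫ g)⁻¹ := by
  obtain ⟨L, gL, l, hl⟩ := exists_isAffPart (G := G)
  obtain ⟨v, hv, hvT⟩ := exists_torus_affPart hl hT
  haveI := hT.1; haveI := hT.2.1; haveI := hl.hom; haveI := hl.closed; haveI := hl.affine
  obtain ⟨hTa, hTs, hTc⟩ := torus_props T hT.2.2.1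
  haveI := hTs
  haveI : LocallyOfFiniteType L.hom := by rw [← Over.w l]; infer_instance
  haveI : IsClosedImmersion v.left := by haveI := hvT.1; haveI := hvT.2.1; exact isClosedImmersion_torus v hT.2.2.1
  haveI : IsClosedImmersion i.left := by rw [← hv, Over.comp_left]; infer_instance
  haveI : LocallyOfFinitePresentation G.hom := inferInstance
  haveI : IsSeparated G.hom := Groth.Agent.H19Grp.AffineQuotient.isSeparated_of_grp G
  haveI : QuasiSeparated G.hom := inferInstance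
  obtain ⟨C, gC, c, hc, hcc, -⟩ := (Groth.Agent.S3006.result (Sk k) G T i inferInstance hT.2.2.1).1
  letI := gC
  haveI := hc.1; haveI := hc.2.1; haveI := hcc
  haveI : IsNoetherianRing (CommRingCat.of k) := inferInstanceAs (IsNoetherianRing k)
  haveI : IsLocallyNoetherian G.left := LocallyOfFiniteType.isLocallyNoetherian G.hom
  haveI : Mono c.left := inferInstance
  let cj : T ⊗ G ⟶ G := snd T G * (fst T G ≫ i) * (snd T G)⁻¹
  have hcj : ∀ {W : Over (Sk k)} (a : W ⟶ T) (b : W ⟶ G), lift a b ≫ cj = b * (a ≫ i) * b⁻¹ := fun a b => by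
    simp only [cj, MonObj.comp_mul, GrpObj.comp_inv, lift_snd, lift_fst_assoc]
  obtain ⟨Tr, tr, htr, -, hTr⟩ := Groth.Agent.H21Taylor.exists_closed_forall_factor_grp (G := G) (H := T)
    (fun s => connected_bc ((Sk k).fromSpecResidueField s) T) cj c
    (fun W b => ⟨1, by rw [hcj, MonObj.one_comp, MonObj.one_comp, _root_.mul_one, mul_inv_cancel]⟩)
    (fun W b a a' ⟨z, hz⟩ ⟨z', hz'⟩ => ⟨z * z', by
      rw [hcj, MonObj.mul_comp, MonObj.mul_comp, hz, hz', hcj, hcj]; group⟩)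
  haveI := htr
  haveI : LocallyOfFiniteType Tr.hom := by rw [← Over.w tr]; infer_instance
  haveI : QuasiCompact Tr.hom := by rw [← Over.w tr]; infer_instance
  obtain ⟨g', hg'⟩ := (hTr X g).mpr fun X' x h => by
    obtain ⟨z, hz⟩ := (hc.2.2 X' ((x ≫ g) * (h ≫ i) * (x ≫ g)⁻¹)).mpr fun X'' y s => by
      simp only [MonObj.comp_mul, GrpObj.comp_inv, ← Category.assoc y]
      have := hg X'' (y ≫ x) (y ≫ h) s
      simpa only [Category.assoc] using this.eq
    exact ⟨z, by rw [hz, hcj]⟩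
  obtain ⟨t', ht'⟩ := conj_mem_torus hl v hvT tr (fun W y a s => by
    obtain ⟨z, hz⟩ := (hTr Tr tr).mp ⟨𝟙 Tr, Category.id_comp _⟩ W y a
    rw [hcj] at hz
    rw [hv, ← hz]
    have e := (hc.2.2 W (z ≫ c)).mp ⟨z, rfl⟩ W (𝟙 W) s
    rwa [Category.id_comp] at e) X' (x ≫ g') t
  refine ⟨t', ?_⟩
  rw [hv, Category.assoc, hg'] at ht'
  exact ht'

/-- **Normalizing the centralizer of a maximal torus is normalizing the torus.** -/
theorem normalizes_cartan_iff {T C : Over (Sk k)} [GrpObj T] [GrpObj C] {i : T ⟶ G} (hT : Red.IsMaximalTorus i)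
    {c : C ⟶ G} (hC : Red.IsCentralizerOf i c) {X : Over (Sk k)} (g : X ⟶ G) :
    (∀ (X' : Over (Sk k)) (x : X' ⟶ X) (h : X' ⟶ C),
      (∃ h' : X' ⟶ C, (x ≫ g) * (h ≫ c) * (x ≫ g)⁻¹ = h' ≫ c) ∧
      (∃ h' : X' ⟶ C, (x ≫ g)⁻¹ * (h ≫ c) * (x ≫ g) = h' ≫ c)) ↔
    (∀ (X' : Over (Sk k)) (x : X' ⟶ X) (h : X' ⟶ T),
      (∃ h' : X' ⟶ T, (x ≫ g) * (h ≫ i) * (x ≫ g)⁻¹ = h' ≫ i) ∧
      (∃ h' : X' ⟶ T, (x ≫ g)⁻¹ * (h ≫ i) * (x ≫ g) = h' ≫ i)) := by
  haveI := hT.1
  obtain ⟨tC, htC⟩ := (hC.2.2 T i).mpr fun X' y s => by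
    rw [← MonObj.mul_comp, ← MonObj.mul_comp, torus_comm hT.2.2.1]
  have hcom : ∀ {W : Over (Sk k)} (z : W ⟶ C) (s : W ⟶ T), Commute (z ≫ c) (s ≫ i) := fun {W} z s => by
    have e := (hC.2.2 W (z ≫ c)).mp ⟨z, rfl⟩ W (𝟙 W) s
    rwa [Category.id_comp] at e
  constructor
  · intro H X' x h
    refine ⟨?_, ?_⟩
    · obtain ⟨t', ht'⟩ := exists_conj_torus hT g (fun W y a s => by
        obtain ⟨z, hz⟩ := (H W y (a ≫ tC)).1
        rw [Category.assoc, htC] at hz
        rw [hz]; exact hcom z s) X' x h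
      exact ⟨t', ht'.symm⟩
    · obtain ⟨t', ht'⟩ := exists_conj_torus hT g⁻¹ (fun W y a s => by
        obtain ⟨z, hz⟩ := (H W y (a ≫ tC)).2
        rw [Category.assoc, htC] at hz
        rw [GrpObj.comp_inv, _root_.inv_inv, hz]; exact hcom z s) X' x h
      rw [GrpObj.comp_inv, _root_.inv_inv] at ht'
      exact ⟨t', ht'.symm⟩
  · intro H X' x h
    refine ⟨?_, ?_⟩
    · obtain ⟨z, hz⟩ := (hC.2.2 X' ((x ≫ g) * (h ≫ c) * (x ≫ g)⁻¹)).mpr fun X'' y s => by
        simp only [MonObj.comp_mul, GrpObj.comp_inv, ← Category.assoc y]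
        obtain ⟨s', hs'⟩ := (H X'' (y ≫ x) s).2
        rw [show s ≫ i = ((y ≫ x) ≫ g) * (s' ≫ i) * ((y ≫ x) ≫ g)⁻¹ by rw [← hs']; group]
        exact ((Commute.conj_iff _).mpr (hcom (y ≫ h) s')).eq
      exact ⟨z, hz.symm⟩
    · obtain ⟨z, hz⟩ := (hC.2.2 X' ((x ≫ g)⁻¹ * (h ≫ c) * (x ≫ g))).mpr fun X'' y s => by
        simp only [MonObj.comp_mul, GrpObj.comp_inv, ← Category.assoc y]
        obtain ⟨s', hs'⟩ := (H X'' (y ≫ x) s).1
        rw [show s ≫ i = ((y ≫ x) ≫ g)⁻¹ * (s' ≫ i) * ((y ≫ x) ≫ g) by rw [← hs']; group]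
        have e := (Commute.conj_iff ((y ≫ x) ≫ g)⁻¹).mpr (hcom (y ≫ h) s')
        rw [_root_.inv_inv] at e
        exact e.eq
      exact ⟨z, hz.symm⟩

/-- The centralizer of a maximal torus of a Borel subgroup lies in it. -/
theorem mem_borel_of_commute {B T : Over (Sk k)} [GrpObj B] [GrpObj T] {b : B ⟶ G} (hb : Red.IsBorelOver k b)
    (t : T ⟶ B) (ht : AGF.IsMaxTorus t) {X : Over (Sk k)} (g : X ⟶ G)
    (hg : ∀ (X' : Over (Sk k)) (x : X' ⟶ X) (s : X' ⟶ T),
      (x ≫ g) * (s ≫ t ≫ b) = (s ≫ t ≫ b) * (x ≫ g)) :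
    ∃ y : X ⟶ B, y ≫ b = g := by
  have hTG := isMaxTorus_comp_borel hb t ht
  obtain ⟨L, gL, l, hl⟩ := exists_isAffPart (G := G)
  haveI := hl.hom; haveI := hl.closed; haveI := hl.affine; haveI := hl.smooth; haveI := hl.conn
  haveI : Mono l := Over.mono_of_mono_left _
  haveI := hb.1; haveI := hb.2.1
  obtain ⟨u, hu, huT⟩ := exists_torus_affPart hl (isMaximalTorus_of_isMax hTG)
  obtain ⟨B₀, gB₀, b₀, f, hb₀, hf, -, hmem⟩ := exists_affine_borel hl hb
  haveI := hb₀.1; haveI := hb₀.2.1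
  haveI := huT.1; haveI := huT.2.1; haveI := hTG.1; haveI := hTG.2.1
  obtain ⟨hTa, hTs, hTc⟩ := torus_props T ht.2.2.1
  haveI := hTs
  obtain ⟨v, hv⟩ := exists_factor_of_pts b₀ u fun y =>
    hmem (y ≫ u) ⟨y ≫ t, by rw [Category.assoc, Category.assoc, hu]⟩
  haveI : IsClosedImmersion u.left := isClosedImmersion_torus u ht.2.2.1
  haveI : IsClosedImmersion (t ≫ b).left := by rw [← hu, Over.comp_left]; infer_instance
  haveI : LocallyOfFinitePresentation G.hom := inferInstance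
  haveI : IsSeparated G.hom := Groth.Agent.H19Grp.AffineQuotient.isSeparated_of_grp G
  haveI : QuasiSeparated G.hom := inferInstance
  obtain ⟨Z, gZ, z, hz, hzc, hzs⟩ := (Groth.Agent.S3006.result (Sk k) G T (t ≫ b) inferInstance ht.2.2.1).1
  letI := gZ; haveI := hzs
  haveI : LocallyOfFinitePresentation L.hom := inferInstance
  haveI : QuasiSeparated L.hom := inferInstance
  obtain ⟨C, gC, c, hc, -, -⟩ := (Groth.Agent.S3006.result (Sk k) L T u inferInstance ht.2.2.1).1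
  letI := gC
  obtain ⟨cB, hcB⟩ := exists_cartan_factor u (isMaxTorus_of_isMaximalTorus huT) c hc b₀ hb₀ v hv
  obtain ⟨zB, hzB⟩ := exists_factor_of_pts b z fun p => by
    obtain ⟨y, m, hym⟩ := hl.decomp (p ≫ z)
    obtain ⟨m', hm'⟩ := antiAffine_mem hb m
    obtain ⟨w, hw⟩ := (hc.2.2 _ y).mpr fun X' x s => by
      refine (cancel_mono l).1 ?_
      rw [MonObj.mul_comp, MonObj.mul_comp, Category.assoc s, hu, Category.assoc x]
      have e := (hz.2.2 _ (p ≫ z)).mp ⟨p, rfl⟩ X' x s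
      rw [hym, MonObj.comp_mul, ← Category.assoc x m] at e
      rw [_root_.mul_assoc, antiAffine_comm (x ≫ m), ← _root_.mul_assoc, ← _root_.mul_assoc] at e
      exact mul_right_cancel e
    refine ⟨(w ≫ cB ≫ f) * m', ?_⟩
    rw [MonObj.mul_comp, hm', hym, Category.assoc, Category.assoc, hf, ← Category.assoc cB, hcB,
      ← Category.assoc w, hw]
  obtain ⟨g', hg'⟩ := (hz.2.2 X g).mpr hg
  exact ⟨g' ≫ zB, by rw [Category.assoc, hzB, hg']⟩

omit [Smooth G.hom] [QuasiCompact G.hom] [ConnectedSpace G.left] in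
/-- The identity component receives all connected groups. -/
theorem exists_neutral (P : Over (Sk k)) [GrpObj P] [Smooth P.hom] [QuasiCompact P.hom] :
    ∃ (E : Over (Sk k)) (_ : GrpObj E) (e : E ⟶ P), IsMonHom e ∧ IsClosedImmersion e.left ∧
      ConnectedSpace E.left ∧ Smooth E.hom ∧ QuasiCompact E.hom ∧
      ∀ (H : Over (Sk k)) [GrpObj H] (i : H ⟶ P) [IsMonHom i], ConnectedSpace H.left →
        ∃ v : H ⟶ E, v ≫ e = i ∧ IsMonHom v := by
  obtain ⟨E, gE, e, he, hec, heo, hEc, hEs, h1⟩ := exists_idComp_smooth P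
  haveI := he; haveI := hec; haveI := heo
  haveI : Mono e := Over.mono_of_mono_left _
  refine ⟨E, gE, e, he, hec, hEc, hEs, by rw [← Over.w e]; infer_instance, fun H _ i _ hH => ?_⟩
  haveI := hH
  have hsub : Set.range i.left ⊆ Set.range e.left := by
    refine (isPreconnected_range i.left.continuous).subset_isClopen
      ⟨e.left.isClosedEmbedding.isClosed_range, e.left.isOpenEmbedding.isOpen_range⟩ ?_
    refine ⟨ptSet (1 : Pt P), ?_, h1⟩
    rw [show (1 : Pt P) = (1 : Pt H) ≫ i from (MonObj.one_comp i).symm, ptSet_comp]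
    exact ⟨_, rfl⟩
  obtain ⟨v, hv⟩ := exists_lift_open e i hsub
  haveI : IsMonHom (v ≫ e) := hv.symm ▸ ‹IsMonHom i›
  exact ⟨v, hv, isMonHom_of_comp_mono v e inferInstance⟩

end H20Borel

end
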