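import Groth.Agent.H20Borel.BaseBorel
import Groth.Prelude.Def_AGF

/-!
# Base change of actions and of quotients
-/

set_option autoImplicit false
set_option linter.style.haveILetI false
set_option backward.isDefEq.respectTransparency false
set_option maxHeartbeats 1000000
set_option synthInstance.maxHeartbeats 100000

universe u

open CategoryTheory CategoryTheory.Limits MonoidalCategory CartesianMonoidalCategory MonObj AlgebraicGeometry
open Groth.Agent.H27Witt H20Mu H20Conj

noncomputable section

namespace H20Borel

variable {S S' : Scheme.{u}} (z : S' ⟶ S) {G X : Over S} [GrpObj G]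

/-- The base change of an action. -/
def bcAct (a : AlgGrp.Action G X) : AlgGrp.Action ((Over.pullback z).obj G) ((Over.pullback z).obj X) where
  act := Functor.LaxMonoidal.μ (Over.pullback z) G X ≫ (Over.pullback z).map a.act
  one_act := by
    rw [Functor.obj.η_def, comp_whiskerRight, Category.assoc, Functor.LaxMonoidal.μ_natural_left_assoc,
      ← Functor.map_comp, a.one_act, ← Functor.LaxMonoidal.left_unitality]
  mul_act := by
    rw [Functor.obj.μ_def, comp_whiskerRight, Category.assoc, Functor.LaxMonoidal.μ_natural_left_assoc,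
      ← Functor.map_comp, a.mul_act, Functor.map_comp, Functor.LaxMonoidal.associativity_assoc,
      MonoidalCategory.whiskerLeft_comp, Category.assoc, Functor.LaxMonoidal.μ_natural_right_assoc,
      Functor.map_comp]

theorem bcAct_orbitMap (a : AlgGrp.Action G X) (o : 𝟙_ (Over S) ⟶ X) :
    (bcAct z a).orbitMap (Functor.LaxMonoidal.ε (Over.pullback z) ≫ (Over.pullback z).map o) =
      (Over.pullback z).map (a.orbitMap o) := by
  rw [AlgGrp.Action.orbitMap, AlgGrp.Action.orbitMap, bcAct, Functor.map_comp, ← Category.assoc (lift _ _),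
    ← Functor.Monoidal.lift_μ, CategoryTheory.Functor.map_id, Functor.map_comp, ← Functor.Monoidal.toUnit_ε]
  simp only [Category.assoc]

theorem bc_isQuotient {H : Over S} [GrpObj H] (i : H ⟶ G) (a : AlgGrp.Action G X) (o : 𝟙_ (Over S) ⟶ X)
    (hX : AGF.IsQuotient i X a o) :
    AGF.IsQuotient ((Over.pullback z).map i) ((Over.pullback z).obj X) (bcAct z a)
      (Functor.LaxMonoidal.ε (Over.pullback z) ≫ (Over.pullback z).map o) := by
  obtain ⟨h1, h2, h3, h4⟩ := hX
  haveI := h2; haveI := h3
  rw [AGF.IsQuotient, bcAct_orbitMap]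
  refine ⟨MorphismProperty.pullback_snd (P := @LocallyOfFiniteType) _ _ h1,
    MorphismProperty.overPullbackMap z _ h2, MorphismProperty.overPullbackMap z _ h3, ?_⟩
  refine (h4.map (Over.pullback z)).of_iso (Functor.Monoidal.μIso (Over.pullback z) G H).symm (Iso.refl _)
    (Iso.refl _) (Iso.refl _) ?_ ?_ (by simp) (by simp)
  · rw [Iso.refl_hom, Category.comp_id, ← Functor.Monoidal.μ_fst (F := Over.pullback z)]
    simp
  · rw [Iso.refl_hom, Category.comp_id, Functor.obj.μ_def, Functor.map_comp, Iso.symm_hom,
      Functor.Monoidal.μIso_inv, Functor.LaxMonoidal.μ_natural_right_assoc, ← Category.assoc,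
      Functor.Monoidal.δ_μ, Category.id_comp]

end H20Borel
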