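import Groth.Agent.H20Torus.Unipotent
import Groth.Agent.H20Comod.Flag
import Mathlib.RingTheory.Coalgebra.GroupLike

/-!
# Characters of trigonalizable Hopf algebras

* An idempotent of the dual algebra killing all group-like elements is zero.
* Diagonalizable quotients: group-like elements lift; two commuting ones are compared on characters.
* A group-like element killed by every one-parameter subgroup of a connected group is trivial.
-/

set_option autoImplicit false
set_option linter.style.haveILetI false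

universe u v w w'

open TensorProduct HopfRep Module
open Groth.Agent.H20Comod Groth.Agent.H20Torus

noncomputable section

namespace H20Borel

section Idem

variable {k : Type u} [Field k] {A : Type v} [CommRing A] [Bialgebra k A]

theorem conv_eq_apply_sliceR (φ ψ : A →ₗ[k] k) (a : A) :
    conv φ ψ a = φ (sliceR ψ (CoalgebraStruct.comul (R := k) a)) := by
  show LinearMap.mul' k k (TensorProduct.map φ ψ (CoalgebraStruct.comul (R := k) a)) = _
  generalize CoalgebraStruct.comul (R := k) a = z
  induction z using TensorProduct.induction_on with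
  | zero => simp
  | tmul x y => simp [mul_comm]
  | add x y hx hy => simp only [map_add, hx, hy]

/-- An idempotent of the dual algebra killing all group-like elements is zero. -/
theorem eq_zero_of_idem (hT : IsTrigonalizable k A) {e : A →ₗ[k] k}
    (he : ∀ a : A, actL e (actL e a) = actL e a) (hg : ∀ g : A, IsGroupLikeElem k g → e g = 0) : e = 0 := by
  classical
  refine LinearMap.ext fun a => ?_
  obtain ⟨F, hF, n, hn⟩ := exists_lineFlag_of_isTrigonalizable hT a
  have key : ∀ i, ∀ v ∈ F i, actL e v = 0 := by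
    intro i
    induction i with
    | zero =>
      intro v hv
      rw [hF.zero, Submodule.mem_bot] at hv
      rw [hv, map_zero]
    | succ i ih =>
      by_cases hle : F (i + 1) ≤ F i
      · exact fun v hv => ih v (hle hv)
      obtain ⟨y, hy, hy'⟩ := SetLike.not_le_iff_exists.1 hle
      obtain ⟨x, hx⟩ := hF.step i
      have hdec : ∀ v ∈ F (i + 1), ∃ z ∈ F i, ∃ c : k, v = z + c • y := by
        intro v hv
        obtain ⟨p, hp, q, hq, hpq⟩ := Submodule.mem_sup.1 (hx hy)
        obtain ⟨p', hp', q', hq', hpq'⟩ := Submodule.mem_sup.1 (hx hv)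
        obtain ⟨c, rfl⟩ := Submodule.mem_span_singleton.1 hq
        obtain ⟨c', rfl⟩ := Submodule.mem_span_singleton.1 hq'
        have hc0 : c ≠ 0 := fun h0 => hy' (by rw [← hpq, h0, zero_smul, add_zero]; exact hp)
        refine ⟨p' - (c' / c) • p, sub_mem hp' (Submodule.smul_mem _ _ hp), c' / c, ?_⟩
        rw [← hpq, ← hpq', smul_add, smul_smul, div_mul_cancel₀ c' hc0]
        abel
      obtain ⟨g₀, hg₀y, hg₀⟩ : ∃ g₀ : A →ₗ[k] k, g₀ y = 1 ∧ ∀ z ∈ F i, g₀ z = 0 := by
        obtain ⟨f, hf1, hf2⟩ := Submodule.exists_dual_map_eq_bot_of_notMem hy' inferInstance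
        refine ⟨(f y)⁻¹ • f, by simp [inv_mul_cancel₀ hf1], fun z hz => ?_⟩
        have h0 : f z = 0 := (Submodule.mem_bot k).1 (hf2 ▸ Submodule.mem_map_of_mem hz)
        simp [h0]
      set g := coeff A g₀ y with hgdef
      have hact : ∀ φ : A →ₗ[k] k, ∃ z ∈ F i, actL φ y = z + φ g • y := by
        intro φ
        obtain ⟨z, hz, c, hc⟩ := hdec _ (actL_mem_of_isSubcomod (hF.isSub (i + 1)) φ hy)
        refine ⟨z, hz, ?_⟩
        rw [hgdef, apply_coeff, hc, map_add, map_smul, hg₀ z hz, hg₀y, zero_add, smul_eq_mul, mul_one]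
      have hgl : IsGroupLikeElem k g := by
        refine ⟨by rw [hgdef, apply_coeff, actL_counit, hg₀y], ?_⟩
        refine sub_eq_zero.1 (eq_zero_of_forall_sliceR fun ψ => ?_)
        refine (Module.forall_dual_apply_eq_zero_iff k _).1 fun φ => ?_
        obtain ⟨z, hz, hzy⟩ := hact ψ
        obtain ⟨z', hz', hzy'⟩ := hact φ
        have h1 : conv φ ψ g = ψ g * φ g := by
          rw [hgdef, apply_coeff, actL_conv, ← hgdef, hzy, map_add, map_smul, hzy', map_add, map_smul, map_add,
            map_smul, hg₀ _ (actL_mem_of_isSubcomod (hF.isSub i) φ hz), hg₀ _ hz', hg₀y, zero_add, zero_add,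
            smul_eq_mul, smul_eq_mul, mul_one]
        rw [map_sub, map_sub, ← conv_eq_apply_sliceR, sliceR_tmul, map_smul, smul_eq_mul, h1, sub_self]
      intro v hv
      obtain ⟨z, hz, c, rfl⟩ := hdec v hv
      obtain ⟨z', hz', hzy⟩ := hact e
      rw [hg g hgl, zero_smul, add_zero] at hzy
      rw [← he]
      refine ih _ ?_
      rw [map_add, map_smul, hzy]
      exact add_mem (actL_mem_of_isSubcomod (hF.isSub i) e hz) (Submodule.smul_mem _ _ hz')
  have h := congrArg (CoalgebraStruct.counit (R := k)) (key n a hn)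
  rw [map_zero, ← apply_coeff, coeff_counit] at h
  exact h

end Idem

section Diag

variable {k : Type u} [Field k] {B : Type v} [CommRing B] [Bialgebra k B]

/-- The group-like elements of a diagonalizable bialgebra form a basis. -/
def glBasis (hB : IsDiagonalizable k B) : Basis {b : B // IsGroupLikeElem k b} k B :=
  Basis.mk (v := Subtype.val) linearIndepOn_isGroupLikeElem
    (by rw [Subtype.range_coe_subtype]; exact le_of_eq hB.symm)

theorem glBasis_apply (hB : IsDiagonalizable k B) (γ : {b : B // IsGroupLikeElem k b}) :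
    glBasis hB γ = (γ : B) := Basis.mk_apply _ _ γ

theorem coord_groupLike (hB : IsDiagonalizable k B) {b : B} (hb : IsGroupLikeElem k b)
    (γ : {b : B // IsGroupLikeElem k b}) [Decidable ((γ : B) = b)] :
    (glBasis hB).coord γ b = if (γ : B) = b then 1 else 0 := by
  have h : b = glBasis hB ⟨b, hb⟩ := (glBasis_apply hB ⟨b, hb⟩).symm
  conv_lhs => rw [h]
  rw [Basis.coord_apply, Basis.repr_self]
  split_ifs with h1
  · rw [show γ = ⟨b, hb⟩ from Subtype.ext h1, Finsupp.single_eq_same]
  · exact Finsupp.single_eq_of_ne fun e => h1 (congrArg Subtype.val e)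

theorem conv_coord_self (hB : IsDiagonalizable k B) (γ : {b : B // IsGroupLikeElem k b}) :
    conv ((glBasis hB).coord γ) ((glBasis hB).coord γ) = (glBasis hB).coord γ := by
  classical
  refine (glBasis hB).ext fun δ => ?_
  rw [glBasis_apply, conv_eq_apply_sliceR, δ.2.comul_eq_tmul_self, sliceR_tmul, map_smul,
    coord_groupLike hB δ.2]
  split_ifs <;> simp

theorem eq_sum_coord (hB : IsDiagonalizable k B) (b : B) (S : Finset {b : B // IsGroupLikeElem k b})
    (hS : ((glBasis hB).repr b).support ⊆ S) :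
    CoalgebraStruct.counit (R := k) b = ∑ γ ∈ S, (glBasis hB).coord γ b := by
  conv_lhs => rw [← (glBasis hB).linearCombination_repr b, Finsupp.linearCombination_apply, Finsupp.sum, map_sum]
  rw [← Finset.sum_subset hS fun γ _ hγ => by
    rw [Basis.coord_apply]; exact Finsupp.notMem_support_iff.1 hγ]
  refine Finset.sum_congr rfl fun γ _ => ?_
  rw [map_smul, glBasis_apply, γ.2.counit_eq_one, smul_eq_mul, mul_one, Basis.coord_apply]

variable {A : Type w} [CommRing A] [Bialgebra k A]

theorem conv_comp_hom (p : A →ₐc[k] B) (φ ψ : B →ₗ[k] k) :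
    conv (φ ∘ₗ (p : A →ₗ[k] B)) (ψ ∘ₗ (p : A →ₗ[k] B)) = conv φ ψ ∘ₗ (p : A →ₗ[k] B) := by
  refine LinearMap.ext fun a => ?_
  show LinearMap.mul' k k (TensorProduct.map _ _ (CoalgebraStruct.comul (R := k) a)) =
    LinearMap.mul' k k (TensorProduct.map φ ψ (CoalgebraStruct.comul (R := k) (p a)))
  rw [← CoalgHomClass.map_comp_comul_apply, TensorProduct.map_map]

variable (hT : IsTrigonalizable k A)
include hT

/-- Group-like elements lift along surjections onto diagonalizable bialgebras. -/
theorem exists_groupLike_lift (hB : IsDiagonalizable k B) (p : A →ₐc[k] B) (hp : Function.Surjective p)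
    {γ : B} (hγ : IsGroupLikeElem k γ) : ∃ g : A, IsGroupLikeElem k g ∧ p g = γ := by
  classical
  by_contra hcon
  push Not at hcon
  have he : ((glBasis hB).coord ⟨γ, hγ⟩) ∘ₗ (p : A →ₗ[k] B) = 0 := by
    refine eq_zero_of_idem hT (fun a => ?_) fun g hg => ?_
    · rw [← actL_conv, conv_comp_hom, conv_coord_self]
    · show (glBasis hB).coord ⟨γ, hγ⟩ (p g) = 0
      rw [coord_groupLike hB (hg.map p), if_neg]
      exact fun e => hcon g hg e.symm
  obtain ⟨a, ha⟩ := hp γ
  have h := LinearMap.congr_fun he a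
  rw [LinearMap.comp_apply, LinearMap.zero_apply] at h
  change (glBasis hB).coord ⟨γ, hγ⟩ (p a) = 0 at h
  rw [ha, coord_groupLike hB hγ, if_pos rfl] at h
  exact one_ne_zero h

/-- **Comparison of two commuting diagonalizable quotients**: if group-like elements are separated by the
first one, the second one factors through it. -/
theorem ker_le_of_commute {B' : Type w'} [CommRing B'] [Bialgebra k B'] (hB : IsDiagonalizable k B)
    (hB' : IsDiagonalizable k B') (p : A →ₐc[k] B) (q : A →ₐc[k] B')
    (hcomm : ∀ (φ : B →ₗ[k] k) (ψ : B' →ₗ[k] k), conv (φ ∘ₗ (p : A →ₗ[k] B)) (ψ ∘ₗ (q : A →ₗ[k] B')) =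
      conv (ψ ∘ₗ (q : A →ₗ[k] B')) (φ ∘ₗ (p : A →ₗ[k] B)))
    (hinj : ∀ g g' : A, IsGroupLikeElem k g → IsGroupLikeElem k g' → p g = p g' → g = g')
    {a : A} (ha : p a = 0) : q a = 0 := by
  classical
  let b := glBasis hB
  let b' := glBasis hB'
  let f := fun γ => b.coord γ ∘ₗ (p : A →ₗ[k] B)
  let h := fun η => b'.coord η ∘ₗ (q : A →ₗ[k] B')
  have hidem : ∀ γ η, ∀ x : A, actL (conv (f γ) (h η)) (actL (conv (f γ) (h η)) x) = actL (conv (f γ) (h η)) x := by
    intro γ η x
    have hc : ∀ y : A, actL (h η) (actL (f γ) y) = actL (f γ) (actL (h η) y) := fun y => by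
      rw [← actL_conv, ← actL_conv, hcomm]
    have hf2 : ∀ y : A, actL (f γ) (actL (f γ) y) = actL (f γ) y := fun y => by
      rw [← actL_conv, conv_comp_hom, conv_coord_self]
    have hh2 : ∀ y : A, actL (h η) (actL (h η) y) = actL (h η) y := fun y => by
      rw [← actL_conv, conv_comp_hom, conv_coord_self]
    simp only [actL_conv]
    rw [hc, hf2, hh2]
  have hval : ∀ γ η (g : A), IsGroupLikeElem k g →
      conv (f γ) (h η) g = if (γ : B) = p g ∧ (η : B') = q g then 1 else 0 := by
    intro γ η g hg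
    rw [conv_eq_apply_sliceR, hg.comul_eq_tmul_self, sliceR_tmul, map_smul]
    show b'.coord η (q g) * b.coord γ (p g) = _
    rw [coord_groupLike hB' (hg.map q), coord_groupLike hB (hg.map p)]
    split_ifs <;> simp_all
  have hzero : ∀ (γ : {x : B // IsGroupLikeElem k x}) (η : {x : B' // IsGroupLikeElem k x}), (¬ ∃ g : A, IsGroupLikeElem k g ∧ (γ : B) = p g ∧ (η : B') = q g) → conv (f γ) (h η) = 0 := by
    intro γ η hno
    refine eq_zero_of_idem hT (hidem γ η) fun g hg => ?_
    rw [hval γ η g hg, if_neg]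
    exact fun e => hno ⟨g, hg, e⟩
  obtain ⟨s, hs⟩ := TensorProduct.exists_finset (CoalgebraStruct.comul (R := k) a)
  let S := s.biUnion fun xy => (b.repr (p xy.1)).support
  let S' := s.biUnion fun xy => (b'.repr (q xy.2)).support
  have hfa : ∀ γ, f γ a = 0 := fun γ => by
    show b.coord γ (p a) = 0
    rw [ha, map_zero]
  have hsum : ∀ (φ ψ : A →ₗ[k] k), conv φ ψ a = ∑ xy ∈ s, φ xy.1 * ψ xy.2 := fun φ ψ => by
    show LinearMap.mul' k k (TensorProduct.map φ ψ _) = _
    rw [hs, map_sum, map_sum]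
    exact Finset.sum_congr rfl fun xy _ => by simp
  have hL : ∀ η, h η a = ∑ γ ∈ S, conv (f γ) (h η) a := by
    intro η
    have h1 : h η a = conv (CoalgebraStruct.counit (R := k)) (h η) a := by
      rw [conv_eq_apply_sliceR]
      have e : ∀ z : A ⊗[k] A, CoalgebraStruct.counit (R := k) (sliceR (h η) z) =
          h η (TensorProduct.lid k A (LinearMap.rTensor A (CoalgebraStruct.counit (R := k)) z)) := fun z => by
        induction z using TensorProduct.induction_on with
        | zero => simp
        | tmul x y => simp [mul_comm]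
        | add x y hx hy => simp only [map_add, hx, hy]
      rw [e, Coalgebra.rTensor_counit_comul]
      simp
    rw [h1, hsum]
    simp only [hsum]
    rw [Finset.sum_comm]
    refine Finset.sum_congr rfl fun xy hxy => ?_
    rw [← Finset.sum_mul]
    congr 1
    rw [← CoalgHomClass.counit_comp_apply p]
    exact eq_sum_coord hB (p xy.1) S fun γ hγ => Finset.mem_biUnion.2 ⟨xy, hxy, hγ⟩
  have hR : ∀ γ (T : Finset {b : B' // IsGroupLikeElem k b}), S' ⊆ T → f γ a = ∑ η ∈ T, conv (f γ) (h η) a := by
    intro γ T hT'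
    have h1 : f γ a = conv (f γ) (CoalgebraStruct.counit (R := k)) a := by
      rw [conv_eq_apply_sliceR]
      exact congrArg (f γ) (actL_counit (k := k) (A := A) (V := A) a).symm
    rw [h1, hsum]
    simp only [hsum]
    rw [Finset.sum_comm]
    refine Finset.sum_congr rfl fun xy hxy => ?_
    rw [← Finset.mul_sum]
    congr 1
    rw [← CoalgHomClass.counit_comp_apply q]
    exact eq_sum_coord hB' (q xy.2) T fun η hη => hT' (Finset.mem_biUnion.2 ⟨xy, hxy, hη⟩)
  refine b'.ext_elem fun η => ?_
  rw [map_zero, Finsupp.zero_apply]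
  show h η a = 0
  rw [hL]
  refine Finset.sum_eq_zero fun γ _ => ?_
  by_cases hg : ∃ g : A, IsGroupLikeElem k g ∧ (γ : B) = p g ∧ (η : B') = q g
  · obtain ⟨g, hgl, hpg, hqg⟩ := hg
    have h2 := hR γ (insert η S') (Finset.subset_insert _ _)
    rw [hfa, Finset.sum_eq_single η (fun η' _ hne => ?_) (fun hn => absurd (Finset.mem_insert_self _ _) hn)] at h2
    · exact h2.symm
    · rw [hzero γ η' ?_, LinearMap.zero_apply]
      rintro ⟨g', hgl', hpg', hqg'⟩
      obtain rfl := hinj g g' hgl hgl' (hpg.symm.trans hpg')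
      exact hne (Subtype.ext (hqg'.trans hqg.symm))
  · rw [hzero γ η hg, LinearMap.zero_apply]

end Diag

section Bound

variable {k : Type u} [Field k] {A : Type u} [CommRing A] [HopfAlgebra k A]
variable {N : ℕ} {C : Matrix (Fin N) (Fin N) A}

/-- Either a multiple of a vector lies in a lattice, or some functional killing it sees the vector. -/
theorem exists_functional_at {N : ℕ} (L : Submodule ℤ (Fin N → ℤ)) (v : Fin N → ℤ) :
    (∃ e : ℕ, 0 < e ∧ (e : ℤ) • v ∈ L) ∨
      ∃ φ : (Fin N → ℤ) →ₗ[ℤ] ℤ, (∀ d ∈ L, φ d = 0) ∧ φ v ≠ 0 := by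
  classical
  let Q := (Fin N → ℤ) ⧸ L
  let T : Submodule ℤ Q := Submodule.torsion ℤ Q
  haveI : Module.Free ℤ (Q ⧸ T) := Module.free_of_finite_type_torsion_free'
  let b := Module.Free.chooseBasis ℤ (Q ⧸ T)
  by_cases hv : L.mkQ v ∈ T
  · obtain ⟨a, ha⟩ := (Submodule.mem_torsion_iff _).1 hv
    have ha0 : (a : ℤ) ≠ 0 := nonZeroDivisors.ne_zero a.2
    refine Or.inl ⟨(a : ℤ).natAbs, Int.natAbs_pos.2 ha0, ?_⟩
    have h1 : (a : ℤ) • v ∈ L := by
      rw [← Submodule.Quotient.mk_eq_zero L, Submodule.Quotient.mk_smul]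
      exact ha
    rcases Int.natAbs_eq (a : ℤ) with h | h
    · rwa [← h]
    · rw [show (((a : ℤ).natAbs : ℕ) : ℤ) = -(a : ℤ) by omega, neg_smul]
      exact L.neg_mem h1
  · have hne : b.repr (T.mkQ (L.mkQ v)) ≠ 0 := fun e =>
      hv ((Submodule.Quotient.mk_eq_zero T).1 (b.repr.injective (e.trans (map_zero _).symm)))
    obtain ⟨j, hj⟩ := Finsupp.ne_iff.1 hne
    refine Or.inr ⟨b.coord j ∘ₗ T.mkQ ∘ₗ L.mkQ, fun d hd => ?_, ?_⟩
    · rw [LinearMap.comp_apply, LinearMap.comp_apply, show L.mkQ d = 0 from (Submodule.Quotient.mk_eq_zero L).2 hd,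
        map_zero, map_zero]
    · rw [LinearMap.comp_apply, LinearMap.comp_apply, Module.Basis.coord_apply]
      exact hj

/-- A matrix one-parameter family satisfying the equations is a bialgebra map. -/
theorem exists_oneParam (hC : GenMatrix (k := k) N C)
    {P Q : Matrix (Fin N) (Fin N) k} (hQP : Q * P = 1) (lam : Fin N → ℤ)
    (ψ : A →ₐ[k] MonoidAlgebra k (Multiplicative ℤ))
    (hψ : C.map ψ = P.map (algebraMap k (MonoidAlgebra k (Multiplicative ℤ))) *
        Matrix.diagonal (fun i => MonoidAlgebra.single (Multiplicative.ofAdd (lam i)) (1 : k)) *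
      Q.map (algebraMap k (MonoidAlgebra k (Multiplicative ℤ)))) :
    ∃ φ : A →ₐc[k] MonoidAlgebra k (Multiplicative ℤ), ∀ x, φ x = ψ x := by
  classical
  let R := MonoidAlgebra k (Multiplicative ℤ)
  let u : Fin N → R := fun i => MonoidAlgebra.single (Multiplicative.ofAdd (lam i)) (1 : k)
  have hPQ : P * Q = 1 := mul_eq_one_comm.1 hQP
  have hent : ∀ i j, ψ (C i j) =
      (P.map (algebraMap k R) * Matrix.diagonal u * Q.map (algebraMap k R)) i j := fun i j =>
    congrFun (congrFun hψ i) j
  have hc : (Bialgebra.counitAlgHom k R).comp ψ = Bialgebra.counitAlgHom k A :=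
    AlgHom.ext_of_adjoin_eq_top hC.adjoin fun x hx => by
      obtain ⟨⟨i, j⟩, rfl⟩ := hx
      show Bialgebra.counitAlgHom k R (ψ (C i j)) = CoalgebraStruct.counit (R := k) (C i j)
      rw [hent, hC.counit, ← Matrix.one_apply, ← hPQ]
      simp only [Matrix.mul_apply, Matrix.map_apply, Matrix.diagonal_apply, mul_ite, mul_zero,
        Finset.sum_ite_eq', Finset.mem_univ, if_true, map_sum, map_mul, AlgHom.commutes, Algebra.algebraMap_self,
        RingHom.id_apply]
      refine Finset.sum_congr rfl fun l _ => ?_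
      rw [show Bialgebra.counitAlgHom k R (u l) = 1 by simp [u, R], mul_one]
  have hΔ : (Algebra.TensorProduct.map ψ ψ).comp (Bialgebra.comulAlgHom k A) = (Bialgebra.comulAlgHom k R).comp ψ :=
    AlgHom.ext_of_adjoin_eq_top hC.adjoin fun x hx => by
      obtain ⟨⟨i, j⟩, rfl⟩ := hx
      let iL : R →ₐ[k] R ⊗[k] R := Algebra.TensorProduct.includeLeft
      let iR : R →ₐ[k] R ⊗[k] R := Algebra.TensorProduct.includeRight
      let MR := P.map (algebraMap k R) * Matrix.diagonal u * Q.map (algebraMap k R)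
      have hl : Algebra.TensorProduct.map ψ ψ (CoalgebraStruct.comul (R := k) (C i j)) =
          (MR.map iL * MR.map iR) i j := by
        rw [hC.comul, map_sum, Matrix.mul_apply]
        refine Finset.sum_congr rfl fun l _ => ?_
        rw [Algebra.TensorProduct.map_tmul, hent, hent, Matrix.map_apply, Matrix.map_apply]
        simp [iL, iR, MR, Algebra.TensorProduct.tmul_mul_tmul]
      show Algebra.TensorProduct.map ψ ψ (CoalgebraStruct.comul (R := k) (C i j)) =
        Bialgebra.comulAlgHom k R (ψ (C i j))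
      rw [hl, hent]
      show (MR.map iL * MR.map iR) i j = (MR.map (Bialgebra.comulAlgHom k R)) i j
      congr 2
      have hsc : ∀ (F : R →ₐ[k] R ⊗[k] R) (X : Matrix (Fin N) (Fin N) k),
          (X.map (algebraMap k R)).map F = X.map (algebraMap k (R ⊗[k] R)) := fun F X =>
        Matrix.ext fun a b => F.commutes _
      have hdiag : (Matrix.diagonal u).map iL * (Matrix.diagonal u).map iR =
          (Matrix.diagonal u).map (Bialgebra.comulAlgHom k R) := by
        rw [Matrix.diagonal_map (map_zero _), Matrix.diagonal_map (map_zero _), Matrix.diagonal_map (map_zero _),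
          Matrix.diagonal_mul_diagonal]
        congr 1
        funext l
        simp [iL, iR, u, R, Algebra.TensorProduct.tmul_mul_tmul]
      have hone : Q.map (algebraMap k (R ⊗[k] R)) * P.map (algebraMap k (R ⊗[k] R)) = 1 := by
        rw [← Matrix.map_mul, hQP, Matrix.map_one _ (map_zero _) (map_one _)]
      simp only [MR, Matrix.map_mul, hsc]
      rw [← hdiag]
      simp only [Matrix.mul_assoc]
      rw [← Matrix.mul_assoc (Q.map _) (P.map _), hone, Matrix.one_mul]
  exact ⟨BialgHom.ofAlgHom ψ hc hΔ, fun x => rfl⟩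

set_option maxHeartbeats 400000 in
/-- **The bound at one entry**: if one-parameter subgroups are trivial on the entry `i₀`, then so are
diagonalisable points, up to a fixed power. -/
theorem exists_bound_at (hC : GenMatrix (k := k) N C) (i₀ : Fin N)
    (hno : ∀ φ : A →ₐc[k] MonoidAlgebra k (Multiplicative ℤ), φ (C i₀ i₀) = 1) :
    ∃ M : ℕ, 0 < M ∧ ∀ (g : A →ₐ[k] k) (P Q : Matrix (Fin N) (Fin N) k) (t : Fin N → k),
      Q * P = 1 → C.map g = P * Matrix.diagonal t * Q → (∀ j, j ≠ i₀ → P i₀ j = 0) → t i₀ ^ M = 1 := by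
  classical
  let π : MvPolynomial (Fin N × Fin N) k →ₐ[k] A := MvPolynomial.aeval fun p => C p.1 p.2
  have hπ : Function.Surjective π := by
    rw [← AlgHom.range_eq_top, eq_top_iff, ← hC.adjoin, Algebra.adjoin_le_iff]
    rintro _ ⟨p, rfl⟩
    exact ⟨MvPolynomial.X p, MvPolynomial.aeval_X _ _⟩
  obtain ⟨s, hs⟩ := IsNoetherian.noetherian (RingHom.ker π)
  let univ : MvPolynomial (Fin N × Fin N) k →ₐ[k]
      MvPolynomial (Fin N) (MvPolynomial ((Fin N × Fin N) ⊕ (Fin N × Fin N)) k) := MvPolynomial.aeval fun p =>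
    ∑ l, MvPolynomial.C (MvPolynomial.X (Sum.inl (p.1, l))) * MvPolynomial.X l *
      MvPolynomial.C (MvPolynomial.X (Sum.inr (l, p.2)))
  let Supp : Finset (Fin N →₀ ℕ) := s.biUnion fun f => (univ f).support
  let Lat : Finset ((Fin N →₀ ℕ) × (Fin N →₀ ℕ)) → Submodule ℤ (Fin N → ℤ) := fun R =>
    Submodule.span ℤ ((fun m : (Fin N →₀ ℕ) × (Fin N →₀ ℕ) => fun j => (m.1 j : ℤ) - (m.2 j : ℤ)) '' (↑R : Set ((Fin N →₀ ℕ) × (Fin N →₀ ℕ))))
  let Good : Finset ((Fin N →₀ ℕ) × (Fin N →₀ ℕ)) → Prop := fun R =>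
    ∃ e : ℕ, 0 < e ∧ (e : ℤ) • (Pi.single i₀ 1 : Fin N → ℤ) ∈ Lat R
  let expo : Finset ((Fin N →₀ ℕ) × (Fin N →₀ ℕ)) → ℕ := fun R => if h : Good R then h.choose else 1
  refine ⟨∏ R ∈ (Supp ×ˢ Supp).powerset, expo R, Finset.prod_pos fun R _ => ?_, fun g P Q t hQP hg hP => ?_⟩
  · simp only [expo]
    split_ifs with h
    exacts [h.choose_spec.1, Nat.one_pos]
  have hPQ : P * Q = 1 := mul_eq_one_comm.1 hQP
  let gc : WithConv (A →ₐ[k] k) := WithConv.toConv g
  have hpow : ∀ n : ℕ, C.map (gc ^ n).ofConv = P * Matrix.diagonal (fun i => t i ^ n) * Q := by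
    intro n
    rw [hC.map_conv_pow]
    show C.map g ^ n = _
    induction n with
    | zero => simp [hPQ]
    | succ n ih =>
      rw [pow_succ, ih, hg, show P * Matrix.diagonal (fun i => t i ^ n) * Q * (P * Matrix.diagonal t * Q) =
        P * Matrix.diagonal (fun i => t i ^ n) * (Q * P) * Matrix.diagonal t * Q by simp only [Matrix.mul_assoc],
        hQP, Matrix.mul_one, Matrix.mul_assoc P, Matrix.diagonal_mul_diagonal]
      simp_rw [← pow_succ]
  have ht : ∀ i, t i ≠ 0 := by
    intro i hi
    have hu : IsUnit (C.map gc.ofConv).det := by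
      have h2 : C.map (gc * gc⁻¹).ofConv = 1 := by rw [mul_inv_cancel, hC.map_counit]
      rw [hC.map_conv] at h2
      exact IsUnit.of_mul_eq_one _ ((Matrix.det_mul _ _).symm.trans ((congrArg Matrix.det h2).trans Matrix.det_one))
    rw [show gc.ofConv = g from rfl, hg, Matrix.det_mul, Matrix.det_mul, Matrix.det_diagonal,
      Finset.prod_eq_zero (Finset.mem_univ i) hi, mul_zero, zero_mul] at hu
    exact not_isUnit_zero hu
  let R₀ := (Supp ×ˢ Supp).filter fun m => ∏ i, t i ^ (m.1 i) = ∏ i, t i ^ (m.2 i)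
  have hgood : Good R₀ := by
    rcases exists_functional_at (Lat R₀) (Pi.single i₀ 1) with h | ⟨φ, hφ, hv⟩
    · exact h
    exfalso
    let R := MonoidAlgebra k (Multiplicative ℤ)
    let lam : Fin N → ℤ := fun i => φ (Pi.single i 1)
    have hφeq : ∀ d : Fin N → ℤ, φ d = ∑ i, d i * lam i := fun d => by
      conv_lhs => rw [pi_eq_sum_univ' d]
      rw [map_sum]
      exact Finset.sum_congr rfl fun i _ => (map_smul φ (d i) _).trans (smul_eq_mul _ _)
    let u : Fin N → R := fun i => MonoidAlgebra.single (Multiplicative.ofAdd (lam i)) (1 : k)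
    let MR := P.map (algebraMap k R) * Matrix.diagonal u * Q.map (algebraMap k R)
    have hemprod := fun m : Fin N →₀ ℕ => prod_single_pow (k := k) lam m
    have hker : RingHom.ker π ≤ RingHom.ker (MvPolynomial.aeval fun p : Fin N × Fin N => MR p.1 p.2 :
        MvPolynomial (Fin N × Fin N) k →ₐ[k] R) := by
      rw [← hs, Submodule.span_le]
      intro f hf
      let q : MvPolynomial (Fin N) k := MvPolynomial.mapAlgHom (σ := Fin N)
        (MvPolynomial.aeval (Sum.elim (fun p => P p.1 p.2) fun p => Q p.1 p.2) :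
          MvPolynomial ((Fin N × Fin N) ⊕ (Fin N × Fin N)) k →ₐ[k] k) (univ f)
      have hsupp : q.support ⊆ Supp := fun m hm =>
        Finset.mem_biUnion.2 ⟨f, hf, MvPolynomial.support_map_subset _ _ hm⟩
      have hfker : π f = 0 := RingHom.mem_ker.1 (hs.le (Submodule.subset_span hf))
      show MvPolynomial.aeval (fun p : Fin N × Fin N => MR p.1 p.2) f = 0
      rw [← aeval_specialise P Q u f]
      refine aeval_eq_zero_of_forall_pow q t (fun n => ?_) u fun m hm m' hm' hmm' => ?_
      · refine (aeval_specialise P Q (fun i => t i ^ n) f).trans ?_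
        have hid : ∀ X : Matrix (Fin N) (Fin N) k, X.map (algebraMap k k) = X := fun X => Matrix.ext fun a b => rfl
        rw [hid, hid, ← hpow n]
        show MvPolynomial.aeval (fun p : Fin N × Fin N => (gc ^ n).ofConv (C p.1 p.2)) f = 0
        rw [← MvPolynomial.comp_aeval_apply, show MvPolynomial.aeval _ f = π f from rfl, hfker, map_zero]
      · rw [hemprod, hemprod]
        congr 2
        have hmem : (m, m') ∈ R₀ := Finset.mem_filter.2 ⟨Finset.mem_product.2 ⟨hsupp hm, hsupp hm'⟩, hmm'⟩
        have h0 := hφ _ (Submodule.subset_span ⟨(m, m'), hmem, rfl⟩)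
        rw [hφeq] at h0
        simp only [sub_mul, Finset.sum_sub_distrib] at h0
        exact sub_eq_zero.1 h0
    obtain ⟨ψ, hψ'⟩ := exists_factor_of_surjective π hπ _ hker
    have hψ : ∀ i j, ψ (C i j) = MR i j := fun i j => by
      have := hψ' (MvPolynomial.X (i, j))
      exact ((congrArg ψ (MvPolynomial.aeval_X _ _)).symm.trans this).trans (MvPolynomial.aeval_X _ _)
    obtain ⟨Φ, hΦ⟩ := exists_oneParam hC hQP lam ψ (Matrix.ext fun i j => by rw [Matrix.map_apply, hψ])
    have h1 : MR i₀ i₀ = u i₀ := by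
      have hPQ' : P i₀ i₀ * Q i₀ i₀ = 1 := by
        have h := congrFun (congrFun hPQ i₀) i₀
        rw [Matrix.mul_apply, Finset.sum_eq_single i₀ (fun j _ hj => by rw [hP j hj, zero_mul]) (by simp),
          Matrix.one_apply_eq] at h
        exact h
      show (P.map (algebraMap k R) * Matrix.diagonal u * Q.map (algebraMap k R)) i₀ i₀ = _
      rw [Matrix.mul_apply, Finset.sum_eq_single i₀ (fun j _ hj => by simp [Matrix.mul_diagonal, hP j hj]) (by simp),
        Matrix.mul_diagonal, Matrix.map_apply, Matrix.map_apply, mul_comm (algebraMap k R (P i₀ i₀)), mul_assoc,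
        ← map_mul, hPQ', map_one, mul_one]
    have h2 := hno Φ
    rw [hΦ, hψ, h1] at h2
    refine hv ?_
    have h3 := congrArg (fun z : R => z.coeff 1) h2
    by_contra hne
    have hne' : Multiplicative.ofAdd (lam i₀) ≠ 1 := fun e => hne (congrArg Multiplicative.toAdd e)
    simp [u, hne', MonoidAlgebra.one_def] at h3
  obtain ⟨e', he'⟩ := Finset.dvd_prod_of_mem expo (Finset.mem_powerset.2 (Finset.filter_subset _ _) :
    R₀ ∈ (Supp ×ˢ Supp).powerset)
  have hexp : expo R₀ = hgood.choose := by simp only [expo]; rw [dif_pos hgood]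
  have h2 : t i₀ ^ hgood.choose = 1 :=
    pow_eq_one_of_mem ht _ (fun m hm => (Finset.mem_filter.1 hm).2) _ i₀ hgood.choose_spec.2
  rw [he', hexp, pow_mul, h2, one_pow]

/-- A square matrix enlarged by one diagonal entry. -/
def ext1 {R : Type*} [Zero R] {N : ℕ} (X : Matrix (Fin N) (Fin N) R) (x : R) :
    Matrix (Fin (N + 1)) (Fin (N + 1)) R :=
  Matrix.of fun a b => Fin.lastCases (Fin.lastCases x (fun _ => 0) b) (fun i => Fin.lastCases 0 (fun j => X i j) b) a

@[simp] theorem ext1_last {R : Type*} [Zero R] {N : ℕ} (X : Matrix (Fin N) (Fin N) R) (x : R) :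
    ext1 X x (Fin.last N) (Fin.last N) = x := by simp [ext1]

@[simp] theorem ext1_last_cast {R : Type*} [Zero R] {N : ℕ} (X : Matrix (Fin N) (Fin N) R) (x : R) (j : Fin N) :
    ext1 X x (Fin.last N) j.castSucc = 0 := by simp [ext1]

@[simp] theorem ext1_cast_last {R : Type*} [Zero R] {N : ℕ} (X : Matrix (Fin N) (Fin N) R) (x : R) (i : Fin N) :
    ext1 X x i.castSucc (Fin.last N) = 0 := by simp [ext1]

@[simp] theorem ext1_cast {R : Type*} [Zero R] {N : ℕ} (X : Matrix (Fin N) (Fin N) R) (x : R) (i j : Fin N) :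
    ext1 X x i.castSucc j.castSucc = X i j := by simp [ext1]

theorem ext1_mul {R : Type*} [CommRing R] {N : ℕ} (X Y : Matrix (Fin N) (Fin N) R) (x y : R) :
    ext1 X x * ext1 Y y = ext1 (X * Y) (x * y) := by
  ext a b
  refine Fin.lastCases ?_ (fun i => ?_) a <;> refine Fin.lastCases ?_ (fun j => ?_) b <;>
    simp [Matrix.mul_apply, Fin.sum_univ_castSucc]

theorem ext1_map {R S : Type*} [Zero R] [Zero S] {N : ℕ} (X : Matrix (Fin N) (Fin N) R) (x : R) (f : R → S)
    (hf : f 0 = 0) : (ext1 X x).map f = ext1 (X.map f) (f x) := by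
  ext a b
  refine Fin.lastCases ?_ (fun i => ?_) a <;> refine Fin.lastCases ?_ (fun j => ?_) b <;> simp [hf]

theorem ext1_diagonal {R : Type*} [Zero R] {N : ℕ} (t : Fin N → R) (x : R) :
    ext1 (Matrix.diagonal t) x = Matrix.diagonal (Fin.snoc t x) := by
  ext a b
  refine Fin.lastCases ?_ (fun i => ?_) a <;> refine Fin.lastCases ?_ (fun j => ?_) b <;>
    simp [Matrix.diagonal_apply, Fin.castSucc_ne_last, (Fin.castSucc_ne_last _).symm]

theorem ext1_one {R : Type*} [Zero R] [One R] {N : ℕ} :
    ext1 (1 : Matrix (Fin N) (Fin N) R) 1 = 1 := by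
  rw [← Matrix.diagonal_one, ext1_diagonal, ← Matrix.diagonal_one]
  congr 1
  funext a
  refine Fin.lastCases ?_ (fun i => ?_) a <;> simp

/-- Group-like elements are unchanged by passing to the semisimple part of a point. -/
theorem semiPt_groupLike [PerfectField k] (g : A →ₐ[k] k) {c : A} (hc : IsGroupLikeElem k c) : semiPt g c = g c := by
  have hgc : g c ≠ 0 := ((IsGroupLikeElem.isUnit (R := k) hc).map g).ne_zero
  have hJ : IsJordan (g c • (1 : Module.End k k)) (g c • 1) 1 :=
    ⟨Module.End.IsSemisimple_smul (g c) Module.End.isSemisimple_id, by simp, Commute.one_right _, mul_one _⟩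
  have h := (part_apply (isLocFin_actL (V := A) g.toLinearMap) (actL_point_injective g) hJ
    (by rw [← Algebra.algebraMap_eq_smul_one]; exact (isUnit_iff_ne_zero.2 hgc).map _) (f := LinearMap.toSpanSingleton k A c) (fun z => ?_) 1).1
  · show CoalgebraStruct.counit (R := k) (semiAct A g c) = g c
    rw [LinearMap.toSpanSingleton_apply, one_smul] at h
    rw [semiAct, h]
    simp [hc.counit_eq_one]
  · simp only [LinearMap.toSpanSingleton_apply, map_smul, actL_apply]
    rw [show Comod.coact (k := k) (A := A) c = CoalgebraStruct.comul (R := k) c from rfl, hc.comul_eq_tmul_self,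
      sliceR_tmul]
    simp [smul_smul, mul_comm]

variable [IsAlgClosed k] [IsDomain A] [Algebra.FiniteType k A]

/-- **A character trivial on every one-parameter subgroup of a connected group is trivial.** -/
theorem eq_one_of_forall_oneParam {c : A} (hc : IsGroupLikeElem k c)
    (hno : ∀ φ : A →ₐc[k] MonoidAlgebra k (Multiplicative ℤ), φ c = 1) : c = 1 := by
  classical
  obtain ⟨V, _, _, _, _, N, b, hb⟩ := exists_genMatrix (k := k) (A := A)
  have hb' : GenMatrix (k := k) N (cmat (A := A) b) := hb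
  let C : Matrix (Fin (N + 1)) (Fin (N + 1)) A := ext1 (cmat (A := A) b) c
  have hC : GenMatrix (k := k) (N + 1) C := by
    refine ⟨fun i j => ?_, fun i j => ?_, eq_top_iff.2 (hb'.adjoin.ge.trans (Algebra.adjoin_mono ?_))⟩
    · refine Fin.lastCases ?_ (fun i => ?_) i <;> refine Fin.lastCases ?_ (fun j => ?_) j <;>
        simp [C, Fin.sum_univ_castSucc, hc.comul_eq_tmul_self]
      exact hb'.comul i j
    · refine Fin.lastCases ?_ (fun i => ?_) i <;> refine Fin.lastCases ?_ (fun j => ?_) j <;>
        simp [C, hc.counit_eq_one, Fin.castSucc_ne_last, (Fin.castSucc_ne_last _).symm]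
      exact hb'.counit i j
    · rintro _ ⟨⟨i, j⟩, rfl⟩
      exact ⟨(i.castSucc, j.castSucc), by simp [C]⟩
  obtain ⟨M, hM, hbd⟩ := exists_bound_at hC (Fin.last N) fun φ => by simpa [C] using hno φ
  have hval : ∀ g : A →ₐ[k] k, g c ∈ (Polynomial.nthRoots M (1 : k)).toFinset := by
    intro g
    obtain ⟨b', t, ht⟩ := exists_diagonal b (isJordan_actL (V := V) g).semisimple
    let P := b.toMatrix b'
    let Q := b'.toMatrix b
    have hQP : Q * P = 1 := b'.toMatrix_mul_toMatrix_flip b
    have hd : LinearMap.toMatrix b' b' (actL (semiPt g).toLinearMap : End k V) = Matrix.diagonal t := by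
      refine Matrix.ext fun i j => ?_
      rw [LinearMap.toMatrix_apply, ht, map_smul, Basis.repr_self, Finsupp.smul_single, smul_eq_mul, mul_one,
        Matrix.diagonal_apply, Finsupp.single_apply]
      rcases eq_or_ne i j with rfl | h
      · simp
      · simp [h, Ne.symm h]
    have hg : (cmat b).map (semiPt g) = P * Matrix.diagonal t * Q := by
      rw [← hd, basis_toMatrix_mul_linearMap_toMatrix_mul_basis_toMatrix]
      exact (toMatrix_actL b (semiPt g).toLinearMap).symm
    have h := hbd (semiPt g) (ext1 P 1) (ext1 Q 1) (Fin.snoc t (semiPt g c))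
      (by rw [ext1_mul, hQP, mul_one, ext1_one])
      (by rw [← ext1_diagonal, ext1_mul, ext1_mul, one_mul, mul_one, ← hg]; exact ext1_map _ _ _ (map_zero _))
      (fun j hj => by
        obtain ⟨j, rfl⟩ := (Fin.exists_castSucc_eq).2 hj
        simp)
    rw [Fin.snoc_last, semiPt_groupLike g hc] at h
    rw [Multiset.mem_toFinset, Polynomial.mem_nthRoots hM]
    exact h
  obtain ⟨a, ha⟩ := eq_algebraMap_of_finite_values c _ hval
  have h1 : a = 1 := by
    have := hc.counit_eq_one
    rw [ha] at this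
    simpa using this
  rw [ha, h1, map_one]

end Bound

end H20Borel

end
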