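import Groth.Agent.H20Borel.Gen
import Groth.Agent.H20Conj.CommTorus
import Groth.Agent.H20Conj.Factor
import Groth.Agent.H20Semi.SimDiag
import Groth.Agent.H21Split.Corad.Normal
import Mathlib.FieldTheory.Separable
import Mathlib.LinearAlgebra.Semisimple

/-!
# Matrix models of affine groups in which a given torus is diagonal
-/

set_option autoImplicit false
set_option linter.style.haveILetI false
set_option backward.isDefEq.respectTransparency false

universe u

open CategoryTheory CategoryTheory.Limits MonoidalCategory CartesianMonoidalCategory MonObj AlgebraicGeometry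
open Groth.Agent.H27Witt H20Mu H20Conj

noncomputable section

namespace H20Borel

variable {k : Type u} [Field k]

local notation "Pt" X => 𝟙_ (Over (Sk k)) ⟶ X

/-- A torus over an algebraically closed field is affine, smooth and connected. -/
theorem torus_props [IsAlgClosed k] (T : Over (Sk k)) [GrpObj T] (hT : Red.IsTorus T) :
    IsAffine T.left ∧ Smooth T.hom ∧ ConnectedSpace T.left := by
  refine ⟨(exists_span_char T hT).1, Groth.Agent.H21Split.Corad.smooth_torus T hT, ?_⟩
  obtain ⟨A, _, _, r, e, -, ⟨E⟩⟩ := exists_split T hT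
  haveI : IsDomain (MonoidAlgebra k (Lat.{u} r)) := by
    haveI : IsDomain (MonoidAlgebra k (Multiplicative (Fin r → ℤ))) := NoZeroDivisors.to_isDomain _
    exact ((MonoidAlgebra.domCongr k k
      (MulEquiv.ulift (α := Multiplicative (Fin r → ℤ)))).toRingEquiv).injective.isDomain
      (MonoidAlgebra.domCongr k k (MulEquiv.ulift (α := Multiplicative (Fin r → ℤ)))).toRingEquiv.toRingHom
  haveI : IsDomain A := (BialgEquiv.toAlgEquiv E).toRingEquiv.injective.isDomain
    (BialgEquiv.toAlgEquiv E).toRingEquiv.toRingHom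
  haveI : IsIso e.hom.left := ((Over.forget _).mapIso e).isIso_hom
  haveI : ConnectedSpace ↥((Spec (CommRingCat.of A)).asOver (Spec (CommRingCat.of k))).left :=
    inferInstanceAs (ConnectedSpace (PrimeSpectrum A))
  exact e.hom.left.surjective.connectedSpace e.hom.left.continuous

/-- A matrix model of an affine group: generating entries which multiply like matrices. -/
structure MatRep (G : Over (Sk k)) [GrpObj G] where
  /-- the size -/
  N : ℕ
  /-- the entries -/
  F : Fin N → Fin N → Fn G
  one : ∀ a b, val (1 : Pt G) (F a b) = if a = b then 1 else 0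
  mul : ∀ a b, Fn.pull μ[G] (F a b) = ∑ r, Fn.pull (fst G G) (F a r) * Fn.pull (snd G G) (F r b)
  gen : Function.Surjective (MvPolynomial.aeval (R := k) fun ab : Fin N × Fin N => F ab.1 ab.2)

namespace MatRep

variable {G : Over (Sk k)} [GrpObj G] (M : MatRep G)

/-- The matrix of a point. -/
def mat {X : Over (Sk k)} : (X ⟶ G) →* Matrix (Fin M.N) (Fin M.N) (Fn X) where
  toFun g := Matrix.of fun a b => Fn.pull g (M.F a b)
  map_one' := by
    ext a b
    show Fn.pull (1 : X ⟶ G) (M.F a b) = _
    rw [← MonObj.comp_one (toUnit X), pull_const, M.one, Matrix.one_apply, apply_ite (algebraMap k (Fn X)),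
      map_one, map_zero]
  map_mul' g h := by
    ext a b
    show Fn.pull (g * h) (M.F a b) = _
    rw [Hom.mul_def, ← Fn.pull_pull, M.mul, map_sum, Matrix.mul_apply]
    exact Finset.sum_congr rfl fun r _ => by rw [map_mul, Fn.pull_pull, Fn.pull_pull, lift_fst, lift_snd]; rfl

theorem mat_apply {X : Over (Sk k)} (g : X ⟶ G) (a b : Fin M.N) : M.mat g a b = Fn.pull g (M.F a b) := rfl

theorem mat_comp {X Y : Over (Sk k)} (x : X ⟶ Y) (g : Y ⟶ G) (a b : Fin M.N) :
    M.mat (x ≫ g) a b = Fn.pull x (M.mat g a b) := (Fn.pull_pull x g _).symm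

theorem mat_injective [IsAffine G.left] {X : Over (Sk k)} : Function.Injective (M.mat (X := X)) := by
  intro g h e
  refine Fn.hom_ext (AlgHom.ext fun z => ?_)
  obtain ⟨p, rfl⟩ := M.gen z
  rw [← AlgHom.comp_apply, ← AlgHom.comp_apply, MvPolynomial.comp_aeval, MvPolynomial.comp_aeval]
  exact congrArg (fun f : Fin M.N × Fin M.N → Fn X => MvPolynomial.aeval (R := k) f p)
    (funext fun ab => congrFun (congrFun e ab.1) ab.2)

theorem commute_iff [IsAffine G.left] {X : Over (Sk k)} (g h : X ⟶ G) :
    g * h = h * g ↔ Commute (M.mat g) (M.mat h) := by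
  rw [Commute, SemiconjBy, ← map_mul, ← map_mul]
  exact ⟨congrArg _, fun e => M.mat_injective e⟩

/-- In this model the subgroup is diagonal. -/
def IsDiagFor {T : Over (Sk k)} (iT : T ⟶ G) (χ : Fin M.N → Fn T) : Prop :=
  ∀ a b, Fn.pull iT (M.F a b) = if a = b then χ a else 0

theorem mat_diag {T : Over (Sk k)} {iT : T ⟶ G} {χ : Fin M.N → Fn T} (hd : M.IsDiagFor iT χ)
    {X : Over (Sk k)} (h : X ⟶ T) : M.mat (h ≫ iT) = Matrix.diagonal fun a => Fn.pull h (χ a) := by
  ext a b
  rw [mat_apply, ← Fn.pull_pull, hd a b, Matrix.diagonal_apply, apply_ite (Fn.pull h), map_zero]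

theorem isCharFn_diag {T : Over (Sk k)} [GrpObj T] {iT : T ⟶ G} [IsMonHom iT] {χ : Fin M.N → Fn T}
    (hd : M.IsDiagFor iT χ) (a : Fin M.N) : IsCharFn (χ a) := by
  have key : ∀ t : Pt T, val t (χ a) = val (t ≫ iT) (M.F a a) := fun t => by
    rw [← val_pull, hd a a, if_pos rfl]
  refine ⟨?_, fun s t => ?_⟩
  · rw [key, MonObj.one_comp, M.one, if_pos rfl]
  · rw [key, key, key, MonObj.mul_comp, Hom.mul_def, ← val_pull, M.mul, map_sum,
      Finset.sum_eq_single a (fun r _ hr => ?_) (fun h => absurd (Finset.mem_univ a) h),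
      map_mul, val_pull, val_pull, lift_fst, lift_snd]
    rw [map_mul, val_pull, lift_fst, ← val_pull, hd a r, if_neg (Ne.symm hr), map_zero, zero_mul]

end MatRep

section Diag

variable [IsAlgClosed k]

theorem aeval_mul_eigen {N : ℕ} {M P : Matrix (Fin N) (Fin N) k} {c : k} (h : M * P = c • P) (p : Polynomial k) :
    Polynomial.aeval M p * P = p.eval c • P := by
  induction p using Polynomial.induction_on' with
  | add p q hp hq => rw [map_add, add_mul, hp, hq, Polynomial.eval_add, add_smul]
  | monomial n a =>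
    have hn : ∀ n : ℕ, M ^ n * P = c ^ n • P := fun n => by
      induction n with
      | zero => simp
      | succ n ih => rw [pow_succ', _root_.mul_assoc, ih, Matrix.mul_smul, h, smul_smul, pow_succ]
    rw [Polynomial.aeval_monomial, Polynomial.eval_monomial, ← Algebra.smul_def, Matrix.smul_mul, hn, smul_smul]

theorem isSemisimple_of_isLaurent {N : ℕ} {e : kˣ →* GLk k N} (he : IsLaurent e) (t : kˣ) :
    Module.End.IsSemisimple (Matrix.toLinAlgEquiv' (e t : Mat k N)) := by
  classical
  obtain ⟨s, P, -, hP1, hP, -⟩ := exists_weights he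
  let S : Finset k := s.image fun i => ((t ^ i : kˣ) : k)
  let q : Polynomial k := ∏ c ∈ S, (Polynomial.X - Polynomial.C c)
  refine Module.End.isSemisimple_of_squarefree_aeval_eq_zero (p := q)
    ((Polynomial.separable_prod_X_sub_C_iff'.mpr fun _ _ _ _ h => h).squarefree) ?_
  have h0 : Polynomial.aeval (e t : Mat k N) q = 0 := by
    rw [← _root_.mul_one (Polynomial.aeval _ q), ← hP1, Finset.mul_sum]
    refine Finset.sum_eq_zero fun i hi => ?_
    rw [aeval_mul_eigen (hP t i hi)]
    have hev : q.eval ((t ^ i : kˣ) : k) = 0 := by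
      rw [Polynomial.eval_prod]
      exact Finset.prod_eq_zero (Finset.mem_image_of_mem _ hi) (by simp)
    rw [hev, zero_smul]
  exact (Polynomial.aeval_algHom_apply (Matrix.toLinAlgEquiv' (R := k) (n := Fin N)) _ q).trans
    ((congrArg _ h0).trans (map_zero _))

set_option maxHeartbeats 1000000 in
/-- **A torus can be diagonalised.** -/
theorem exists_diag_rep {G : Over (Sk k)} [GrpObj G] [IsAffine G.left] [Smooth G.hom]
    {T : Over (Sk k)} [GrpObj T] (iT : T ⟶ G) [IsMonHom iT] (hT : Red.IsTorus T) :
    ∃ (M : MatRep G) (χ : Fin M.N → Fn T), M.IsDiagFor iT χ := by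
  classical
  obtain ⟨hTa, hTs, -⟩ := torus_props T hT
  haveI := hTa; haveI := hTs
  obtain ⟨N, φ, F₀, -, -, hF₀, hgen⟩ := exists_rep_gen G
  obtain ⟨r, e, co, he, hco, hprod, hcomm⟩ := exists_cochars T hT
  let S : Fin r × kˣ → Mat k N := fun x => (φ ((ofPar x.2 ≫ e x.1) ≫ iT) : Mat k N)
  have hS : ∀ i j, Commute (S i) (S j) := fun i j => by
    show _ * _ = _ * _
    rw [← Units.val_mul, ← map_mul, ← MonObj.mul_comp, hcomm, MonObj.mul_comp, map_mul, Units.val_mul]
  have hss : ∀ i, Module.End.IsSemisimple (Matrix.toLinAlgEquiv' (S i)) := by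
    rintro ⟨a, t⟩
    haveI := he a
    let L : kˣ →* GLk k N :=
      { toFun := fun u => φ ((ofPar u ≫ e a) ≫ iT)
        map_one' := by
          rw [show ofPar (1 : kˣ) = (1 : Pt (Red.Gm (Sk k))) from par_injective (by rw [par_ofPar, par_one]),
            MonObj.one_comp, MonObj.one_comp, map_one]
        map_mul' := fun u v => by
          rw [show ofPar (u * v) = ofPar u * ofPar v from par_injective (by rw [par_ofPar, par_mul, par_ofPar, par_ofPar]),
            MonObj.mul_comp, MonObj.mul_comp, map_mul] }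
    choose s c hc using fun pq : Fin N × Fin N => exists_laurent (Fn.pull (e a ≫ iT) (F₀ pq.1 pq.2))
    refine isSemisimple_of_isLaurent (e := L) ⟨Finset.univ.biUnion s,
      fun i => Matrix.of fun p q => if i ∈ s (p, q) then c (p, q) i else 0, fun u => ?_⟩ t
    ext p q
    show (φ ((ofPar u ≫ e a) ≫ iT) : Mat k N) p q = _
    rw [hF₀, Category.assoc, ← val_pull, hc (p, q), map_sum, Matrix.sum_apply]
    rw [← Finset.sum_subset (Finset.subset_biUnion_of_mem s (Finset.mem_univ (p, q)))
      (fun i _ hi => by simp [hi])]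
    refine Finset.sum_congr rfl fun i hi => ?_
    rw [map_smul, val_zFn_zpow, par_ofPar, Matrix.smul_apply]
    show c (p, q) i * _ = _ * (if i ∈ s (p, q) then c (p, q) i else 0)
    rw [if_pos hi, _root_.mul_comm]
  obtain ⟨P, d, hd⟩ := Groth.Agent.H20Semi.exists_simdiag S hS hss
  let R : (Pt G) →* Mat k N :=
    (Units.coeHom _).comp ((MulAut.conj (P⁻¹ : GLk k N)).toMonoidHom.comp φ)
  let F : Fin N → Fin N → Fn G := fun a b => ∑ p, ∑ q, (((P⁻¹ : GLk k N) : Mat k N) a p * (P : Mat k N) q b) • F₀ p q
  have hR : ∀ g a b, R g a b = val g (F a b) := fun g a b => by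
    show ((MulAut.conj (P⁻¹ : GLk k N) (φ g) : GLk k N) : Mat k N) a b = _
    rw [MulAut.conj_apply, inv_inv, Units.val_mul, Units.val_mul, Matrix.mul_apply]
    simp only [F, map_sum, map_smul, Matrix.mul_apply, Finset.sum_mul, smul_eq_mul, ← hF₀]
    rw [Finset.sum_comm]
    exact Finset.sum_congr rfl fun p _ => Finset.sum_congr rfl fun q _ => by ring
  haveI : Smooth (G ⊗ G).hom := by
    haveI : Smooth (fst G G).left := MorphismProperty.pullback_fst (P := @Smooth) _ _ inferInstance
    rw [← Over.w (fst G G)]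
    infer_instance
  haveI : IsAffine (G ⊗ G).left := inferInstanceAs (IsAffine (pullback G.hom G.hom))
  have hback : ∀ p q, F₀ p q = ∑ a, ∑ b, ((P : Mat k N) p a * ((P⁻¹ : GLk k N) : Mat k N) b q) • F a b :=
    fun p q => by
      refine Fn.ext_points fun g => ?_
      show val g _ = val g _
      simp only [map_sum, map_smul, smul_eq_mul, ← hR]
      rw [← hF₀]
      have h1 : (φ g : Mat k N) = (P : Mat k N) * R g * ((P⁻¹ : GLk k N) : Mat k N) := by
        show _ = (P : Mat k N) * ((MulAut.conj (P⁻¹ : GLk k N) (φ g) : GLk k N) : Mat k N) * _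
        rw [← Units.val_mul, ← Units.val_mul, MulAut.conj_apply]
        exact congrArg Units.val (by group)
      rw [h1, Matrix.mul_apply]
      simp only [Matrix.mul_apply, Finset.sum_mul]
      rw [Finset.sum_comm]
      exact Finset.sum_congr rfl fun a _ => Finset.sum_congr rfl fun b _ => by ring
  clear_value F
  let M : MatRep G :=
    { N := N
      F := F
      one := fun a b => by rw [← hR, map_one, Matrix.one_apply]
      mul := fun a b => Fn.ext_points fun z => by
        show val z _ = val z _
        rw [val_pull, map_sum, show z ≫ μ[G] = (z ≫ fst G G) * (z ≫ snd G G) by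
          rw [Hom.mul_def, ← comp_lift, lift_fst_snd, Category.comp_id], ← hR, map_mul, Matrix.mul_apply]
        exact Finset.sum_congr rfl fun r _ => by rw [map_mul, val_pull, val_pull, hR, hR]
      gen := by
        rw [← AlgHom.range_eq_top, eq_top_iff]
        rintro z -
        obtain ⟨p, rfl⟩ := hgen z
        induction p using MvPolynomial.induction_on with
        | C c => exact ⟨MvPolynomial.C c, by simp⟩
        | add p q hp hq => rw [map_add]; exact add_mem hp hq
        | mul_X p pq hp =>
          rw [map_mul, MvPolynomial.aeval_X, hback]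
          refine mul_mem hp (Subalgebra.sum_mem _ fun a _ => Subalgebra.sum_mem _ fun b _ =>
            Subalgebra.smul_mem _ (AlgHom.mem_range _ |>.mpr ⟨MvPolynomial.X (a, b), MvPolynomial.aeval_X _ _⟩) _) }
  refine ⟨M, fun a => Fn.pull iT (F a a), fun a b => ?_⟩
  rcases eq_or_ne a b with rfl | hab
  · rw [if_pos rfl]
  rw [if_neg hab]
  refine Fn.ext_points fun t => ?_
  show val t _ = val t 0
  rw [val_pull, map_zero, ← hR]
  let D := MonoidHom.mrange (Matrix.diagonalRingHom (Fin N) k).toMonoidHom
  suffices h : R (t ≫ iT) ∈ D by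
    obtain ⟨v, hv⟩ := h
    rw [← hv]
    exact Matrix.diagonal_apply_ne _ hab
  have ht : t ≫ iT = ((List.ofFn fun j => (t ≫ co j) ≫ e j).map fun f => f ≫ iT).prod := by
    let ψ : (Pt T) →* (Pt G) :=
      { toFun := fun f => f ≫ iT, map_one' := MonObj.one_comp iT, map_mul' := fun x y => MonObj.mul_comp x y iT }
    refine Eq.trans ?_ (map_list_prod ψ _)
    show t ≫ iT = (_ : Pt T) ≫ iT
    congr 1
    conv_lhs => rw [← Category.comp_id t, ← hprod]
    let τ : (T ⟶ T) →* (Pt T) :=
      { toFun := fun m => t ≫ m, map_one' := MonObj.comp_one t, map_mul' := MonObj.comp_mul t }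
    show τ _ = _
    rw [map_list_prod, List.map_ofFn]
    simp [τ, Function.comp_def, Category.assoc]
  rw [ht, map_list_prod]
  refine list_prod_mem fun x hx => ?_
  simp only [List.mem_map, List.mem_ofFn] at hx
  obtain ⟨_, ⟨_, ⟨j, rfl⟩, rfl⟩, rfl⟩ := hx
  refine ⟨d (j, par (t ≫ co j)), ?_⟩
  show Matrix.diagonal _ = ((MulAut.conj (P⁻¹ : GLk k N) (φ _) : GLk k N) : Mat k N)
  rw [MulAut.conj_apply, inv_inv, Units.val_mul, Units.val_mul,
    show ((φ (((t ≫ co j) ≫ e j) ≫ iT) : GLk k N) : Mat k N) = S (j, par (t ≫ co j)) by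
      simp only [S, ofPar_par], hd]
  simp [_root_.mul_assoc]

end Diag

end H20Borel
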