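import Groth.Agent.H20Borel.CharLemmas
import Groth.Agent.H20Borel.TorusOfSemisimple
import Groth.Agent.H20Borel.DiagRep
import Groth.Agent.H20Red.Points
import Groth.Agent.H21Hom.SpecGrp

/-!
# Characters of connected solvable groups and their diagonalisable subgroups
-/

set_option autoImplicit false
set_option linter.style.haveILetI false
set_option backward.isDefEq.respectTransparency false
set_option maxHeartbeats 800000
set_option synthInstance.maxHeartbeats 200000

universe u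

open CategoryTheory CategoryTheory.Limits MonoidalCategory CartesianMonoidalCategory MonObj AlgebraicGeometry
open TensorProduct HopfRep WithConv
open Groth.Agent.H27Witt H20Mu H20Conj
open Groth.Agent.H20Comod

noncomputable section

namespace H20Borel

variable {k : Type u} [Field k]

local notation "Pt" X => 𝟙_ (Over (Sk k)) ⟶ X
local notation "𝔾ₘ" => Red.Gm (Sk k)

/-- Functions along a point of a spectrum. -/
theorem pull_pt {A B : Type u} [CommRing A] [Algebra k A] [CommRing B] [Algebra k B] (φ : A →ₐ[k] B) (a : A) :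
    Fn.pull (CoactBr.pt φ) (Fn.specAlg (k := k) A a) = Fn.specAlg (k := k) B (φ a) :=
  congr($(Scheme.ΓSpecIso_inv_naturality (CommRingCat.ofHom φ.toRingHom)).hom a).symm

theorem pull_inj_of_iso {X Y : Over (Sk k)} (e : X ≅ Y) : Function.Injective (Fn.pull e.hom : Fn Y →ₐ[k] Fn X) :=
  fun a b h => by
    have := congrArg (Fn.pull e.inv) h
    rwa [Fn.pull_pull, Fn.pull_pull, e.inv_hom_id, Fn.pull_id] at this

theorem pull_surj_of_iso {X Y : Over (Sk k)} (e : X ≅ Y) : Function.Surjective (Fn.pull e.hom : Fn Y →ₐ[k] Fn X) :=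
  fun a => ⟨Fn.pull e.inv a, by rw [Fn.pull_pull, e.hom_inv_id, Fn.pull_id]; rfl⟩

theorem isMonHom_iso_inv {X Y : Over (Sk k)} [GrpObj X] [GrpObj Y] (e : X ≅ Y) [IsMonHom e.hom] : IsMonHom e.inv := by
  constructor
  · rw [← cancel_mono e.hom, Category.assoc, e.inv_hom_id, Category.comp_id, IsMonHom.one_hom]
  · rw [← cancel_mono e.hom, Category.assoc, e.inv_hom_id, Category.comp_id, Category.assoc, IsMonHom.mul_hom,
      MonoidalCategory.tensorHom_comp_tensorHom_assoc, e.inv_hom_id]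
    simp

/-- A group is diagonalisable: it is the spectrum of a diagonalizable Hopf algebra. -/
def IsDiagGrp (X : Over (Sk k)) [GrpObj X] : Prop :=
  ∃ (B : Type u) (_ : CommRing B) (_ : HopfAlgebra k B) (e : X ≅ CoactBr.sp k B),
    IsMonHom e.hom ∧ IsDiagonalizable k B

/-- An affine group scheme with its Hopf algebra. -/
theorem exists_model (C : Over (Sk k)) [GrpObj C] [IsAffine C.left] :
    ∃ (A : Type u) (_ : CommRing A) (_ : HopfAlgebra k A) (e : C ≅ CoactBr.sp k A), IsMonHom e.hom ∧ IsMonHom e.inv := by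
  obtain ⟨A, _, _, ⟨e⟩⟩ := Groth.Agent.H21Hom.exists_hopf_model (R := k) C
  let e' : C ≅ CoactBr.sp k A := (Grp.forget _).mapIso e
  exact ⟨A, ‹_›, ‹_›, e', e.hom.hom.isMonHom_hom, e.inv.hom.isMonHom_hom⟩

/-- A homomorphism of models comes from a bialgebra map. -/
theorem exists_bialg {A B : Type u} [CommRing A] [HopfAlgebra k A] [CommRing B] [HopfAlgebra k B]
    (f : CoactBr.sp k B ⟶ CoactBr.sp k A) [IsMonHom f] :
    ∃ ψ : A →ₐc[k] B, CoactBr.pt (ψ : A →ₐ[k] B) = f := by
  let F := hopfSpec (CommRingCat.of k)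
  let g : F.obj (Opposite.op (CommHopfAlgCat.of k B)) ⟶ F.obj (Opposite.op (CommHopfAlgCat.of k A)) :=
    (Grp.homMk f : Grp.mk (Groth.Agent.H21Hom.specGrp k B) ⟶ Grp.mk (Groth.Agent.H21Hom.specGrp k A))
  let q := (hopfSpec.fullyFaithful (R := CommRingCat.of k)).preimage g
  refine ⟨q.unop.hom, Over.OverMorphism.ext ?_⟩
  have h := (hopfSpec.fullyFaithful (R := CommRingCat.of k)).map_preimage g
  exact ((congrArg (fun z => z.hom.hom.left) h) : _ = g.hom.hom.left)

/-- The bialgebra map of a closed subgroup is surjective. -/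
theorem surjective_of_isClosedImmersion {A B : Type u} [CommRing A] [Algebra k A] [CommRing B] [Algebra k B]
    (p : A →ₐ[k] B) [IsClosedImmersion (CoactBr.pt p).left] : Function.Surjective p := by
  haveI : IsAffine (CoactBr.sp k A).left := inferInstanceAs (IsAffine (Spec _))
  haveI : IsAffine (CoactBr.sp k B).left := inferInstanceAs (IsAffine (Spec _))
  intro b
  obtain ⟨a', ha'⟩ := (IsClosedImmersion.isAffine_surjective_of_isAffine (CoactBr.pt p).left).2 (Fn.specAlg (k := k) B b)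
  obtain ⟨a, rfl⟩ := (Fn.specAlg (k := k) A).surjective a'
  exact ⟨a, (Fn.specAlg (k := k) B).injective ((pull_pt p a).symm.trans ha')⟩

/-- The function underlying a character. -/
def chFn {D : Over (Sk k)} (χ : D ⟶ 𝔾ₘ) : Fn D := ((GmPts.unitOfPt χ : (Γ(D.left, ⊤))ˣ) : Γ(D.left, ⊤))

theorem chFn_comp {X D : Over (Sk k)} (i : X ⟶ D) (χ : D ⟶ 𝔾ₘ) : chFn (i ≫ χ) = Fn.pull i (chFn χ) :=
  congrArg Units.val (GmPts.unitOfPt_comp i χ)

theorem chFn_one {D : Over (Sk k)} : chFn (1 : D ⟶ 𝔾ₘ) = 1 := congrArg Units.val GmPts.unitOfPt_one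

/-- The character of a group-like element. -/
theorem exists_char {A : Type u} [CommRing A] [HopfAlgebra k A] {D : Over (Sk k)} [GrpObj D]
    (e : D ⟶ CoactBr.sp k A) [IsMonHom e] {s : A} (hs : IsGroupLikeElem k s) :
    ∃ χ : D ⟶ 𝔾ₘ, IsMonHom χ ∧
      (chFn χ) = Fn.pull e (Fn.specAlg (k := k) A s) := by
  let v : (Fn D)ˣ := (((IsGroupLikeElem.isUnit (R := k) hs).map (Fn.specAlg (k := k) A)).map (Fn.pull e)).unit
  refine ⟨GmPts.ptOfUnit (v : Γ(D.left, ⊤)ˣ), isMonHom_ptOfUnit _ ?_, ?_⟩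
  · intro P a b
    show Fn.pull (a * b) (Fn.pull e _) = Fn.pull a (Fn.pull e _) * Fn.pull b (Fn.pull e _)
    rw [Fn.pull_pull, Fn.pull_pull, Fn.pull_pull, MonObj.mul_comp]
    exact groupLike_mul hs _ _
  · exact congrArg Units.val (GmPts.unitOfPt_ptOfUnit (v : (Γ(D.left, ⊤))ˣ))

theorem char_comp_eq_one_iff {X D : Over (Sk k)} (i : X ⟶ D) (χ : D ⟶ 𝔾ₘ) :
    i ≫ χ = 1 ↔ Fn.pull i (chFn χ) = 1 := by
  rw [← chFn_comp]
  exact ⟨fun e => by rw [e, chFn_one], fun e => gm_pt_ext (e.trans chFn_one.symm)⟩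

theorem eq_one_iff_unit {D : Over (Sk k)} (χ : D ⟶ 𝔾ₘ) :
    χ = 1 ↔ (chFn χ) = 1 := by
  have h := char_comp_eq_one_iff (𝟙 D) χ
  rwa [Category.id_comp, Fn.pull_id] at h

section Alg

variable [IsAlgClosed k]

/-- The Hopf algebra of a connected smooth group is a domain of finite type. -/
theorem model_props {A : Type u} [CommRing A] [HopfAlgebra k A] {C : Over (Sk k)} [GrpObj C] [IsAffine C.left]
    [Smooth C.hom] [ConnectedSpace C.left] (e : C ≅ CoactBr.sp k A) : Algebra.FiniteType k A ∧ IsDomain A := by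
  haveI := Fn.finiteType C
  haveI := Fn.isDomain C
  let E : A ≃ₐ[k] Fn C :=
    (Fn.specAlg (k := k) A).trans (AlgEquiv.ofBijective (Fn.pull e.hom) ⟨pull_inj_of_iso e, pull_surj_of_iso e⟩)
  exact ⟨Algebra.FiniteType.equiv (inferInstance : Algebra.FiniteType k (Fn C)) E.symm,
    MulEquiv.isDomain (Fn C) E.toRingEquiv.toMulEquiv⟩

/-- Connected solvable groups are trigonalizable. -/
theorem isTrigonalizable_model {A : Type u} [CommRing A] [HopfAlgebra k A] {C : Over (Sk k)} [GrpObj C]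
    [IsAffine C.left] [Smooth C.hom] [ConnectedSpace C.left] (e : C ≅ CoactBr.sp k A) [IsMonHom e.hom]
    (hsolv : Group.IsSolvable (Pt C)) : IsTrigonalizable k A := by
  obtain ⟨hft, hdom⟩ := model_props e
  obtain ⟨θ, -⟩ := exists_ptsEquiv (k := k) (A := A)
  haveI : IsMonHom e.inv := isMonHom_iso_inv e
  haveI : Group.IsSolvable (WithConv (A →ₐ[k] k)) :=
    Group.isSolvable_of_surjective (f := θ.toMonoidHom.comp (postHom e.hom))
      (θ.surjective.comp fun x => ⟨x ≫ e.inv, by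
        show (x ≫ e.inv) ≫ e.hom = x
        rw [Category.assoc, e.inv_hom_id, Category.comp_id]⟩)
  intro V _ _ _ hV hs
  exact Groth.Agent.H20Comod.LieKolchin.finrank_eq_one hs

omit [IsAlgClosed k] in
/-- Group algebras are diagonalizable. -/
theorem isDiagonalizable_of_equiv {A : Type u} [CommRing A] [HopfAlgebra k A] {M : Type u} [CommGroup M]
    (e : A ≃ₐc[k] MonoidAlgebra k M) : IsDiagonalizable k A := by
  refine eq_top_iff.2 fun a ha => ?_
  clear ha
  obtain ⟨x, rfl⟩ : ∃ x, e.symm x = a := ⟨e a, by simp⟩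
  induction x using MonoidAlgebra.induction_linear with
  | zero => simp
  | add u v hu hv => rw [map_add]; exact add_mem hu hv
  | single m r =>
    rw [show MonoidAlgebra.single m r = r • (MonoidAlgebra.single m 1 : MonoidAlgebra k M) by
      rw [MonoidAlgebra.smul_single', _root_.mul_one], map_smul]
    exact Submodule.smul_mem _ _ (Submodule.subset_span
      ((MonoidAlgebra.isGroupLikeElem_single_one m).map e.symm))

/-- Tori are diagonalisable. -/
theorem isDiagGrp_of_isTorus {T : Over (Sk k)} [GrpObj T] (hT : Red.IsTorus T) : IsDiagGrp T := by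
  obtain ⟨A, _, _, r, e, he, ⟨E⟩⟩ := exists_split T hT
  exact ⟨A, ‹_›, ‹_›, e.symm, isMonHom_iso_inv e,
    isDiagonalizable_of_equiv E⟩

omit [IsAlgClosed k] in
/-- Commutation of points gives commutation in the dual algebra. -/
theorem conv_comm_of_pt {A B B' : Type u} [CommRing A] [HopfAlgebra k A] [CommRing B] [Algebra k B]
    [CommRing B'] [Algebra k B'] (p : A →ₐ[k] B) (q : A →ₐ[k] B')
    (h : CoactBr.pt ((Algebra.TensorProduct.includeLeft : B →ₐ[k] B ⊗[k] B').comp p) *
        CoactBr.pt ((Algebra.TensorProduct.includeRight : B' →ₐ[k] B ⊗[k] B').comp q) =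
      CoactBr.pt ((Algebra.TensorProduct.includeRight : B' →ₐ[k] B ⊗[k] B').comp q) *
        CoactBr.pt ((Algebra.TensorProduct.includeLeft : B →ₐ[k] B ⊗[k] B').comp p))
    (φ : B →ₗ[k] k) (ψ : B' →ₗ[k] k) :
    conv (φ ∘ₗ p.toLinearMap) (ψ ∘ₗ q.toLinearMap) = conv (ψ ∘ₗ q.toLinearMap) (φ ∘ₗ p.toLinearMap) := by
  rw [show ∀ f : A →ₐ[k] B ⊗[k] B', CoactBr.pt f = CoactBr.pt (toConv f).ofConv from fun _ => rfl,
    show ∀ f : A →ₐ[k] B ⊗[k] B', CoactBr.pt f = CoactBr.pt (toConv f).ofConv from fun _ => rfl,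
    ← Groth.Agent.H20Red.pt_convMul, ← Groth.Agent.H20Red.pt_convMul] at h
  have h' := CoactBr.pt_injective h
  refine LinearMap.ext fun a => ?_
  have ha := congrArg (fun z => (TensorProduct.lid k k) (TensorProduct.map φ ψ z)) (AlgHom.congr_fun h' a)
  dsimp only at ha
  rw [AlgHom.convMul_apply, AlgHom.convMul_apply] at ha
  show LinearMap.mul' k k (TensorProduct.map _ _ (CoalgebraStruct.comul (R := k) a)) =
    LinearMap.mul' k k (TensorProduct.map _ _ (CoalgebraStruct.comul (R := k) a))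
  refine Eq.trans ?_ (ha.trans ?_) <;> generalize CoalgebraStruct.comul (R := k) a = z <;>
    induction z using TensorProduct.induction_on with
    | zero => simp
    | tmul x y => simp [mul_comm]
    | add x y hx hy => simp only [map_add] at hx hy ⊢; rw [hx, hy]

variable {C X Y : Over (Sk k)} [GrpObj C] [GrpObj X] [GrpObj Y] [IsAffine C.left] [Smooth C.hom] [ConnectedSpace C.left]

/-- **Commuting diagonalisable subgroups**: if characters of the ambient connected solvable group are detected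
on the first, the second factors through any closed subscheme containing the first. -/
theorem exists_factor_diag (hsolv : Group.IsSolvable (Pt C)) (hX : IsDiagGrp X) (hY : IsDiagGrp Y)
    (i : X ⟶ C) [IsMonHom i] {Z : Over (Sk k)} (z : Z ⟶ C) [IsClosedImmersion z.left] (i' : X ⟶ Z) (hi' : i' ≫ z = i)
    (u : Y ⟶ C) [IsMonHom u]
    (hcomm : ∀ (W : Over (Sk k)) (x : W ⟶ X) (y : W ⟶ Y), (x ≫ i) * (y ≫ u) = (y ≫ u) * (x ≫ i))
    (hsep : ∀ χ : C ⟶ 𝔾ₘ, IsMonHom χ → i ≫ χ = 1 → χ = 1) : ∃ v : Y ⟶ Z, v ≫ z = u := by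
  classical
  obtain ⟨A, _, _, eC, heC, heC'⟩ := exists_model C
  haveI := heC; haveI := heC'
  obtain ⟨B, _, _, eX, heX, hB⟩ := hX
  obtain ⟨B', _, _, eY, heY, hB'⟩ := hY
  haveI := heX; haveI := heY
  haveI : IsMonHom eX.inv := isMonHom_iso_inv eX
  haveI : IsMonHom eY.inv := isMonHom_iso_inv eY
  obtain ⟨p, hp⟩ := exists_bialg (eX.inv ≫ i ≫ eC.hom)
  obtain ⟨q, hq⟩ := exists_bialg (eY.inv ≫ u ≫ eC.hom)
  have hT := isTrigonalizable_model eC hsolv
  have hconv : ∀ (φ : B →ₗ[k] k) (ψ : B' →ₗ[k] k), conv (φ ∘ₗ (p : A →ₗ[k] B)) (ψ ∘ₗ (q : A →ₗ[k] B')) =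
      conv (ψ ∘ₗ (q : A →ₗ[k] B')) (φ ∘ₗ (p : A →ₗ[k] B)) := by
    refine fun φ ψ => conv_comm_of_pt (p : A →ₐ[k] B) (q : A →ₐ[k] B') ?_ φ ψ
    rw [CoactBr.pt_comp, CoactBr.pt_comp, hp, hq]
    simp only [← Category.assoc]
    rw [← MonObj.mul_comp, ← MonObj.mul_comp, hcomm _ (_ ≫ eX.inv) (_ ≫ eY.inv)]
  have hinj : ∀ g g' : A, IsGroupLikeElem k g → IsGroupLikeElem k g' → p g = p g' → g = g' := by
    intro g g' hg hg' hgg
    have hc := hg.mul hg'.antipode
    obtain ⟨χ, hχ, hval⟩ := exists_char eC.hom hc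
    have h1 : i ≫ χ = 1 := by
      rw [char_comp_eq_one_iff, hval, Fn.pull_pull, show i ≫ eC.hom = eX.hom ≫ CoactBr.pt (p : A →ₐ[k] B) by
        rw [hp, eX.hom_inv_id_assoc], ← Fn.pull_pull, pull_pt]
      rw [show (p : A →ₐ[k] B) (g * HopfAlgebra.antipode k g') = p g * p (HopfAlgebra.antipode k g') from map_mul _ _ _,
        hgg, ← map_mul, hg'.mul_antipode_cancel]
      simp
    have h2 := (eq_one_iff_unit χ).1 (hsep χ hχ h1)
    rw [hval, show (1 : Fn C) = Fn.pull eC.hom (Fn.specAlg (k := k) A 1) by simp] at h2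
    have h3 := (Fn.specAlg (k := k) A).injective (pull_inj_of_iso eC h2)
    calc g = g * (HopfAlgebra.antipode k g' * g') := by rw [hg'.antipode_mul_cancel, _root_.mul_one]
      _ = (g * HopfAlgebra.antipode k g') * g' := (_root_.mul_assoc _ _ _).symm
      _ = g' := by rw [h3, _root_.one_mul]
  haveI : IsAffine Z.left := isAffine_of_isAffineHom z.left
  have hsurj : Function.Surjective (Fn.pull z : Fn C →ₐ[k] Fn Z) :=
    (IsClosedImmersion.isAffine_surjective_of_isAffine z.left).2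
  have hker : ∀ r : Fn C, Fn.pull z r = 0 → Fn.pull u r = 0 := by
    intro r hr
    obtain ⟨r', rfl⟩ := pull_surj_of_iso eC r
    obtain ⟨a, rfl⟩ := (Fn.specAlg (k := k) A).surjective r'
    have h1 : Fn.specAlg (k := k) B ((p : A →ₐ[k] B) a) = 0 := by
      rw [← pull_pt, hp, ← Fn.pull_pull, ← Fn.pull_pull, ← hi', ← Fn.pull_pull i' z, hr, map_zero, map_zero]
    have h2 : q a = 0 := ker_le_of_commute hT hB hB' p q hconv hinj
      ((Fn.specAlg (k := k) B).injective (h1.trans (map_zero _).symm))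
    rw [Fn.pull_pull, show u ≫ eC.hom = eY.hom ≫ CoactBr.pt (q : A →ₐ[k] B') by rw [hq, eY.hom_inv_id_assoc],
      ← Fn.pull_pull, pull_pt, show (q : A →ₐ[k] B') a = 0 from h2, map_zero, map_zero]
  obtain ⟨v, hv⟩ := Fn.exists_hom (X := Y) (Y := Z) (AlgHom.liftOfSurjective (Fn.pull z) hsurj (Fn.pull u) hker)
  refine ⟨v, Fn.hom_ext ?_⟩
  rw [Fn.pull_comp, hv, AlgHom.liftOfSurjective_comp]

/-- **A character trivial on every one-parameter subgroup of a connected group is trivial.** -/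
theorem char_eq_one_of_cochar (χ : C ⟶ 𝔾ₘ) [IsMonHom χ]
    (h : ∀ d : 𝔾ₘ ⟶ C, IsMonHom d → d ≫ χ = 1) : χ = 1 := by
  classical
  obtain ⟨A, _, _, eC, heC, heC'⟩ := exists_model C
  haveI := heC; haveI := heC'
  obtain ⟨hft, hdom⟩ := model_props eC
  haveI := hft; haveI := hdom
  obtain ⟨θ, hθ⟩ := exists_ptsEquiv (k := k) (A := A)
  obtain ⟨c, hc⟩ : ∃ c : A, Fn.pull eC.hom (Fn.specAlg (k := k) A c) = (chFn χ) := by
    obtain ⟨a, ha⟩ := pull_surj_of_iso eC (chFn χ)
    obtain ⟨c, rfl⟩ := (Fn.specAlg (k := k) A).surjective a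
    exact ⟨c, ha⟩
  have hval : ∀ z : WithConv (A →ₐ[k] k), z.ofConv c = (par ((θ.symm z ≫ eC.inv) ≫ χ) : k) := by
    intro z
    obtain ⟨x, rfl⟩ := θ.surjective z
    rw [MulEquiv.symm_apply_apply, hθ, par_eq, GmPts.unitOfPt_comp]
    show _ = gamma k ((x ≫ eC.inv).left.appTop.hom (chFn χ))
    show _ = val (x ≫ eC.inv) (chFn χ)
    rw [← hc, val_pull, Category.assoc, eC.inv_hom_id, Category.comp_id]
  have hmul : ∀ z w : WithConv (A →ₐ[k] k), (z * w).ofConv c = z.ofConv c * w.ofConv c := by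
    intro z w
    rw [hval, hval, hval, map_mul, MonObj.mul_comp, MonObj.mul_comp, par_mul, Units.val_mul]
  have hgl : IsGroupLikeElem k c := by
    refine ⟨?_, ?_⟩
    · have h1 := hval 1
      rw [map_one, MonObj.one_comp, MonObj.one_comp, par_one, Units.val_one, AlgHom.convOne_def] at h1
      simpa using h1
    · refine sub_eq_zero.1 (Groth.Agent.H20Hopf.Rosenlicht.tensor_ext (k := k) fun g => ?_)
      refine Groth.Agent.H20Hopf.Rosenlicht.point_ext (k := k) fun g' => ?_
      have key : ∀ z : A ⊗[k] A, g' (TensorProduct.lid k A (g.toLinearMap.rTensor A z)) =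
          Algebra.TensorProduct.lift g g' (fun _ _ => Commute.all _ _) z := fun z => by
        induction z using TensorProduct.induction_on with
        | zero => simp
        | tmul p q => simp
        | add p q hp hq => simp only [map_add, hp, hq]
      rw [key, map_sub, Algebra.TensorProduct.lift_tmul, sub_eq_zero]
      have h2 := hmul (toConv g) (toConv g')
      rw [AlgHom.convMul_apply] at h2
      exact h2
  have hc1 : c = 1 := by
    refine eq_one_of_forall_oneParam hgl fun φ => ?_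
    haveI := Groth.Agent.H20Red.isMonHom_pt (k := k) (A := A) φ
    haveI := Groth.Agent.H21Diag.isMonHom_diagToDS k ℤ
    haveI := Groth.Agent.H21Diag.isIso_diagToDS k ℤ
    haveI : IsMonHom (inv (Groth.Agent.H21Diag.diagToDS k ℤ)) :=
      isMonHom_iso_inv (asIso (Groth.Agent.H21Diag.diagToDS k ℤ))
    let j : Red.diag k ℤ ⟶ CoactBr.sp k A := CoactBr.pt (φ : A →ₐ[k] MonoidAlgebra k (Multiplicative ℤ))
    haveI : IsMonHom j := Groth.Agent.H20Red.isMonHom_pt (k := k) (A := A) φ
    have h1 := h (inv (Groth.Agent.H21Diag.diagToDS k ℤ) ≫ j ≫ eC.inv) inferInstance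
    rw [Category.assoc, IsIso.inv_comp_eq, MonObj.comp_one, Category.assoc] at h1
    have h2 : Fn.pull (j ≫ eC.inv) (chFn χ) = 1 :=
      (char_comp_eq_one_iff _ χ).1 ((Category.assoc _ _ _).trans h1)
    rw [← hc, Fn.pull_pull, Category.assoc, eC.inv_hom_id, Category.comp_id, pull_pt] at h2
    exact (Fn.specAlg (k := k) _).injective (h2.trans (map_one _).symm)
  rw [eq_one_iff_unit, ← hc, hc1, map_one, map_one]

end Alg

end H20Borel

end
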