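import Groth.Agent.H25SmVar.Basic
import Groth.Agent.H19Grp.RegularSmooth
import Groth.Agent.H20Mu.Values
import Mathlib.RingTheory.Ideal.KrullsHeightTheorem

/-!
# A map with injective cotangent map at a regular point is dominant
-/

set_option autoImplicit false
set_option linter.style.haveILetI false
set_option backward.isDefEq.respectTransparency false

universe u

open CategoryTheory AlgebraicGeometry IsLocalRing
open Groth.Agent.H27Witt H20Mu

noncomputable section

namespace H20Borel

variable {k R S : Type u} [Field k] [CommRing R] [IsDomain R] [CommRing S] [Algebra k R] [Algebra k S]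
  [IsNoetherianRing R] [IsNoetherianRing S]

omit [IsDomain R] in
/-- The height of a rational point is at most the dimension of its cotangent space. -/
theorem height_le_finrank_cotangent (ξ : R →ₐ[k] k) :
    (RingHom.ker ξ).height ≤ Module.finrank k (RingHom.ker ξ).Cotangent := by
  haveI hmax : (RingHom.ker ξ).IsMaximal := RingHom.ker_isMaximal_of_surjective _ fun c => ⟨algebraMap k R c, ξ.commutes c⟩
  set m := RingHom.ker ξ
  set L := Localization.AtPrime m
  have h1 : ((m.height : ℕ∞) : WithBot ℕ∞) = ringKrullDim L := (IsLocalization.AtPrime.ringKrullDim_eq_height m L).symm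
  have h2 := ringKrullDim_le_spanFinrank_maximalIdeal L
  rw [spanFinrank_maximalIdeal_eq_finrank_cotangentSpace, Groth.Agent.H25SmVar.finrank_cotangentSpace_localization R m,
    ← h1] at h2
  refine (WithBot.coe_le_coe.mp h2).trans ?_
  rw [finrank_eq_of_residue ξ]
where
  finrank_eq_of_residue {R : Type u} [CommRing R] [Algebra k R] (ξ : R →ₐ[k] k) [(RingHom.ker ξ).IsMaximal] :
      Module.finrank (R ⧸ RingHom.ker ξ) (RingHom.ker ξ).Cotangent = Module.finrank k (RingHom.ker ξ).Cotangent := by
    refine (Groth.Agent.H25SmVar.finrank_eq_of_equiv_equiv (algebraMap k (R ⧸ RingHom.ker ξ)) (AddEquiv.refl _) ?_ ?_).symm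
    · refine ⟨RingHom.injective _, fun x => ?_⟩
      obtain ⟨r, rfl⟩ := Ideal.Quotient.mk_surjective x
      refine ⟨ξ r, (Ideal.Quotient.eq.mpr ?_)⟩
      show ξ (algebraMap k R (ξ r) - r) = 0
      rw [map_sub, AlgHom.commutes, Algebra.algebraMap_self, RingHom.id_apply, sub_self]
    · intro c v
      show c • v = Ideal.Quotient.mk (RingHom.ker ξ) (algebraMap k R c) • v
      refine ((algebraMap_smul R c v).symm).trans ?_
      obtain ⟨x, rfl⟩ := Ideal.toCotangent_surjective _ v
      rfl

omit [IsNoetherianRing R] in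
/-- Heights drop when passing to a proper quotient of a domain. -/
theorem height_map_quotient_lt {p m : Ideal R} [p.IsPrime] [m.IsPrime] (hp : p ≠ ⊥) (hpm : p ≤ m)
    [hfin : (m.map (Ideal.Quotient.mk p)).FiniteHeight] :
    (m.map (Ideal.Quotient.mk p)).height < m.height := by
  haveI : (m.map (Ideal.Quotient.mk p)).IsPrime :=
    Ideal.map_isPrime_of_surjective Ideal.Quotient.mk_surjective (by rwa [Ideal.mk_ker])
  let f : WithBot (PrimeSpectrum (R ⧸ p)) → PrimeSpectrum R :=
    fun o => o.recBotCoe ⟨⊥, Ideal.isPrime_bot⟩ fun q => PrimeSpectrum.comap (Ideal.Quotient.mk p) q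
  have hge : ∀ q : PrimeSpectrum (R ⧸ p), p ≤ (PrimeSpectrum.comap (Ideal.Quotient.mk p) q).asIdeal := fun q a ha => by
    show Ideal.Quotient.mk p a ∈ q.asIdeal
    rw [Ideal.Quotient.eq_zero_iff_mem.mpr ha]
    exact q.asIdeal.zero_mem
  have hf : StrictMono f := by
    intro a b hab
    cases b with
    | bot => exact absurd hab not_lt_bot
    | coe b =>
      cases a with
      | bot =>
        show (⊥ : Ideal R) < (PrimeSpectrum.comap (Ideal.Quotient.mk p) b).asIdeal
        exact lt_of_lt_of_le (bot_lt_iff_ne_bot.mpr hp) (hge b)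
      | coe a =>
        have hab' : a.asIdeal < b.asIdeal := (WithBot.coe_lt_coe.mp hab : a < b)
        show a.asIdeal.comap (Ideal.Quotient.mk p) < b.asIdeal.comap (Ideal.Quotient.mk p)
        exact lt_of_le_of_ne (Ideal.comap_mono hab'.le) fun e =>
          hab'.ne (Ideal.comap_injective_of_surjective _ Ideal.Quotient.mk_surjective e)
  have h := Order.height_le_height_apply_of_strictMono f hf
    ((⟨m.map (Ideal.Quotient.mk p), inferInstance⟩ : PrimeSpectrum (R ⧸ p)) : WithBot (PrimeSpectrum (R ⧸ p)))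
  rw [Order.height_coe_withBot] at h
  have e : f ((⟨m.map (Ideal.Quotient.mk p), inferInstance⟩ : PrimeSpectrum (R ⧸ p)) :
      WithBot (PrimeSpectrum (R ⧸ p))) = ⟨m, inferInstance⟩ := by
    refine PrimeSpectrum.ext ?_
    show (m.map (Ideal.Quotient.mk p)).comap (Ideal.Quotient.mk p) = m
    rw [Ideal.comap_map_of_surjective' _ Ideal.Quotient.mk_surjective, Ideal.mk_ker, sup_eq_left.mpr hpm]
  rw [e] at h
  rw [PrimeSpectrum.height_eq_orderHeight ⟨m.map (Ideal.Quotient.mk p), inferInstance⟩,
    PrimeSpectrum.height_eq_orderHeight ⟨m, inferInstance⟩]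
  refine lt_of_lt_of_le ?_ h
  have hne : Order.height (⟨m.map (Ideal.Quotient.mk p), inferInstance⟩ : PrimeSpectrum (R ⧸ p)) ≠ ⊤ := by
    have := (m.map (Ideal.Quotient.mk p)).height_ne_top (Ideal.IsPrime.ne_top ‹_›)
    rwa [PrimeSpectrum.height_eq_orderHeight ⟨m.map (Ideal.Quotient.mk p), inferInstance⟩] at this
  exact ENat.lt_add_one_iff hne |>.mpr le_rfl

/-- **Injectivity on cotangent spaces at a regular point gives injectivity on functions.** -/
theorem injective_of_cotangent [IsDomain S] (ψ : R →ₐ[k] S) (χ : S →ₐ[k] k)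
    (hS : (Module.finrank k (RingHom.ker χ).Cotangent : ℕ∞) ≤ (RingHom.ker χ).height)
    [Module.Finite k (RingHom.ker (χ.comp ψ)).Cotangent] [Module.Finite k (RingHom.ker χ).Cotangent]
    (hcot : ∀ a, χ (ψ a) = 0 → ψ a ∈ RingHom.ker χ ^ 2 → a ∈ RingHom.ker (χ.comp ψ) ^ 2) :
    Function.Injective ψ := by
  classical
  haveI hMmax : (RingHom.ker χ).IsMaximal := RingHom.ker_isMaximal_of_surjective _ fun c => ⟨algebraMap k S c, χ.commutes c⟩
  haveI hmmax : (RingHom.ker (χ.comp ψ)).IsMaximal :=
    RingHom.ker_isMaximal_of_surjective _ fun c => ⟨algebraMap k R c, (χ.comp ψ).commutes c⟩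
  set M := RingHom.ker χ with hM
  set m := RingHom.ker (χ.comp ψ) with hm
  have hmM : m ≤ M.comap ψ := fun a ha => ha
  let c := Ideal.mapCotangent m M ψ hmM
  have hc : Function.Injective c := by
    rw [← LinearMap.ker_eq_bot, LinearMap.ker_eq_bot']
    intro v hv
    obtain ⟨a, rfl⟩ := Ideal.toCotangent_surjective _ v
    refine (Ideal.toCotangent_eq_zero _ a).mpr (hcot a a.2 ?_)
    exact (Ideal.toCotangent_eq_zero M ⟨ψ a, hmM a.2⟩).mp hv
  obtain ⟨W, hW⟩ := (LinearMap.range c).exists_isCompl
  have hdim : Module.finrank k m.Cotangent + Module.finrank k W = Module.finrank k M.Cotangent := by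
    rw [← Submodule.finrank_add_eq_of_isCompl hW, LinearMap.finrank_range_of_inj hc]
  let b := Module.finBasis k W
  choose z hz using fun i => Ideal.toCotangent_surjective M ((b i : W) : M.Cotangent)
  by_contra hinj
  replace hinj : RingHom.ker ψ ≠ ⊥ := fun h => hinj ((RingHom.injective_iff_ker_eq_bot _).mpr h)
  set p := RingHom.ker ψ with hp
  haveI hpprime : p.IsPrime := RingHom.ker_isPrime _
  have hpm : p ≤ m := fun a ha => by
    show χ (ψ a) = 0
    rw [show ψ a = 0 from ha, map_zero]
  set mb := m.map (Ideal.Quotient.mk p) with hmb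
  haveI : mb.IsPrime := Ideal.map_isPrime_of_surjective Ideal.Quotient.mk_surjective (by rwa [Ideal.mk_ker])
  let ψb : R ⧸ p →ₐ[k] S := Ideal.Quotient.liftₐ p ψ fun a ha => ha
  obtain ⟨s, hs, hscard⟩ := mb.exists_finset_card_eq_height_of_isNoetherianRing
  let t : Finset S := s.image ψb ∪ Finset.univ.image fun i => (z i : S)
  have hmin : M ∈ (Ideal.span (t : Set S)).minimalPrimes := by
    refine ⟨⟨hMmax.isPrime, Ideal.span_le.mpr fun x hx => ?_⟩, ?_⟩
    · rcases Finset.mem_union.mp hx with h | h
      · obtain ⟨y, hy, rfl⟩ := Finset.mem_image.mp h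
        obtain ⟨a, ha, rfl⟩ := (Ideal.mem_map_iff_of_surjective _ Ideal.Quotient.mk_surjective).mp
          (hs.1.2 (Ideal.subset_span hy))
        exact hmM ha
      · obtain ⟨i, -, rfl⟩ := Finset.mem_image.mp h
        exact (z i).2
    · rintro q ⟨hq, htq⟩ hqM
      haveI := hq
      have hmb' : mb ≤ q.comap ψb := hs.2
        ⟨Ideal.IsPrime.comap ψb, Ideal.span_le.mpr fun y hy =>
          htq (Ideal.subset_span (Finset.mem_union_left _ (Finset.mem_image_of_mem _ hy)))⟩
        fun y hy => by
          obtain ⟨a, rfl⟩ := Ideal.Quotient.mk_surjective y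
          exact Ideal.mem_map_of_mem _ (hqM hy : ψ a ∈ M)
      have hle : M ≤ q ⊔ M ^ 2 := fun x hx => by
        have hv : M.toCotangent ⟨x, hx⟩ ∈ LinearMap.range c ⊔ W := by rw [hW.sup_eq_top]; trivial
        obtain ⟨_, ⟨v, rfl⟩, w, hw, hvw⟩ := Submodule.mem_sup.mp hv
        obtain ⟨a, rfl⟩ := Ideal.toCotangent_surjective _ v
        let d := b.repr ⟨w, hw⟩
        let y : M := ⟨ψ a, hmM a.2⟩ + ∑ i, algebraMap k S (d i) • z i
        have hy : M.toCotangent y = M.toCotangent ⟨x, hx⟩ := by
          rw [← hvw]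
          simp only [y, map_add, map_sum, map_smul, hz]
          refine congrArg₂ (· + ·) rfl ?_
          conv_rhs => rw [show w = ((⟨w, hw⟩ : W) : M.Cotangent) from rfl, ← b.sum_repr ⟨w, hw⟩]
          rw [Submodule.coe_sum]
          exact Finset.sum_congr rfl fun i _ => by rw [Submodule.coe_smul, algebraMap_smul]
        have h2 : (y : S) - x ∈ M ^ 2 := (Ideal.toCotangent_eq M).mp hy
        have hyq : (y : S) ∈ q := by
          simp only [y, Submodule.coe_add, AddSubmonoidClass.coe_finsetSum]
          refine add_mem (hmb' (Ideal.mem_map_of_mem _ a.2)) (sum_mem fun i _ => ?_)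
          exact Submodule.smul_mem q (algebraMap k S (d i)) (htq (Ideal.subset_span
            (Finset.mem_union_right _ (Finset.mem_image_of_mem _ (Finset.mem_univ i)))))
        rw [show x = (y : S) - ((y : S) - x) by ring]
        exact sub_mem (Ideal.mem_sup_left hyq) (Ideal.mem_sup_right h2)
      set Mq := M.map (Ideal.Quotient.mk q) with hMq
      have hidem : IsIdempotentElem Mq := by
        refine le_antisymm Ideal.mul_le_left ?_
        refine (Ideal.map_mono hle).trans_eq ?_
        rw [Ideal.map_sup, Ideal.map_quotient_self, bot_sup_eq, Ideal.map_pow, pow_two]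
      rcases (Ideal.isIdempotentElem_iff_eq_bot_or_top (R := S ⧸ q) Mq (IsNoetherian.noetherian Mq)).mp hidem with h | h
      · intro x hx
        exact Ideal.Quotient.eq_zero_iff_mem.mp ((Submodule.mem_bot (S ⧸ q)).mp (h ▸ Ideal.mem_map_of_mem _ hx))
      · exfalso
        have h1 := congrArg (Ideal.comap (Ideal.Quotient.mk q)) h
        rw [Ideal.comap_top, hMq, Ideal.comap_map_of_surjective' _ Ideal.Quotient.mk_surjective, Ideal.mk_ker,
          sup_eq_left.mpr hqM] at h1
        exact hMmax.ne_top h1
  have hcard : (M.height : ℕ∞) ≤ mb.height + (Module.finrank k W : ℕ∞) := by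
    refine (Ideal.height_le_card_of_mem_minimalPrimes_span_finset hmin).trans ?_
    rw [← hscard, ← Nat.cast_add, Nat.cast_le]
    refine (Finset.card_union_le _ _).trans (Nat.add_le_add Finset.card_image_le (Finset.card_image_le.trans ?_))
    rw [Finset.card_univ, Fintype.card_fin]
  have hlt : mb.height < (Module.finrank k m.Cotangent : ℕ∞) :=
    (height_map_quotient_lt hinj hpm).trans_le (height_le_finrank_cotangent (χ.comp ψ))
  have h1 := hS.trans hcard
  rw [← hscard] at h1 hlt
  rw [← Nat.cast_add, Nat.cast_le] at h1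
  rw [Nat.cast_lt] at hlt
  omega

end H20Borel
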