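import Groth.Agent.H20Mu.Line
import Groth.Agent.H27Witt.GaCoord

/-!
# The additive and multiplicative groups fix points of proper schemes
-/

set_option autoImplicit false
set_option linter.style.haveILetI false
set_option backward.isDefEq.respectTransparency false

universe u

open CategoryTheory CategoryTheory.Limits MonoidalCategory CartesianMonoidalCategory MonObj AlgebraicGeometry Opposite
open Groth.Agent.H27Witt Groth.Agent.H15Magnet

noncomputable section

namespace H20Borel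

open H20Mu

variable {k : Type u} [Field k]

local notation "Gm" => Red.Gm (Sk k)
local notation "Ga" => Red.Ga (Sk k)

theorem origin_absorb {T : Over (Sk k)} (u : T ⟶ Gm) :
    (u ≫ HMNum.incl (Sk k)) * (toUnit T ≫ HMNum.origin (Sk k)) = toUnit T ≫ HMNum.origin (Sk k) := by
  rw [HMNum.origin, ← Category.assoc (toUnit T)]
  refine (mul_face_one HMNum.isFace_bot (u ≫ HMNum.incl (Sk k))).trans ?_
  rw [← Category.assoc _ (Magnet.AMonS.map _ _)]
  have : Subsingleton (↥(⊥ : AddSubmonoid ℤ)) :=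
    ⟨fun x y => Subtype.ext ((AddSubmonoid.mem_bot.1 x.2).trans (AddSubmonoid.mem_bot.1 y.2).symm)⟩
  exact congrArg (· ≫ Magnet.AMonS.faceMap _ HMNum.isFace_bot) (subsingleton_pts T _)

variable {G X : Over (Sk k)} [GrpObj G] (a : AlgGrp.Action G X)

/-- The multiplicative group fixes a point. -/
theorem exists_fixed_Gm [IsProper X.hom] (l : Gm ⟶ G) [IsMonHom l] (x₀ : 𝟙_ (Over (Sk k)) ⟶ X) :
    ∃ x : 𝟙_ (Over (Sk k)) ⟶ X, ∀ (T : Over (Sk k)) (u : T ⟶ Gm),
      lift (u ≫ l) (toUnit T ≫ x) ≫ a.act = toUnit T ≫ x := by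
  obtain ⟨g, ⟨⟨φ, hφ⟩, -, hlim⟩, -⟩ := exists_line_extension a l x₀
  rw [HMNum.limitPt_eq] at hlim
  refine ⟨plPt 0 ≫ g, fun T u => ?_⟩
  have h := (Magnet.MonAct.mem_eqvHom_iff _).1 hφ T u (toUnit T ≫ HMNum.origin (Sk k)) (toUnit T)
  simp only [Magnet.MonAct.lift_restrict_act, Magnet.MonAct.ofAction_act, Magnet.subAct,
    Magnet.MonAct.lift_regular_act] at h
  rw [origin_absorb] at h
  have e : lift (toUnit T ≫ HMNum.origin (Sk k)) (toUnit T) ≫ φ = toUnit T ≫ plPt 0 ≫ g := by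
    rw [← hlim, toUnit_unique (toUnit (𝟙_ (Over (Sk k)))) (𝟙 _), Category.id_comp, comp_lift_assoc,
      Category.comp_id]
  rw [← e]
  exact h.symm

/-- Coordinate of the affine line. -/
def sFn : Fn (Pl k) := plEquiv Polynomial.X

/-- The chart `s ≠ 0` of the line. -/
def chartU : (Pl k).left.Opens := (Pl k).left.basicOpen (sFn : Fn (Pl k))

/-- The chart as a scheme over `k`. -/
def Uo (k : Type u) [Field k] : Over (Sk k) := Over.mk ((chartU (k := k)).ι ≫ (Pl k).hom)

/-- Its inclusion. -/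
def ιU : Uo k ⟶ Pl k := Over.homMk (chartU (k := k)).ι rfl

theorem isUnit_pull {Z : Scheme.{u}} (s : Γ(Z, ⊤)) : IsUnit ((Z.basicOpen s).ι.appTop s) := by
  have h1 : (Z.basicOpen s).toScheme.basicOpen ((Z.basicOpen s).ι.appTop s) = ⊤ := by
    rw [← Scheme.preimage_basicOpen_top]
    exact top_le_iff.1 fun z _ => (Z.basicOpen s).range_ι.le ⟨z, rfl⟩
  refine RingedSpace.isUnit_of_isUnit_germ (Z.basicOpen s).toScheme.toRingedSpace ⊤ _ fun z hz => ?_
  have h2 : z ∈ (Z.basicOpen s).toScheme.basicOpen ((Z.basicOpen s).ι.appTop s) := by rw [h1]; trivial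
  exact (Scheme.mem_basicOpen_top _ _ z).1 h2

theorem dense_basicOpen {B : Type u} [CommRing B] [IsDomain B] [Algebra k B] {b : B} (hb : b ≠ 0) :
    Dense (((Over.mk (Spec.map (CommRingCat.ofHom (algebraMap k B))) : Over (Sk k)).left.basicOpen
      (Fn.specAlg (k := k) B b : Fn _) : (Over.mk (Spec.map (CommRingCat.ofHom (algebraMap k B))) : Over (Sk k)).left.Opens) :
      Set (Over.mk (Spec.map (CommRingCat.ofHom (algebraMap k B))) : Over (Sk k)).left) := by
  haveI : AlgebraicGeometry.IsIntegral (Spec (CommRingCat.of B)) := inferInstance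
  haveI : IrreducibleSpace (Spec (CommRingCat.of B)) := inferInstance
  haveI : IrreducibleSpace (Over.mk (Spec.map (CommRingCat.ofHom (algebraMap k B))) : Over (Sk k)).left :=
    inferInstanceAs (IrreducibleSpace (Spec (CommRingCat.of B)))
  refine IsOpen.dense (Scheme.basicOpen _ _).2 (Set.nonempty_iff_ne_empty.2 fun h => hb ?_)
  have h' : (Spec (CommRingCat.of B)).basicOpen ((Fn.specAlg (k := k) B b : Fn _) : Γ(Spec (CommRingCat.of B), ⊤)) = ⊥ :=
    TopologicalSpace.Opens.ext h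
  rw [basicOpen_eq_bot_iff] at h'
  exact (Fn.specAlg (k := k) B).map_eq_zero_iff.mp h'

theorem exists_extend [IsProper X.hom] (gU : Uo k ⟶ X) : ∃ g : Pl k ⟶ X, ιU ≫ g = gU := by
  haveI : IsAffine (Pl k).left := inferInstanceAs (IsAffine (Spec _))
  let U : (Pl k).left.Opens := chartU
  have hdense : Dense (U : Set (Pl k).left) := dense_basicOpen (B := Polynomial k) Polynomial.X_ne_zero
  haveI : Algebra.Smooth k (Polynomial k) :=
    (haveI : Algebra.Smooth k (MvPolynomial PUnit.{u + 1} k) := ⟨inferInstance, inferInstance⟩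
     Algebra.Smooth.of_equiv (MvPolynomial.pUnitAlgEquiv.{u} k))
  haveI : Smooth (Pl k).hom := by
    show Smooth (Spec.map (CommRingCat.ofHom (algebraMap k (Polynomial k))))
    rw [HasRingHomProperty.Spec_iff (P := @Smooth)]
    exact RingHom.smooth_algebraMap.mpr inferInstance
  obtain ⟨V, hUV, g₁, hg₁, hres, hcodim⟩ := Groth.Agent.H28Neron.exists_extension_off_codim_two (R := k)
    (Pl k).hom X.hom U hdense gU.left (Over.w gU)
  obtain rfl : V = ⊤ := by
    refine eq_top_iff.mpr fun z _ => ?_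
    by_contra hz
    have h1 : ringKrullDim ((Pl k).left.presheaf.stalk z) ≤ 1 := by
      refine (Groth.Agent.H05EGA4.DimFibre.stalkDim_le_top z).trans (le_of_eq ?_)
      show topologicalKrullDim (PrimeSpectrum (Polynomial k)) = 1
      rw [PrimeSpectrum.topologicalKrullDim_eq_ringKrullDim,
        Polynomial.ringKrullDim_of_isNoetherianRing, ringKrullDim_eq_zero_of_field, zero_add]
    exact absurd (show (2 : ℕ) ≤ 1 by exact_mod_cast (hcodim z hz).trans h1) (by omega)
  refine ⟨Over.homMk ((Pl k).left.topIso.inv ≫ g₁) (by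
    rw [Category.assoc, hg₁, Scheme.toIso_inv_ι_assoc]), ?_⟩
  apply Over.OverMorphism.ext
  show U.ι ≫ (Pl k).left.topIso.inv ≫ g₁ = gU.left
  have e : U.ι ≫ (Pl k).left.topIso.inv = (Pl k).left.homOfLE hUV := by
    rw [← cancel_mono (Scheme.Opens.ι ⊤), Category.assoc, Scheme.homOfLE_ι, Scheme.toIso_inv_ι, Category.comp_id]
  rw [← Category.assoc, e, hres]

theorem exists_toLine {T : Over (Sk k)} (c : Fn T) : ∃ p : T ⟶ Pl k, Fn.pull p sFn = c := by
  haveI : IsAffine (Pl k).left := inferInstanceAs (IsAffine (Spec _))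
  obtain ⟨p, hp⟩ := Fn.exists_hom (X := T) (Y := Pl k) ((Polynomial.aeval c).comp (plEquiv (k := k)).symm.toAlgHom)
  exact ⟨p, by rw [hp]; simp [sFn]⟩

theorem toLine_ext {T : Over (Sk k)} {p q : T ⟶ Pl k} (h : Fn.pull p sFn = Fn.pull q sFn) : p = q := by
  haveI : IsAffine (Pl k).left := inferInstanceAs (IsAffine (Spec _))
  refine Fn.hom_ext (AlgHom.ext fun b => ?_)
  obtain ⟨c, rfl⟩ := (plEquiv (k := k)).surjective b
  exact AlgHom.congr_fun (Polynomial.algHom_ext (f := (Fn.pull p).comp (plEquiv (k := k)).toAlgHom)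
    (g := (Fn.pull q).comp (plEquiv (k := k)).toAlgHom) h) c

theorem exists_toU {T : Over (Sk k)} (p : T ⟶ Pl k) (h : IsUnit (Fn.pull p sFn)) :
    ∃ q : T ⟶ Uo k, q ≫ ιU = p := by
  have hrange : Set.range p.left ⊆ Set.range (chartU (k := k)).ι := by
    rintro _ ⟨z, rfl⟩
    refine (chartU (k := k)).range_ι.ge ?_
    show z ∈ p.left ⁻¹ᵁ (Pl k).left.basicOpen _
    rw [Scheme.preimage_basicOpen_top, Scheme.basicOpen_of_isUnit _ (show IsUnit (p.left.appTop (sFn : Fn (Pl k))) from h)]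
    trivial
  exact ⟨Over.homMk (IsOpenImmersion.lift (chartU (k := k)).ι _ hrange) (by
    show _ ≫ (chartU (k := k)).ι ≫ (Pl k).hom = _
    rw [IsOpenImmersion.lift_fac_assoc]
    exact Over.w _), Over.OverMorphism.ext (IsOpenImmersion.lift_fac _ _ _)⟩

open Polynomial in
/-- The additive group fixes a point. -/
theorem exists_fixed_Ga [IsProper X.hom] (l : Ga ⟶ G) [IsMonHom l] (x₀ : 𝟙_ (Over (Sk k)) ⟶ X) :
    ∃ x : 𝟙_ (Over (Sk k)) ⟶ X, ∀ (T : Over (Sk k)) (u : T ⟶ Ga),
      lift (u ≫ l) (toUnit T ≫ x) ≫ a.act = toUnit T ≫ x := by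
  haveI : IsAffine (Pl k).left := inferInstanceAs (IsAffine (Spec _))
  have hsU : IsUnit (Fn.pull (ιU (k := k)) sFn) := isUnit_pull (Z := (Pl k).left) (sFn : Fn (Pl k))
  obtain ⟨uU, huU⟩ := GaCoord.gaFn_surjective (X := Uo k) ((hsU.unit⁻¹ : (Fn (Uo k))ˣ) : Fn (Uo k))
  obtain ⟨g, hg⟩ := exists_extend (lift (uU ≫ l) (toUnit _ ≫ x₀) ≫ a.act)
  let P := Polynomial (Polynomial k)
  let d : P := 1 + Polynomial.X * Polynomial.C Polynomial.X
  have hd : d ≠ 0 := fun h => by
    have := congrArg (Polynomial.eval (0 : Polynomial k)) h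
    rw [Polynomial.eval_zero, Polynomial.eval_add, Polynomial.eval_one, Polynomial.eval_mul, Polynomial.eval_X, zero_mul, add_zero] at this
    exact one_ne_zero this
  let B := Localization.Away d
  haveI : IsDomain B := IsLocalization.isDomain_localization (powers_le_nonZeroDivisors_of_noZeroDivisors hd)
  let W : Over (Sk k) := Over.mk (Spec.map (CommRingCat.ofHom (algebraMap k B)))
  haveI : IsAffine W.left := inferInstanceAs (IsAffine (Spec _))
  let eW : B ≃ₐ[k] Fn W := Fn.specAlg (k := k) B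
  let gW : Fn W := eW (algebraMap P B Polynomial.X)
  let sW : Fn W := eW (algebraMap P B (Polynomial.C Polynomial.X))
  have hdu : IsUnit (1 + gW * sW) := by
    have := (IsLocalization.Away.algebraMap_isUnit (S := B) d).map eW
    simp only [d, map_add, map_one, map_mul] at this
    exact this
  obtain ⟨pG, hpG⟩ := GaCoord.gaFn_surjective (X := W) gW
  obtain ⟨pS, hpS⟩ := exists_toLine sW
  obtain ⟨pS', hpS'⟩ := exists_toLine (sW * ((hdu.unit⁻¹ : (Fn W)ˣ) : Fn W))
  have key : pS' ≫ g = lift (pG ≫ l) (pS ≫ g) ≫ a.act := by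
    let Vo : Over (Sk k) := Over.mk ((W.left.basicOpen (sW : Fn W)).ι ≫ W.hom)
    let ιV : Vo ⟶ W := Over.homMk (W.left.basicOpen (sW : Fn W)).ι rfl
    have hsV : IsUnit (Fn.pull ιV sW) := isUnit_pull (Z := W.left) (sW : Fn W)
    obtain ⟨q, hq⟩ := exists_toU (ιV ≫ pS) (by rw [← Fn.pull_pull, hpS]; exact hsV)
    obtain ⟨q', hq'⟩ := exists_toU (ιV ≫ pS') (by
      rw [← Fn.pull_pull, hpS', map_mul]
      exact hsV.mul ((Units.isUnit _).map _))
    have hval : ∀ (r : Vo ⟶ Uo k), @Eq (Fn Vo) (@HMul.hMul (Fn Vo) (Fn Vo) (Fn Vo) _ (Red.gaFn (r ≫ uU)) (Fn.pull (r ≫ ιU) sFn)) (1 : Fn Vo) := fun r => by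
      rw [GaCoord.gaFn_comp, huU, ← Fn.pull_pull]
      show Fn.pull r _ * _ = 1
      rw [← map_mul, hsU.val_inv_mul, map_one]
    have hadd : q' ≫ uU = (ιV ≫ pG) * (q ≫ uU) := by
      refine GaCoord.gaFn_injective ?_
      rw [GaCoord.gaFn_mul, GaCoord.gaFn_comp ιV pG, hpG]
      have h1 := hval q
      have h2 := hval q'
      rw [hq, ← Fn.pull_pull, hpS] at h1
      rw [hq', ← Fn.pull_pull, hpS', map_mul] at h2
      have h3 : Fn.pull ιV ((hdu.unit⁻¹ : (Fn W)ˣ) : Fn W) * (1 + Fn.pull ιV gW * Fn.pull ιV sW) = 1 := by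
        rw [← map_mul (Fn.pull ιV) gW, ← map_one (Fn.pull ιV), ← map_add, ← map_mul, hdu.val_inv_mul, map_one]
      show @Eq (Fn Vo) (Red.gaFn (q' ≫ uU)) (@HAdd.hAdd (Fn Vo) (Fn Vo) (Fn Vo) _ (Fn.pull ιV gW) (Red.gaFn (q ≫ uU)))
      obtain ⟨A, hA⟩ : ∃ A : Fn Vo, A = Red.gaFn (q ≫ uU) := ⟨_, rfl⟩
      obtain ⟨C', hC⟩ : ∃ C' : Fn Vo, C' = Red.gaFn (q' ≫ uU) := ⟨_, rfl⟩
      rw [← hA] at h1 ⊢
      rw [← hC] at h2 ⊢
      linear_combination (Fn.pull ιV gW - C') * h1 + A * (1 + Fn.pull ιV gW * Fn.pull ιV sW) * h2 -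
        A * C' * Fn.pull ιV sW * h3
    have hV : ιV ≫ pS' ≫ g = ιV ≫ lift (pG ≫ l) (pS ≫ g) ≫ a.act := by
      rw [comp_lift_assoc, ← Category.assoc ιV pS', ← hq', ← Category.assoc ιV pS, ← hq, Category.assoc, hg,
        Category.assoc, hg, comp_lift_assoc, comp_lift_assoc, ← Category.assoc q' uU, hadd, MonObj.mul_comp,
        mul_act', ← Category.assoc q' (toUnit _), comp_toUnit, ← Category.assoc q (toUnit _), comp_toUnit,
        Category.assoc q, Category.assoc ιV pG]
    haveI : AlgebraicGeometry.IsReduced W.left := inferInstanceAs (AlgebraicGeometry.IsReduced (Spec _))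
    haveI : IsDominant (W.left.basicOpen (sW : Fn W)).ι := ⟨by
      rw [DenseRange, Scheme.Opens.range_ι]
      refine dense_basicOpen (B := B) (b := algebraMap P B (Polynomial.C Polynomial.X)) fun h => ?_
      rw [← map_zero (algebraMap P B)] at h
      exact Polynomial.C_ne_zero.mpr Polynomial.X_ne_zero
        (IsLocalization.injective B (powers_le_nonZeroDivisors_of_noZeroDivisors hd) h)⟩
    exact Over.OverMorphism.ext (ext_of_isDominant_of_isSeparated X.hom ((Over.w _).trans (Over.w _).symm)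
      (W.left.basicOpen (sW : Fn W)).ι (congrArg CommaMorphism.left hV))
  -- restrict to `s = 0`
  let c : Fn Ga := Red.gaFn (𝟙 (Red.Ga (Sk k)))
  let ψ : P →ₐ[k] Fn Ga := Polynomial.eval₂AlgHom (Polynomial.aeval (0 : Fn Ga)) c fun _ => Commute.all _ _
  have hψC : ∀ b : Polynomial k, ψ (Polynomial.C b) = Polynomial.aeval (0 : Fn Ga) b := fun b => Polynomial.eval₂_C _ _
  have hψX : ψ Polynomial.X = c := Polynomial.eval₂_X _ _
  let ψB : B →ₐ[k] Fn Ga := IsLocalization.liftAlgHom (M := Submonoid.powers d) (f := ψ) (fun y => by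
    obtain ⟨_, n, rfl⟩ := y
    show IsUnit (ψ (d ^ n))
    rw [map_pow, show ψ d = 1 by simp [d, hψC, hψX]]
    simp)
  obtain ⟨j, hj⟩ := Fn.exists_hom (X := Ga) (Y := W) (ψB.comp eW.symm.toAlgHom)
  have hjs : Fn.pull j sW = 0 := by simp [hj, sW, ψB, hψC]
  have hjg : j ≫ pG = 𝟙 _ := by
    refine GaCoord.gaFn_injective ?_
    rw [GaCoord.gaFn_comp, hpG]
    show Fn.pull j gW = c
    simp [hj, gW, ψB, hψX]
  have hzero : Fn.pull (toUnit Ga ≫ plPt (0 : k)) sFn = 0 := by
    rw [← Fn.pull_pull]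
    have h1 : Fn.pull (plPt (0 : k)) sFn = 0 := by
      have h2 : gamma k (Fn.pull (plPt (0 : k)) sFn) = 0 := by
        have := val_plPt (0 : k) Polynomial.X
        rw [eval_X] at this
        exact this
      have h3 := struct_gamma (k := k) (Fn.pull (plPt (0 : k)) sFn)
      rw [h2, map_zero] at h3
      exact h3.symm
    rw [h1, map_zero]
  have hj0 : j ≫ pS = toUnit Ga ≫ plPt (0 : k) := toLine_ext (by rw [hzero, ← Fn.pull_pull, hpS, hjs])
  have hj0' : j ≫ pS' = toUnit Ga ≫ plPt (0 : k) := toLine_ext (by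
    rw [hzero, ← Fn.pull_pull, hpS', map_mul, hjs, zero_mul])
  refine ⟨plPt 0 ≫ g, fun T u => ?_⟩
  have h := congrArg (u ≫ j ≫ ·) key
  simp only [← Category.assoc j pS', hj0', comp_lift_assoc, ← Category.assoc j pS, hj0, ← Category.assoc j pG,
    hjg, Category.id_comp] at h
  simp only [← Category.assoc u, comp_toUnit] at h
  simpa using h.symm

end H20Borel
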