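import Groth.Agent.H26Gr.LinkedRep

/-!
# The variety of full flags of a vector space, by its points
-/

set_option autoImplicit false
set_option backward.isDefEq.respectTransparency false
set_option backward.isDefEq.respectTransparency.types false

universe u

open CategoryTheory CategoryTheory.Limits AlgebraicGeometry TensorProduct
open Groth.Agent.H26Gr

noncomputable section

namespace H20Borel

variable {R : Type u} [CommRing R]

/-- A tuple of points of Grassmannians of varying rank. -/
abbrev GrTuple (R : Type u) [CommRing R] (n : ℕ) {m : ℕ} (r : Fin m → ℕ) (A : Type u) [CommRing A] [Algebra R A] :=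
  ∀ i, Module.Grassmannian A (A ⊗[R] (Fin n → R)) (r i)

/-- Products of Grassmannians of varying rank. -/
theorem exists_rep_tuple (n : ℕ) : ∀ (m : ℕ) (r : Fin m → ℕ), (∀ i, r i ≤ n) → ∃ (X : Over (Sb R))
    (e : ∀ A : CommAlgCat.{u} R, (SR A ⟶ X) ≃ GrTuple R n r A),
    (∀ (A B : CommAlgCat.{u} R) (φ : A ⟶ B) (g : SR A ⟶ X) (g' : SR B ⟶ X),
      g'.left = Spec.map (CommRingCat.ofHom φ.hom.toRingHom) ≫ g.left →
        ∀ i, e B g' i = Module.Grassmannian.map φ.hom (e A g i)) ∧ IsProper X.hom := by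
  intro m
  induction m with
  | zero =>
    intro r _
    refine ⟨Over.mk (𝟙 _), fun A =>
      { toFun := fun _ i => i.elim0
        invFun := fun _ => Over.homMk (SR A).hom (Category.comp_id _)
        left_inv := fun g => Over.OverMorphism.ext ((Over.w g).symm.trans (Category.comp_id _))
        right_inv := fun v => funext fun i => i.elim0 }, fun A B φ g g' _ i => i.elim0, ?_⟩
    show IsProper (𝟙 _)
    infer_instance
  | succ m ih =>
    intro r hr
    obtain ⟨Y, eY, heY, hY⟩ := ih (fun j => r j.succ) fun j => hr _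
    obtain ⟨G, eG, heG, hG⟩ := exists_rep_proper (R := R) n (r 0) (hr 0)
    refine ⟨Over.mk (pullback.fst G.hom Y.hom ≫ G.hom), fun A => (pairEquiv G Y (SR A)).trans
      (((eG A).prodCongr (eY A)).trans
        (Fin.consEquiv fun i => Module.Grassmannian A (A ⊗[R] (Fin n → R)) (r i))),
      fun A B φ g g' h i => ?_, ?_⟩
    · refine Fin.cases ?_ (fun j => ?_) i
      · refine heG A B φ _ _ ?_
        show g'.left ≫ _ = _ ≫ g.left ≫ _
        rw [h, Category.assoc]
      · refine heY A B φ _ _ ?_ j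
        show g'.left ≫ _ = _ ≫ g.left ≫ _
        rw [h, Category.assoc]
    · show IsProper (pullback.fst G.hom Y.hom ≫ G.hom)
      infer_instance

/-- The rank of the `i`-th quotient of a full flag. -/
abbrev fullRk (n : ℕ) : Fin (n + 1) → ℕ := fun i => n - i

/-- Full flags in `A ⊗ R^n`. -/
abbrev FlagPts (R : Type u) [CommRing R] (n : ℕ) (A : Type u) [CommRing A] [Algebra R A] :=
  {w : GrTuple R n (fullRk n) A // ∀ i j, i ≤ j → (w i).toSubmodule ≤ (w j).toSubmodule}

theorem map_le_map_iff_vanIdeal {A B : Type u} [CommRing A] [Algebra R A] [CommRing B] [Algebra R B] {n a b : ℕ}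
    (φ : A →ₐ[R] B) (V : Module.Grassmannian A (A ⊗[R] (Fin n → R)) a)
    (W : Module.Grassmannian A (A ⊗[R] (Fin n → R)) b) :
    (Module.Grassmannian.map φ V).toSubmodule ≤ (Module.Grassmannian.map φ W).toSubmodule ↔
      vanIdeal W (V.toSubmodule : Set (A ⊗[R] (Fin n → R))) ≤ RingHom.ker φ.toRingHom := by
  rw [map_toSubmodule_eq_span φ V, Submodule.span_le, ← forall_mem_map_iff, Set.image_subset_iff]
  rfl

/-- The flag variety. -/
theorem exists_flagSpace (n : ℕ) : ∃ (X : Over (Sb R)) (e : ∀ A : CommAlgCat.{u} R, (SR A ⟶ X) ≃ FlagPts R n A),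
    (∀ (A B : CommAlgCat.{u} R) (φ : A ⟶ B) (x : SR A ⟶ X) (x' : SR B ⟶ X),
      x'.left = Spec.map (CommRingCat.ofHom φ.hom.toRingHom) ≫ x.left →
        ∀ i, (e B x').1 i = Module.Grassmannian.map φ.hom ((e A x).1 i)) ∧ IsProper X.hom := by
  obtain ⟨P, e, he, hP⟩ := exists_rep_tuple (R := R) n (n + 1) (fullRk n) fun i => Nat.sub_le n i
  obtain ⟨Z, ι, hι, hZ⟩ := exists_closed (X := P)
    (fun A x => ∀ i j, i ≤ j → (e A x i).toSubmodule ≤ (e A x j).toSubmodule)
    (fun A x => ⨆ (i : Fin (n + 1)) (j : Fin (n + 1)) (_ : i ≤ j),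
      vanIdeal (e A x j) ((e A x i).toSubmodule : Set (A ⊗[R] (Fin n → R))))
    fun A B φ x x' h => by
      simp only [iSup_le_iff, he A B φ x x' h]
      exact forall_congr' fun i => forall_congr' fun j => imp_congr_right fun _ =>
        map_le_map_iff_vanIdeal φ.hom _ _
  haveI := hι
  let W : Over (Sb R) := Over.mk (ι ≫ P.hom)
  let toP : W ⟶ P := Over.homMk ι rfl
  let E : ∀ A : CommAlgCat.{u} R, (SR A ⟶ W) ≃ FlagPts R n A := fun A =>
    Equiv.ofBijective (fun h => ⟨e A (h ≫ toP), (hZ A _).1 ⟨h.left, rfl⟩⟩)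
      ⟨fun h h' hh => Over.OverMorphism.ext ((cancel_mono ι).1
          (congrArg (fun t : SR A ⟶ P => t.left) ((e A).injective (congrArg Subtype.val hh)))),
        fun v => by
          obtain ⟨x, hx⟩ := (e A).surjective v.1
          obtain ⟨h, hh⟩ := (hZ A x).2 (hx ▸ v.2)
          refine ⟨Over.homMk h (by show h ≫ ι ≫ P.hom = _; rw [← Category.assoc, hh]; exact Over.w x), ?_⟩
          refine Subtype.ext ((congrArg (e A) ?_).trans hx)
          exact Over.OverMorphism.ext hh⟩
  refine ⟨W, E, fun A B φ x x' h i => he A B φ (x ≫ toP) (x' ≫ toP) ?_ i, ?_⟩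
  · show x'.left ≫ ι = _ ≫ x.left ≫ ι
    rw [h, Category.assoc]
  · show IsProper (ι ≫ P.hom)
    infer_instance

end H20Borel
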