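import Groth.Agent.H20Borel.ProperCone

/-!
# Orbits of stable subspaces are closed
-/

set_option autoImplicit false
set_option linter.style.haveILetI false
set_option backward.isDefEq.respectTransparency false
set_option maxHeartbeats 1000000
set_option synthInstance.maxHeartbeats 100000

universe u

open CategoryTheory CategoryTheory.Limits MonoidalCategory CartesianMonoidalCategory MonObj AlgebraicGeometry
open Groth.Agent.H27Witt H20Mu H20Conj

noncomputable section

namespace H20Borel

variable {k : Type u} [Field k]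

local notation "Pt" X => 𝟙_ (Over (Sk k)) ⟶ X

variable {G : Over (Sk k)} [GrpObj G]
variable {ι₀ : Type} [Fintype ι₀] [DecidableEq ι₀] (rep : (𝟙_ (Over (Sk k)) ⟶ G) →* Matrix ι₀ ι₀ k) (L : Submodule k (ι₀ → k))

/-- In the Zariski closure of the union of the translates of `L`. -/
def InClo (x : ι₀ → k) : Prop :=
  ∀ p : MvPolynomial ι₀ k, (∀ g : Pt G, ∀ w ∈ L, MvPolynomial.eval ((rep g).mulVec w) p = 0) → MvPolynomial.eval x p = 0

theorem inClo_self (g : Pt G) {w : ι₀ → k} (hw : w ∈ L) : InClo rep L ((rep g).mulVec w) := fun _ hp => hp g w hw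

theorem inClo_move (h : Pt G) (c : k) {x : ι₀ → k} (hx : InClo rep L x) : InClo rep L (c • (rep h).mulVec x) := by
  intro p hp
  let σ : MvPolynomial ι₀ k →ₐ[k] MvPolynomial ι₀ k :=
    MvPolynomial.aeval fun a => ∑ b, MvPolynomial.C (c * rep h a b) * MvPolynomial.X b
  have hσ : ∀ y : ι₀ → k, MvPolynomial.eval y (σ p) = MvPolynomial.eval (c • (rep h).mulVec y) p := fun y => by
    show MvPolynomial.aeval y (σ p) = MvPolynomial.aeval _ p
    rw [← AlgHom.comp_apply, MvPolynomial.comp_aeval]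
    congr 1
    refine congrArg _ (funext fun a => ?_)
    simp [Matrix.mulVec, dotProduct, Finset.mul_sum]
    exact Finset.sum_congr rfl fun b _ => _root_.mul_assoc _ _ _
  rw [← hσ]
  refine hx _ fun g w hw => ?_
  rw [hσ, Matrix.mulVec_mulVec, ← map_mul, ← Matrix.mulVec_smul]
  exact hp _ _ (L.smul_mem c hw)

omit [GrpObj G] [DecidableEq ι₀] [Fintype ι₀] in
/-- Limits of polynomial curves. -/
theorem eval_curve_zero [Infinite k] {α : Type*} (s : Finset α) (d : α → ℕ) (c : α → ι₀ → k) (p : MvPolynomial ι₀ k)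
    (h : ∀ x : k, x ≠ 0 → MvPolynomial.eval (∑ n ∈ s, x ^ d n • c n) p = 0) :
    MvPolynomial.eval (∑ n ∈ s, (0 : k) ^ d n • c n) p = 0 := by
  let q : ι₀ → Polynomial k := fun a => ∑ n ∈ s, Polynomial.C (c n a) * Polynomial.X ^ d n
  have hq : ∀ x : k, Polynomial.eval x (MvPolynomial.aeval q p) = MvPolynomial.eval (∑ n ∈ s, x ^ d n • c n) p := by
    intro x
    have e : (fun a => Polynomial.eval x (q a)) = ∑ n ∈ s, x ^ d n • c n := funext fun a => by
      simp only [q, Polynomial.eval_finsetSum, Finset.sum_apply, Pi.smul_apply, smul_eq_mul]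
      exact Finset.sum_congr rfl fun n _ => by
        rw [Polynomial.eval_mul, Polynomial.eval_C, Polynomial.eval_pow, Polynomial.eval_X, _root_.mul_comm]
    rw [← e]
    clear h
    induction p using MvPolynomial.induction_on with
    | C a => simp
    | add p q hp hq => simp [hp, hq]
    | mul_X p i hp => simp [hp]
  have h0 : MvPolynomial.aeval q p = 0 := Polynomial.eq_zero_of_infinite_isRoot _
    (Set.Infinite.mono (fun x hx => (hq x).trans (h x hx)) (Set.finite_singleton (0 : k)).infinite_compl)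
  rw [← hq, h0, Polynomial.eval_zero]

variable [IsAlgClosed k] [LocallyOfFiniteType G.hom]
variable {H X : Over (Sk k)} [GrpObj H]

set_option maxHeartbeats 4000000 in
/-- **The translates of a stable subspace form a closed set when the quotient is proper.** -/
theorem exists_mem_orbit (i : H ⟶ G) [IsMonHom i] (a : AlgGrp.Action G X) (o : Pt X) (hX : AGF.IsQuotient i X a o)
    [IsProper X.hom] (F : ι₀ → ι₀ → Fn G) (hF : ∀ g p q, rep g p q = val g (F p q))
    (hL : ∀ h : Pt H, ∀ w ∈ L, (rep (h ≫ i)).mulVec w ∈ L) {x : ι₀ → k} (hx : InClo rep L x) :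
    ∃ g : Pt G, (rep g⁻¹).mulVec x ∈ L := by
  let P := MvPolynomial ι₀ k
  let A : Over (Sk k) := Over.mk (Spec.map (CommRingCat.ofHom (algebraMap k P)))
  let e : P ≃ₐ[k] Fn A := Fn.specAlg (k := k) P
  haveI : IsAffine A.left := inferInstanceAs (IsAffine (Spec _))
  haveI : LocallyOfFiniteType A.hom := by
    show LocallyOfFiniteType (Spec.map (CommRingCat.ofHom (algebraMap k P)))
    rw [HasRingHomProperty.Spec_iff (P := @LocallyOfFiniteType)]
    exact RingHom.finiteType_algebraMap.mpr inferInstance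
  let coord : (Pt A) → ι₀ → k := fun z q => val z (e (MvPolynomial.X q))
  have hval : ∀ (z : Pt A) (p : P), val z (e p) = MvPolynomial.eval (coord z) p := fun z p => by
    show ((val z).comp e.toAlgHom) p = MvPolynomial.aeval (coord z) p
    congr 1
    exact MvPolynomial.algHom_ext fun q => ((MvPolynomial.aeval_X (coord z) q).trans rfl).symm
  let ann := {φ : (ι₀ → k) →ₗ[k] k // ∀ w ∈ L, φ w = 0}
  let Φ : ann → Fn (G ⊗ A) := fun φ => ∑ p, ∑ q,
    algebraMap k (Fn (G ⊗ A)) (φ.1 (Pi.single p 1)) *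
      (Fn.pull (fst G A) (Fn.pull ι[G] (F p q)) * Fn.pull (snd G A) (e (MvPolynomial.X q)))
  have hΦ : ∀ (φ : ann) (g : Pt G) (z : Pt A), val (lift g z) (Φ φ) = φ.1 ((rep g⁻¹).mulVec (coord z)) := by
    intro φ g z
    conv_rhs => rw [pi_eq_sum_univ' ((rep g⁻¹).mulVec (coord z)), map_sum]
    simp only [Φ, map_sum, map_mul, AlgHom.commutes, val_pull, lift_fst, lift_snd, map_smul, smul_eq_mul,
      Algebra.algebraMap_self, RingHom.id_apply, Matrix.mulVec, dotProduct, Finset.sum_mul]
    refine Finset.sum_congr rfl fun p _ => Finset.sum_congr rfl fun q _ => ?_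
    rw [hF, show g ≫ ι[G] = g⁻¹ from (Hom.inv_def g).symm]
    show _ = val g⁻¹ (F p q) * coord z q * _
    ring
  let W : Set (G ⊗ A).left := {w | ∀ φ : ann, w ∉ (G ⊗ A).left.basicOpen (Φ φ : Γ((G ⊗ A).left, ⊤))}
  have hW : IsClosed W := by
    rw [show W = ⋂ φ : ann, ((G ⊗ A).left.basicOpen (Φ φ : Γ((G ⊗ A).left, ⊤)) : Set (G ⊗ A).left)ᶜ by
      ext w; simp [W]]
    exact isClosed_iInter fun φ => ((G ⊗ A).left.basicOpen _).isOpen.isClosed_compl
  have hmem : ∀ (g : Pt G) (z : Pt A), ptSet (lift g z) ∈ W ↔ (rep g⁻¹).mulVec (coord z) ∈ L := by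
    intro g z
    constructor
    · intro h
      refine mem_of_forall_dual' L fun φ hφ => ?_
      by_contra h0
      exact h ⟨φ, hφ⟩ ((ptSet_mem_basicOpen _ _).mpr (by rw [hΦ]; exact h0))
    · intro h φ hw
      exact (ptSet_mem_basicOpen _ _).mp hw (by rw [hΦ]; exact φ.2 _ h)
  obtain ⟨z, hz⟩ := Fn.exists_point (X := A) ((MvPolynomial.aeval x : P →ₐ[k] k).comp e.symm.toAlgHom)
  have hzx : coord z = x := funext fun q => by
    show Fn.ev z _ = _
    rw [hz]
    show MvPolynomial.aeval x (e.symm (e (MvPolynomial.X q))) = _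
    rw [e.symm_apply_apply, MvPolynomial.aeval_X]
  obtain ⟨g, hg⟩ := exists_mem_of_vanish i a o hX W hW (fun g h z' hw => by
      rw [hmem] at hw ⊢
      rw [_root_.mul_inv_rev, map_mul, ← Matrix.mulVec_mulVec, ← GrpObj.inv_comp]
      exact hL _ _ hw) z (fun f hf => by
      obtain ⟨p, rfl⟩ := e.surjective f
      rw [hval, hzx]
      refine hx p fun g w hw => ?_
      obtain ⟨z', hz'⟩ := Fn.exists_point (X := A)
        ((MvPolynomial.aeval ((rep g).mulVec w) : P →ₐ[k] k).comp e.symm.toAlgHom)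
      have hz'x : coord z' = (rep g).mulVec w := funext fun q => by
        show Fn.ev z' _ = _
        rw [hz']
        show MvPolynomial.aeval ((rep g).mulVec w) (e.symm (e (MvPolynomial.X q))) = _
        rw [e.symm_apply_apply, MvPolynomial.aeval_X]
      have := hf g z' ((hmem g z').mpr (by
        rw [hz'x, Matrix.mulVec_mulVec, ← map_mul, inv_mul_cancel, map_one, Matrix.one_mulVec]
        exact hw))
      rwa [hval, hz'x] at this)
  exact ⟨g, hzx ▸ (hmem g z).mp hg⟩
where
  mem_of_forall_dual' {ι₁ : Type} [Fintype ι₁] (W : Submodule k (ι₁ → k)) {x : ι₁ → k}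
      (h : ∀ φ : (ι₁ → k) →ₗ[k] k, (∀ w ∈ W, φ w = 0) → φ x = 0) : x ∈ W := by
    by_contra hx
    obtain ⟨φ, hφx, hφW⟩ := Submodule.exists_dual_map_eq_bot_of_notMem hx inferInstance
    exact hφx (h φ fun w hw => (Submodule.mem_bot k).mp (hφW ▸ Submodule.mem_map_of_mem hw))

end H20Borel
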