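import Groth.Agent.H20Borel.Cartan
import Mathlib.LinearAlgebra.Lagrange
import Mathlib.Algebra.DualNumber

/-!
# Tangent vectors at a regular point of a torus
-/

set_option autoImplicit false
set_option linter.style.haveILetI false
set_option backward.isDefEq.respectTransparency false
set_option maxHeartbeats 1000000
set_option synthInstance.maxHeartbeats 100000

universe u

open CategoryTheory CategoryTheory.Limits MonoidalCategory CartesianMonoidalCategory MonObj AlgebraicGeometry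
open Groth.Agent.H27Witt H20Mu H20Conj

noncomputable section

namespace H20Borel

variable {k : Type u} [Field k]

local notation "Pt" X => 𝟙_ (Over (Sk k)) ⟶ X

variable (k) in
/-- The spectrum of the dual numbers. -/
def Tv : Over (Sk k) := Over.mk (Spec.map (CommRingCat.ofHom (algebraMap k (DualNumber k))))

instance : IsAffine (Tv k).left := inferInstanceAs (IsAffine (Spec _))

/-- Functions on the spectrum of the dual numbers. -/
def tvEquiv : DualNumber k ≃ₐ[k] Fn (Tv k) := Fn.specAlg (k := k) (DualNumber k)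

theorem exists_tvPt : ∃ o : Pt (Tv k), ∀ q, val o q = TrivSqZeroExt.fst (tvEquiv.symm q) := by
  obtain ⟨o, ho⟩ := Fn.exists_point (X := Tv k) ((TrivSqZeroExt.fstHom k k k).comp tvEquiv.symm.toAlgHom)
  exact ⟨o, fun q => AlgHom.congr_fun ho q⟩

/-- The closed point. -/
def tvPt : Pt (Tv k) := exists_tvPt.choose

theorem val_tvPt (q : Fn (Tv k)) : val tvPt q = TrivSqZeroExt.fst (tvEquiv.symm q) := exists_tvPt.choose_spec q

/-- Multiplication by `ε`. -/
def eps : k →ₗ[k] Fn (Tv k) := tvEquiv.toLinearMap.comp (TrivSqZeroExt.inrHom k k)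

theorem eps_apply (x : k) : eps x = tvEquiv (TrivSqZeroExt.inr x) := rfl

theorem eps_mul_eps (x y : k) : eps x * eps y = 0 := by
  rw [eps_apply, eps_apply, ← map_mul, TrivSqZeroExt.inr_mul_inr, map_zero]

theorem val_tvPt_eps (x : k) : val tvPt (eps x) = 0 := by
  rw [val_tvPt, eps_apply, AlgEquiv.symm_apply_apply]
  exact TrivSqZeroExt.fst_inr k x

theorem decomp_tv (q : Fn (Tv k)) :
    q = algebraMap k _ (val tvPt q) + eps (TrivSqZeroExt.snd (tvEquiv.symm q)) := by
  refine tvEquiv.symm.injective ?_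
  rw [map_add, AlgEquiv.commutes, eps_apply, AlgEquiv.symm_apply_apply, val_tvPt,
    TrivSqZeroExt.algebraMap_eq_inl, TrivSqZeroExt.inl_fst_add_inr_snd_eq]

theorem exists_scale (c : k) : ∃ σ : Tv k ⟶ Tv k, ∀ x, Fn.pull σ (eps x) = eps (c * x) := by
  obtain ⟨σ, hσ⟩ := Fn.exists_hom (X := Tv k) (Y := Tv k)
    ((tvEquiv.toAlgHom.comp (TrivSqZeroExt.map (c • LinearMap.id : k →ₗ[k] k))).comp tvEquiv.symm.toAlgHom)
  refine ⟨σ, fun x => ?_⟩
  rw [hσ]
  show tvEquiv (TrivSqZeroExt.map _ (tvEquiv.symm (eps x))) = _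
  rw [eps_apply, eps_apply, AlgEquiv.symm_apply_apply, TrivSqZeroExt.map_inr]
  rfl

namespace MatRep

variable {G : Over (Sk k)} [GrpObj G] [IsAffine G.left] (M : MatRep G)

/-- The matrix of a tangent vector at the identity. -/
def tanMat (X : Matrix (Fin M.N) (Fin M.N) k) : Matrix (Fin M.N) (Fin M.N) (Fn (Tv k)) := 1 + X.map eps

theorem tanMat_mul (X Y : Matrix (Fin M.N) (Fin M.N) k) : M.tanMat X * M.tanMat Y = M.tanMat (X + Y) := by
  have h0 : X.map eps * Y.map eps = 0 := by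
    ext a b
    simp [Matrix.mul_apply, eps_mul_eps]
  rw [tanMat, tanMat, tanMat, add_mul, mul_add, mul_add, h0, _root_.one_mul, _root_.one_mul, _root_.mul_one,
    add_zero, Matrix.map_add eps (map_add eps)]
  abel

theorem tanMat_zero : M.tanMat 0 = 1 := by
  rw [tanMat, Matrix.map_zero eps (map_zero eps), add_zero]

/-- The tangent space at the identity as matrices. -/
def lie : Submodule k (Matrix (Fin M.N) (Fin M.N) k) where
  carrier := {X | ∃ g : Tv k ⟶ G, M.mat g = M.tanMat X}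
  add_mem' := by
    rintro X Y ⟨g, hg⟩ ⟨h, hh⟩
    exact ⟨g * h, by rw [map_mul, hg, hh, tanMat_mul]⟩
  zero_mem' := ⟨1, by rw [map_one, tanMat_zero]⟩
  smul_mem' := by
    rintro c X ⟨g, hg⟩
    obtain ⟨σ, hσ⟩ := exists_scale c
    refine ⟨σ ≫ g, ?_⟩
    ext a b
    rw [mat_comp, hg, tanMat, tanMat, Matrix.add_apply, Matrix.add_apply, map_add, Matrix.one_apply,
      apply_ite (Fn.pull σ), map_one, map_zero, Matrix.map_apply, Matrix.map_apply, hσ]
    rfl

theorem mem_lie {X : Matrix (Fin M.N) (Fin M.N) k} : X ∈ M.lie ↔ ∃ g : Tv k ⟶ G, M.mat g = M.tanMat X := Iff.rfl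

theorem mem_lie_of_tvPt (g : Tv k ⟶ G) (hg : tvPt ≫ g = 1) : ∃ X, M.mat g = M.tanMat X := by
  refine ⟨Matrix.of fun a b => TrivSqZeroExt.snd (tvEquiv.symm (M.mat g a b)), ?_⟩
  ext a b
  conv_lhs => rw [decomp_tv (M.mat g a b)]
  have h1 : val tvPt (M.mat g a b) = if a = b then 1 else 0 := by
    rw [mat_apply, val_pull, hg, M.one]
  rw [h1, tanMat, Matrix.add_apply, Matrix.one_apply, Matrix.map_apply, Matrix.of_apply,
    apply_ite (algebraMap k (Fn (Tv k))), map_one, map_zero]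

theorem tvPt_comp_of_mat {g : Tv k ⟶ G} {X : Matrix (Fin M.N) (Fin M.N) k} (hg : M.mat g = M.tanMat X) :
    tvPt ≫ g = 1 := by
  refine M.mat_injective ?_
  ext a b
  rw [mat_comp, hg, map_one, tanMat, Matrix.add_apply, map_add, Matrix.one_apply, apply_ite (Fn.pull tvPt), map_one,
    map_zero, Matrix.map_apply]
  have h : Fn.pull tvPt (eps (X a b)) = 0 :=
    (struct_gamma _).symm.trans ((congrArg (struct (T0 k)) (val_tvPt_eps (X a b))).trans (map_zero _))
  rw [h, add_zero, Matrix.one_apply]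

theorem mat_inv_tan {g : Tv k ⟶ G} {X : Matrix (Fin M.N) (Fin M.N) k} (hg : M.mat g = M.tanMat X) :
    M.mat g⁻¹ = M.tanMat (-X) := by
  obtain ⟨h, hh⟩ := M.lie.neg_mem (⟨g, hg⟩ : X ∈ M.lie)
  have : g * h = 1 := M.mat_injective (by rw [map_mul, map_one, hg, hh, tanMat_mul, add_neg_cancel, tanMat_zero])
  rw [inv_eq_of_mul_eq_one_right this, hh]

/-- Projection onto the nonzero eigenspaces of an entrywise scaling. -/
theorem exists_preimage_scaling {N : ℕ} (L : Submodule k (Matrix (Fin N) (Fin N) k)) (κ : Fin N → Fin N → k)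
    (hL : ∀ X ∈ L, Matrix.of (fun a b => κ a b * X a b) ∈ L) {X : Matrix (Fin N) (Fin N) k} (hX : X ∈ L) :
    ∃ Y ∈ L, ∀ a b, κ a b ≠ 0 → κ a b * Y a b = X a b := by
  classical
  let S : Finset k := (Finset.univ.image fun x : Fin N × Fin N => κ x.1 x.2).erase 0
  let f : Polynomial k := Lagrange.interpolate S id fun c => c⁻¹
  have hp : ∀ p : Polynomial k, Matrix.of (fun a b => p.eval (κ a b) * X a b) ∈ L := by
    intro p
    induction p using Polynomial.induction_on with
    | C c =>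
      convert L.smul_mem c hX
      ext a b
      simp
    | add p q hp hq =>
      convert L.add_mem hp hq
      ext a b
      simp [add_mul]
    | monomial n c ih =>
      convert hL _ ih using 1
      ext a b
      simp [pow_succ]
      ring
  refine ⟨_, hp f, fun a b hab => ?_⟩
  have h : f.eval (κ a b) = (κ a b)⁻¹ :=
    Lagrange.eval_interpolate_at_node (s := S) (v := id) (r := fun c : k => c⁻¹) (Set.injOn_id _)
      (Finset.mem_erase.mpr ⟨hab, Finset.mem_image.mpr ⟨(a, b), Finset.mem_univ _, rfl⟩⟩)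
  rw [Matrix.of_apply, h, mul_inv_cancel_left₀ hab]

end MatRep

variable [IsAlgClosed k] {G : Over (Sk k)} [GrpObj G] [IsAffine G.left] [Smooth G.hom]

set_option maxHeartbeats 4000000 in
/-- **Every tangent vector at a regular torus point comes from conjugating the centralizer.** -/
theorem exists_conj_tangent {T : Over (Sk k)} [GrpObj T] (iT : T ⟶ G) [IsMonHom iT] (M : MatRep G)
    {χ : Fin M.N → Fn T} (hd : M.IsDiagFor iT χ) (t₀ : Pt T)
    (ht₀ : ∀ a b, χ a ≠ χ b → val t₀ (χ a) ≠ val t₀ (χ b))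
    {C : Over (Sk k)} [GrpObj C] {c : C ⟶ G} (hc : Red.IsCentralizerOf iT c)
    (z : Tv k ⟶ G) (hz : tvPt ≫ z = t₀ ≫ iT) :
    ∃ (g : Tv k ⟶ G) (c' : Tv k ⟶ C), tvPt ≫ g = 1 ∧ tvPt ≫ c' ≫ c = t₀ ≫ iT ∧
      g * (c' ≫ c) * g⁻¹ = z := by
  let s : Tv k ⟶ G := (toUnit (Tv k) ≫ t₀) ≫ iT
  let d : Fin M.N → k := fun a => val t₀ (χ a)
  let d' : Fin M.N → k := fun a => val t₀⁻¹ (χ a)
  have hdd : ∀ a, d' a * d a = 1 := fun a => by
    show val t₀⁻¹ (χ a) * val t₀ (χ a) = 1
    rw [← (M.isCharFn_diag hd a).2, inv_mul_cancel, (M.isCharFn_diag hd a).1]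
  have hs : M.mat s = Matrix.diagonal fun a => algebraMap k (Fn (Tv k)) (d a) := by
    rw [M.mat_diag hd]
    exact congrArg Matrix.diagonal (funext fun a => pull_const _ _)
  have hs' : M.mat s⁻¹ = Matrix.diagonal fun a => algebraMap k (Fn (Tv k)) (d' a) := by
    rw [show s⁻¹ = (toUnit (Tv k) ≫ t₀⁻¹) ≫ iT by
      show ((toUnit (Tv k) ≫ t₀) ≫ iT)⁻¹ = _
      rw [GrpObj.comp_inv, GrpObj.inv_comp], M.mat_diag hd]
    exact congrArg Matrix.diagonal (funext fun a => pull_const _ _)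
  have hso : tvPt ≫ s = t₀ ≫ iT := by
    show tvPt ≫ (toUnit (Tv k) ≫ t₀) ≫ iT = _
    rw [← Category.assoc, ← Category.assoc, toUnit_unique (tvPt ≫ toUnit (Tv k)) (𝟙 _), Category.id_comp]
  have hconj : ∀ g X, M.mat g = M.tanMat X →
      M.mat (s⁻¹ * g * s) = M.tanMat (Matrix.of fun a b => d' a * d b * X a b) := by
    intro g X hg
    ext a b
    rw [map_mul, map_mul, hs, hs', hg, Matrix.mul_diagonal, Matrix.diagonal_mul, MatRep.tanMat, MatRep.tanMat,
      Matrix.add_apply, Matrix.add_apply, Matrix.map_apply, Matrix.map_apply, Matrix.of_apply, Matrix.one_apply,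
      mul_add, add_mul]
    refine congrArg₂ (· + ·) ?_ ?_
    · split_ifs with hab
      · subst hab
        rw [_root_.mul_one, ← map_mul, hdd, map_one]
      · rw [mul_zero, zero_mul]
    · rw [← smul_eq_mul (d' a * d b) (X a b), map_smul, Algebra.smul_def, map_mul]
      ring
  have hw : tvPt ≫ (s⁻¹ * z) = 1 := by rw [MonObj.comp_mul, GrpObj.comp_inv, hso, hz, inv_mul_cancel]
  obtain ⟨X, hX⟩ := M.mem_lie_of_tvPt _ hw
  let κ : Fin M.N → Fin M.N → k := fun a b => d' a * d b - 1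
  have hL : ∀ Y ∈ M.lie, Matrix.of (fun a b => κ a b * Y a b) ∈ M.lie := by
    rintro Y ⟨g, hg⟩
    convert M.lie.sub_mem (⟨_, hconj g Y hg⟩ : _ ∈ M.lie) (⟨g, hg⟩ : Y ∈ M.lie)
    ext a b
    simp [κ, sub_mul]
  obtain ⟨Y, ⟨g, hg⟩, hY⟩ := MatRep.exists_preimage_scaling M.lie κ hL ⟨_, hX⟩
  obtain ⟨c₀, hc₀⟩ := M.lie.sub_mem (⟨_, hX⟩ : X ∈ M.lie) (hL Y ⟨g, hg⟩)
  have hc₀o := M.tvPt_comp_of_mat hc₀
  have hcen : ∀ a b, χ a ≠ χ b → M.mat (s * c₀) a b = 0 := by
    intro a b hab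
    have hκ : κ a b ≠ 0 := fun h => ht₀ a b hab <| by
      have h1 := congrArg (fun x => d a * x) (sub_eq_zero.mp h)
      simp only [_root_.mul_one, ← _root_.mul_assoc, _root_.mul_comm (d a) (d' a), hdd, _root_.one_mul] at h1
      exact h1.symm
    rw [map_mul, hs, hc₀, Matrix.diagonal_mul, MatRep.tanMat, Matrix.add_apply, Matrix.map_apply, Matrix.sub_apply,
      Matrix.of_apply, hY a b hκ, sub_self, map_zero, Matrix.one_apply, if_neg (fun h => hab (congrArg χ h)),
      add_zero, mul_zero]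
  obtain ⟨c', hc'⟩ := M.exists_factor_centralizer hd hc (s * c₀) hcen
  refine ⟨g, c', M.tvPt_comp_of_mat hg, ?_, ?_⟩
  · rw [hc', MonObj.comp_mul, hso, hc₀o, _root_.mul_one]
  · have e : s⁻¹ * g * s * c₀ * g⁻¹ = s⁻¹ * z := by
      refine M.mat_injective ?_
      rw [map_mul, map_mul, hconj g Y hg, hc₀, M.mat_inv_tan hg, hX, MatRep.tanMat_mul, MatRep.tanMat_mul]
      refine congrArg M.tanMat ?_
      ext a b
      simp [κ, sub_mul]
      ring
    rw [hc', ← mul_right_inj s⁻¹, ← e]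
    group

end H20Borel
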