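import Groth.Agent.H20Borel.Cartan
import Groth.Agent.H20Borel.ProperCone
import Groth.Agent.H20Mu.ProdFn
import Groth.Agent.H20Conj.Main
import Groth.Agent.H20RepRing.Finite

/-!
# Rigidity of tori: torsion points and factorisation through a torus
-/

set_option autoImplicit false
set_option linter.style.haveILetI false
set_option backward.isDefEq.respectTransparency false
set_option maxHeartbeats 1000000
set_option synthInstance.maxHeartbeats 200000

universe u

open CategoryTheory CategoryTheory.Limits MonoidalCategory CartesianMonoidalCategory MonObj AlgebraicGeometry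
open Groth.Agent.H27Witt H20Mu H20Conj

noncomputable section

namespace H20Borel

variable {k : Type u} [Field k] [IsAlgClosed k]

local notation "Pt" X => 𝟙_ (Over (Sk k)) ⟶ X
local notation "𝔾ₘ" => Red.Gm (Sk k)

/-- A family over `𝔾ₘ` which lands in a closed subscheme at all torsion parameters lands in it. -/
theorem exists_factor_of_goodRoots {V C T : Over (Sk k)} [IsAffine C.left] [CompactSpace V.left]
    [QuasiSeparatedSpace V.left] (i : T ⟶ C) [IsClosedImmersion i.left] (F : 𝔾ₘ ⊗ V ⟶ C)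
    (h : ∀ u ∈ goodRoots k, ∃ w : V ⟶ T, w ≫ i = lift (toUnit V ≫ ofPar u) (𝟙 V) ≫ F) :
    ∃ F' : 𝔾ₘ ⊗ V ⟶ T, F' ≫ i = F := by
  classical
  haveI : IsAffine T.left := isAffine_of_isAffineHom i.left
  haveI : IsAffine (𝔾ₘ).left := by
    haveI : IsAffine (Red.diag (ULift.{u} ℤ) ℤ).left := inferInstanceAs (IsAffine (Spec _))
    dsimp [Red.Gm, Red.DS, Red.bc]; infer_instance
  have hsurj : Function.Surjective (Fn.pull i : Fn C →ₐ[k] Fn T) :=
    (IsClosedImmersion.isAffine_surjective_of_isAffine i.left).2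
  have hker : ∀ r ∈ RingHom.ker (Fn.pull i : Fn C →ₐ[k] Fn T), Fn.pull F r = 0 := by
    intro r hr
    obtain ⟨n, a, b, hab⟩ := exists_decomp_qcqs (Fn.pull F r)
    choose sa ca hca using fun j => exists_laurent (a j)
    let S := Finset.univ.biUnion sa
    let c : Fin n → ℤ → k := fun j p => if p ∈ sa j then ca j p else 0
    have hA : ∀ j, a j = ∑ p ∈ S, c j p • ((zFn ^ p : (Fn 𝔾ₘ)ˣ) : Fn 𝔾ₘ) := fun j => by
      conv_lhs => rw [hca j]
      rw [← Finset.sum_subset (Finset.subset_biUnion_of_mem sa (Finset.mem_univ j))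
        (fun p _ hp => by simp only [c, if_neg hp, zero_smul])]
      exact Finset.sum_congr rfl fun p hp => by simp only [c, if_pos hp]
    let β : ℤ → Fn V := fun p => ∑ j, c j p • b j
    have hF : Fn.pull F r = ∑ p ∈ S,
        Fn.pull (fst 𝔾ₘ V) ((zFn ^ p : (Fn 𝔾ₘ)ˣ) : Fn 𝔾ₘ) * Fn.pull (snd 𝔾ₘ V) (β p) := by
      rw [hab]
      simp only [β, hA, map_sum, map_smul, Finset.sum_mul, Finset.mul_sum, smul_mul_assoc, mul_smul_comm]
      exact Finset.sum_comm
    have hslice : ∀ u ∈ goodRoots k, ∑ p ∈ S, ((u ^ p : kˣ) : k) • β p = 0 := by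
      intro u hu
      obtain ⟨w, hw⟩ := h u hu
      have e := congrArg (Fn.pull (lift (toUnit V ≫ ofPar u) (𝟙 V))) hF
      rw [Fn.pull_pull, ← hw, ← Fn.pull_pull, RingHom.mem_ker.mp hr, map_zero, map_sum] at e
      rw [e]
      refine Finset.sum_congr rfl fun p _ => ?_
      rw [map_mul, Fn.pull_pull, Fn.pull_pull, lift_fst, lift_snd, pull_const, val_zFn_zpow, par_ofPar, Fn.pull_id,
        Algebra.smul_def]
      rfl
    have hβ : ∀ p ∈ S, β p = 0 := by
      intro p hp
      refine (Module.forall_dual_apply_eq_zero_iff k _).mp fun φ => ?_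
      refine laurent_zero_of_infinite (c := fun p => φ (β p)) infinite_goodRoots (fun u hu => ?_) p hp
      have e := congrArg φ (hslice u hu)
      simp only [map_sum, map_smul, map_zero, smul_eq_mul] at e
      exact (Finset.sum_congr rfl fun q _ => _root_.mul_comm _ _).trans e
    rw [hF]
    exact Finset.sum_eq_zero fun p hp => by rw [hβ p hp, map_zero, mul_zero]
  obtain ⟨F', hF'⟩ := Fn.exists_hom (X := 𝔾ₘ ⊗ V) (Y := T)
    ((Ideal.Quotient.liftₐ (RingHom.ker (Fn.pull i)) (Fn.pull F) hker).comp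
      (Ideal.quotientKerAlgEquivOfSurjective hsurj).symm.toAlgHom)
  refine ⟨F', Fn.hom_ext (AlgHom.ext fun r => ?_)⟩
  rw [Fn.pull_comp, AlgHom.comp_apply, hF']
  show (Ideal.Quotient.liftₐ _ (Fn.pull F) hker) ((Ideal.quotientKerAlgEquivOfSurjective hsurj).symm (Fn.pull i r)) = _
  rw [show (Ideal.quotientKerAlgEquivOfSurjective hsurj).symm (Fn.pull i r) = Ideal.Quotient.mk _ r from
    (AlgEquiv.symm_apply_eq _).mpr rfl]
  rfl

/-- A matrix of order prime to the characteristic which is infinitesimally `1` is `1`. -/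
theorem eq_one_of_pow_eq_one {R : Type*} [CommRing R] {N m : ℕ} (hm : IsUnit (m : R))
    (X : Matrix (Fin N) (Fin N) R) (hX : ∀ a b, IsNilpotent ((X - 1) a b)) (hp : X ^ m = 1) : X = 1 := by
  let S := ∑ i ∈ Finset.range m, X ^ i
  have h1 : (X - 1) * S = 0 := by rw [mul_geom_sum, hp, sub_self]
  let π : R →+* R ⧸ nilradical R := Ideal.Quotient.mk _
  haveI : IsLocalHom π := by
    refine IsLocalHom.mk fun a ha => ?_
    obtain ⟨v, hv⟩ := ha.exists_right_inv
    obtain ⟨v, rfl⟩ := Ideal.Quotient.mk_surjective v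
    have hn : IsNilpotent (a * v - 1) := mem_nilradical.mp (Ideal.Quotient.eq.mp (by rw [map_mul, map_one]; exact hv))
    have := hn.isUnit_add_one
    rw [sub_add_cancel] at this
    exact isUnit_of_mul_isUnit_left this
  have hmap : X.map π = 1 := by
    ext a b
    rw [Matrix.map_apply, show X a b = (X - 1) a b + (1 : Matrix (Fin N) (Fin N) R) a b by simp, map_add,
      Ideal.Quotient.eq_zero_iff_mem.mpr (mem_nilradical.mpr (hX a b)), zero_add]
    simp only [Matrix.one_apply]
    split_ifs <;> simp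
  have hS : IsUnit S := by
    rw [Matrix.isUnit_iff_isUnit_det]
    refine isUnit_of_map_unit π _ ?_
    rw [RingHom.map_det]
    have e : π.mapMatrix S = (m : Matrix (Fin N) (Fin N) (R ⧸ nilradical R)) := by
      simp [S, map_sum, map_pow, RingHom.mapMatrix_apply, hmap]
    rw [e, ← Matrix.diagonal_natCast, Matrix.det_diagonal]
    simp only [Finset.prod_const]
    exact IsUnit.pow _ (by simpa using hm.map π)
  rw [← sub_eq_zero]
  exact (hS.mul_left_eq_zero).mp h1

variable {C T : Over (Sk k)} [GrpObj C] [GrpObj T] [IsAffine C.left] [Smooth C.hom]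

/-- **Torsion families with values in a central torus at all points lie in the torus.** -/
theorem exists_factor_of_torsion (i : T ⟶ C) [IsMonHom i] [IsClosedImmersion i.left] (hT : Red.IsTorus T)
    (hcen : ∀ (W : Over (Sk k)) (z : W ⟶ C) (y : W ⟶ T), z * (y ≫ i) = (y ≫ i) * z)
    {V : Over (Sk k)} [LocallyOfFiniteType V.hom] (f : V ⟶ C) {m : ℕ} (hm : (m : k) ≠ 0) (hf : f ^ m = 1)
    (hpt : ∀ p : Pt V, ∃ τ : Pt T, τ ≫ i = p ≫ f) : ∃ f' : V ⟶ T, f' ≫ i = f := by
  classical
  haveI : Mono i := Over.mono_of_mono_left _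
  haveI : LocallyOfFiniteType C.hom := inferInstance
  haveI : JacobsonSpace V.left := LocallyOfFiniteType.jacobsonSpace V.hom
  obtain ⟨M, χ, hd⟩ := exists_diag_rep i hT
  have hm0 : 0 < m := Nat.pos_of_ne_zero fun e => hm (by simp [e])
  -- the torsion points of the torus
  let Tm : Set (Pt T) := {τ | (τ ≫ i) ^ m = 1}
  have hfin : Tm.Finite := by
    let R : Set k := {x | x ^ m = 1}
    have hR : R.Finite := ((Polynomial.X ^ m - Polynomial.C (1 : k)).roots.toFinset.finite_toSet).subset fun x hx => by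
      rw [Finset.mem_coe, Multiset.mem_toFinset, Polynomial.mem_roots (Polynomial.X_pow_sub_C_ne_zero hm0 1)]
      simp [show x ^ m = 1 from hx]
    refine Set.Finite.of_finite_image ((Set.Finite.pi' fun _ : Fin M.N => hR).subset ?_)
      (f := fun (τ : Pt T) (a : Fin M.N) => val τ (χ a)) fun τ _ τ' _ e => (cancel_mono i).1 (M.ptMat_injective ?_)
    · rintro _ ⟨τ, hτ, rfl⟩ a
      have h1 := congrArg M.ptMat (hτ : (τ ≫ i) ^ m = 1)
      rw [map_pow, map_one, M.ptMat_diag hd, Matrix.diagonal_pow, ← Matrix.diagonal_one] at h1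
      exact congrFun (Matrix.diagonal_injective h1) a
    · rw [M.ptMat_diag hd, M.ptMat_diag hd]
      exact congrArg Matrix.diagonal e
  let Z : (Pt T) → Set C.left := fun τ => {x | ∃ τ' ∈ Tm, τ' ≠ τ ∧ ptSet (τ' ≫ i) = x}
  have hZ : ∀ τ, IsClosed (Z τ) := fun τ => by
    rw [show Z τ = ⋃ τ' ∈ {τ' ∈ Tm | τ' ≠ τ}, {ptSet (τ' ≫ i)} by
      ext x; simp [Z, and_assoc, eq_comm]]
    exact (hfin.subset fun x hx => hx.1).isClosed_biUnion fun τ' _ => isClosed_ptSet _
  let U : Tm → V.left.Opens := fun τ => f.left ⁻¹ᵁ ⟨(Z τ.1)ᶜ, (hZ τ.1).isOpen_compl⟩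
  have hval : ∀ p : Pt V, ∃ τ ∈ Tm, τ ≫ i = p ≫ f := fun p => by
    obtain ⟨τ, hτ⟩ := hpt p
    refine ⟨τ, ?_, hτ⟩
    show (τ ≫ i) ^ m = 1
    rw [hτ]
    have := congrArg (p ≫ ·) hf
    simpa only [MonObj.comp_pow, MonObj.comp_one] using this
  have hUp : ∀ (τ : Tm) (p : Pt V), ptSet p ∈ U τ → τ.1 ≫ i = p ≫ f := fun τ p hp => by
    obtain ⟨τ', hτ', e⟩ := hval p
    by_cases hne : τ' = τ.1
    · rw [← hne, e]
    · exact absurd ⟨τ', hτ', hne, by rw [e, ptSet_comp]⟩ hp
  have hcov : ∀ x : V.left, ∃ τ : Tm, x ∈ U τ := by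
    intro x
    by_contra hx
    push Not at hx
    let F : Set V.left := ⋂ τ : Tm, ((U τ : Set V.left))ᶜ
    have hFc : IsClosed F := isClosed_iInter fun τ => (U τ).2.isClosed_compl
    have hxF : x ∈ F := Set.mem_iInter.2 fun τ => hx τ
    obtain ⟨y, hy, hyc⟩ := nonempty_inter_closedPoints ⟨x, hxF⟩ hFc.isLocallyClosed
    obtain ⟨p, rfl⟩ := exists_pt_eq y hyc
    obtain ⟨τ, hτ, e⟩ := hval p
    refine Set.mem_iInter.1 hy ⟨τ, hτ⟩ ?_
    rintro ⟨τ', -, hne, e'⟩
    rw [← ptSet_comp, ← e] at e'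
    exact hne ((cancel_mono i).1 (ptSet_injective e'))
  -- on an affine open inside one piece the family is constant
  have hloc : ∀ x : V.left, ∃ (W : V.left.Opens), x ∈ W ∧ ∃ w : Over.mk (W.ι ≫ V.hom) ⟶ T,
      w ≫ i = Over.homMk W.ι rfl ≫ f := by
    intro x
    obtain ⟨τ, hx⟩ := hcov x
    obtain ⟨W, hW, hxW, hWU⟩ := exists_isAffineOpen_mem_and_subset hx
    refine ⟨W, hxW, toUnit _ ≫ τ.1, ?_⟩
    let W' : Over (Sk k) := Over.mk (W.ι ≫ V.hom)
    haveI : IsAffine W'.left := hW
    haveI : LocallyOfFiniteType W'.hom := inferInstanceAs (LocallyOfFiniteType (W.ι ≫ V.hom))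
    let j : W' ⟶ V := Over.homMk W.ι rfl
    let h : W' ⟶ C := (j ≫ f) * (toUnit W' ≫ τ.1 ≫ i)⁻¹
    have hcomm : Commute (j ≫ f) (toUnit W' ≫ τ.1 ≫ i)⁻¹ := by
      refine Commute.inv_right ?_
      rw [← Category.assoc (toUnit W')]
      exact hcen W' _ _
    have hpow : h ^ m = 1 := by
      have e1 : (j ≫ f) ^ m = 1 := by rw [← MonObj.comp_pow, hf, MonObj.comp_one]
      have e2 : (toUnit W' ≫ τ.1 ≫ i) ^ m = 1 := by
        rw [← MonObj.comp_pow, show (τ.1 ≫ i) ^ m = 1 from τ.2, MonObj.comp_one]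
      simp only [h, hcomm.mul_pow, inv_pow, e1, e2, inv_one, _root_.mul_one]
    have hone : h = 1 := by
      refine M.mat_injective ?_
      rw [map_one]
      refine eq_one_of_pow_eq_one (m := m) ?_ _ (fun a b => ?_) (by rw [← map_pow, hpow, map_one])
      · simpa using (IsUnit.mk0 _ hm).map (algebraMap k (Fn W'))
      · haveI := Fn.finiteType W'
        refine Groth.Agent.H20RepRing.isNilpotent_of_forall_point (k := k) fun φ => ?_
        obtain ⟨p, rfl⟩ := Fn.exists_point φ
        have e : p ≫ h = 1 := by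
          simp only [h, MonObj.comp_mul, GrpObj.comp_inv, ← Category.assoc p (toUnit W'),
            toUnit_unique (p ≫ toUnit W') (𝟙 _), Category.id_comp]
          have hmem : ptSet (p ≫ j) ∈ W := by
            rw [ptSet_comp]
            exact (ptSet p).2
          rw [hUp τ (p ≫ j) (hWU hmem),
            Category.assoc, mul_inv_cancel]
        show Fn.ev p ((M.mat h - 1) a b) = 0
        have e' : Fn.ev p (M.mat h a b) = (1 : Matrix (Fin M.N) (Fin M.N) k) a b := by
          rw [M.mat_apply, Fn.ev_pull, e]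
          exact (M.one a b).trans (Matrix.one_apply).symm
        rw [Matrix.sub_apply, map_sub, e', Matrix.one_apply, Matrix.one_apply]
        split_ifs <;> simp
    rw [Category.assoc]
    exact (mul_inv_eq_one.mp hone).symm
  choose W hxW w hw using hloc
  let 𝒰 := V.left.openCoverOfIsOpenCover W (TopologicalSpace.IsOpenCover.mk (eq_top_iff.2 fun x _ =>
    TopologicalSpace.Opens.mem_iSup.2 ⟨x, hxW x⟩))
  haveI : Mono i.left := inferInstance
  have hwl : ∀ x, (w x).left ≫ i.left = (W x).ι ≫ f.left := fun x => congrArg CommaMorphism.left (hw x)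
  let z : V.left ⟶ T.left := 𝒰.glueMorphisms (fun x => (w x).left) fun x y => by
    rw [← cancel_mono i.left, Category.assoc, Category.assoc, hwl, hwl]
    exact pullback.condition_assoc f.left
  have hz : z ≫ i.left = f.left := 𝒰.hom_ext _ _ fun x => by
    rw [← Category.assoc, 𝒰.ι_glueMorphisms]
    exact hwl x
  exact ⟨Over.homMk z (by rw [← Over.w i, ← Category.assoc, hz, Over.w f]), Over.OverMorphism.ext hz⟩

end H20Borel

end
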