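import Groth.Agent.H20Borel.AlgGroup
import Groth.Agent.H20Borel.TorusRigid
import Groth.Agent.H21Nilp.MultFactor
import Groth.Agent.S3006

/-!
# Elements conjugating a maximal torus into its centralizer normalize it
-/

set_option autoImplicit false
set_option linter.style.haveILetI false
set_option backward.isDefEq.respectTransparency false
set_option maxHeartbeats 1000000
set_option synthInstance.maxHeartbeats 400000

universe u

open CategoryTheory CategoryTheory.Limits MonoidalCategory CartesianMonoidalCategory MonObj AlgebraicGeometry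
open Groth.Agent.H27Witt H20Mu H20Conj

noncomputable section

namespace H20Borel

variable {k : Type u} [Field k] [IsAlgClosed k]

local notation "Pt" X => 𝟙_ (Over (Sk k)) ⟶ X
local notation "𝔾ₘ" => Red.Gm (Sk k)

variable {G : Over (Sk k)} [GrpObj G] [Smooth G.hom] [QuasiCompact G.hom] [ConnectedSpace G.left]
  {L : Over (Sk k)} [GrpObj L] {l : L ⟶ G} {T : Over (Sk k)} [GrpObj T]

/-- **A family conjugating a maximal torus into its centralizer normalizes it.** -/
theorem conj_mem_torus (hl : IsAffPart l) (v : T ⟶ L) (hv : Red.IsMaximalTorus v)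
    {V : Over (Sk k)} [LocallyOfFiniteType V.hom] [QuasiCompact V.hom] (g : V ⟶ G)
    (hg : ∀ (W : Over (Sk k)) (x : W ⟶ V) (t s : W ⟶ T),
      Commute ((x ≫ g) * (t ≫ v ≫ l) * (x ≫ g)⁻¹) (s ≫ v ≫ l))
    (W : Over (Sk k)) (x : W ⟶ V) (t : W ⟶ T) :
    ∃ t' : W ⟶ T, t' ≫ v ≫ l = (x ≫ g) * (t ≫ v ≫ l) * (x ≫ g)⁻¹ := by
  haveI := hl.hom; haveI := hl.closed; haveI := hl.affine; haveI := hl.smooth; haveI := hl.conn
  haveI : Mono l := Over.mono_of_mono_left _
  obtain ⟨hvm, hvmo, hT, -⟩ := id hv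
  haveI := hvm; haveI := hvmo
  haveI : IsClosedImmersion v.left := isClosedImmersion_torus v hT
  haveI : LocallyOfFinitePresentation L.hom := inferInstance
  haveI : QuasiCompact L.hom := inferInstance
  haveI : QuasiSeparated L.hom := inferInstance
  obtain ⟨C, gC, c, hc, hcc, hCs⟩ := (Groth.Agent.S3006.result (Sk k) L T v inferInstance hT).1
  letI := gC
  haveI := hc.1; haveI := hc.2.1; haveI := hcc; haveI := hCs
  haveI : IsAffine C.left := isAffine_of_isAffineHom c.left
  obtain ⟨tC, htC⟩ := (hc.2.2 T v).mpr fun X' y s => by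
    rw [← MonObj.mul_comp, ← MonObj.mul_comp, torus_comm hT]
  haveI : IsMonHom (tC ≫ c) := htC ▸ hvm
  haveI : IsMonHom tC := isMonHom_of_comp_mono tC c inferInstance
  haveI : IsClosedImmersion tC.left := by
    haveI : IsClosedImmersion (tC.left ≫ c.left) := by rw [← Over.comp_left, htC]; infer_instance
    exact IsClosedImmersion.of_comp tC.left c.left
  have hcen : ∀ (W : Over (Sk k)) (z : W ⟶ C) (y : W ⟶ T), z * (y ≫ tC) = (y ≫ tC) * z := fun W z y => by
    refine (cancel_mono c).1 ?_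
    rw [MonObj.mul_comp, MonObj.mul_comp, Category.assoc, htC]
    have e := (hc.2.2 W (z ≫ c)).mp ⟨z, rfl⟩ W (𝟙 W) y
    rwa [Category.id_comp] at e
  -- the conjugated torus lands in the centralizer
  obtain ⟨n, hn⟩ := hl.normal (T ⊗ V) (snd T V ≫ g) (fst T V ≫ v)
  obtain ⟨u, hu⟩ := (hc.2.2 (T ⊗ V) n).mpr fun X' y s => by
    refine (cancel_mono l).1 ?_
    rw [MonObj.mul_comp, MonObj.mul_comp, Category.assoc y, ← hn]
    simp only [MonObj.comp_mul, GrpObj.comp_inv, ← Category.assoc y]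
    have := hg X' (y ≫ snd T V) (y ≫ fst T V) s
    simpa only [Category.assoc] using this.eq
  have hval : ∀ (W : Over (Sk k)) (x : W ⟶ V) (t : W ⟶ T),
      lift t x ≫ u ≫ c ≫ l = (x ≫ g) * (t ≫ v ≫ l) * (x ≫ g)⁻¹ := fun W x t => by
    rw [← Category.assoc u, hu, ← hn]
    simp only [MonObj.comp_mul, GrpObj.comp_inv, lift_snd_assoc, ← Category.assoc (lift t x) (fst T V ≫ v),
      lift_fst_assoc, Category.assoc]
  -- rational points
  have hpt : ∀ (p : Pt V) (t : Pt T), ∃ τ : Pt T, τ ≫ v ≫ l = (p ≫ g) * (t ≫ v ≫ l) * (p ≫ g)⁻¹ := by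
    intro p t
    let up : T ⟶ L := lift (𝟙 T) (toUnit T ≫ p) ≫ u ≫ c
    have hup : up ≫ l = AGF.conjBy (p ≫ g) (v ≫ l) := by
      simp only [up, Category.assoc]
      rw [hval, AGF.conjBy, Category.id_comp, Category.assoc]
    haveI : IsMonHom (up ≫ l) := by
      rw [hup, H20Conj.conjBy_eq]
      haveI : IsMonHom (H20Mu.conj (p ≫ g)⁻¹) := H20Mu.isMonHom_conj _
      infer_instance
    haveI : IsMonHom up := isMonHom_of_comp_mono up l inferInstance
    obtain ⟨w, hw⟩ := Groth.Agent.H21Nilp.factor_maxTorus_of_commute hv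
      (Groth.Agent.H21Diag.isMultTypeFT_of_isTorus hT) up fun X y s => by
        refine (cancel_mono l).1 ?_
        rw [MonObj.mul_comp, MonObj.mul_comp, Category.assoc y up l, Category.assoc s v l, hup, AGF.conjBy]
        simp only [MonObj.comp_mul, GrpObj.comp_inv, ← Category.assoc y, ← Category.assoc (y ≫ toUnit T)]
        simpa only [Category.assoc] using (hg X (y ≫ toUnit T ≫ p) y s).eq
    refine ⟨t ≫ w, ?_⟩
    rw [Category.assoc, ← Category.assoc w, hw, hup, H20Borel.comp_conjBy]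
  -- one cocharacter at a time
  obtain ⟨r, e, co, he, -, hprod, -⟩ := exists_cochars T hT
  haveI : CompactSpace V.left := QuasiCompact.compactSpace_of_compactSpace V.hom
  haveI : IsNoetherianRing (CommRingCat.of k) := inferInstanceAs (IsNoetherianRing k)
  haveI : IsLocallyNoetherian V.left := LocallyOfFiniteType.isLocallyNoetherian V.hom
  haveI : QuasiSeparatedSpace V.left := inferInstance
  have hF : ∀ j, ∃ F' : 𝔾ₘ ⊗ V ⟶ T, F' ≫ tC = lift (fst 𝔾ₘ V ≫ e j) (snd 𝔾ₘ V) ≫ u := fun j => by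
    haveI := he j
    refine exists_factor_of_goodRoots tC _ fun ζ hζ => ?_
    obtain ⟨m, hm, hζ⟩ := hζ
    rw [← Category.assoc, comp_lift, lift_fst_assoc, lift_snd]
    refine exists_factor_of_torsion tC hT hcen _ hm ?_ fun p => ?_
    · refine (cancel_mono (c ≫ l)).1 ?_
      let L' : (V ⟶ C) →* (V ⟶ G) := MonoidHom.mk' (fun a => a ≫ c ≫ l) fun a b => MonObj.mul_comp a b _
      show L' (_ ^ m) = L' 1
      rw [map_pow, map_one]
      show ((lift _ _ ≫ u) ≫ c ≫ l) ^ m = 1
      rw [Category.assoc, hval, Category.id_comp, conj_pow]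
      let L'' : kˣ →* (V ⟶ G) := MonoidHom.mk' (fun a => ((toUnit V ≫ ofParHom a) ≫ e j) ≫ v ≫ l) fun a b => by
        simp only [map_mul, MonObj.comp_mul, MonObj.mul_comp]
      have h1 : ((toUnit V ≫ ofPar ζ) ≫ e j) ≫ v ≫ l = L'' ζ := rfl
      rw [h1, ← map_pow, hζ, map_one]
      simp
    · obtain ⟨τ, hτ⟩ := hpt p ((p ≫ toUnit V ≫ ofPar ζ) ≫ e j)
      refine ⟨τ, (cancel_mono (c ≫ l)).1 ?_⟩
      rw [Category.assoc, ← Category.assoc tC, htC, hτ]
      simp only [Category.assoc, hval, MonObj.comp_mul, GrpObj.comp_inv, Category.id_comp]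
  choose F hF using hF
  let ψ : (T ⟶ T) →* (W ⟶ T) := MonoidHom.mk' (fun a => t ≫ a) fun a b => MonObj.comp_mul t a b
  let R : Submonoid (W ⟶ T) :=
    { carrier := {s | ∃ t' : W ⟶ T, t' ≫ v ≫ l = (x ≫ g) * (s ≫ v ≫ l) * (x ≫ g)⁻¹}
      mul_mem' := by
        rintro a b ⟨a', ha⟩ ⟨b', hb⟩
        exact ⟨a' * b', by rw [MonObj.mul_comp, MonObj.mul_comp, ha, hb]; group⟩
      one_mem' := ⟨1, by simp [MonObj.one_comp]⟩ }
  have ht : t = ψ (List.ofFn fun j => co j ≫ e j).prod := by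
    rw [hprod]; exact (Category.comp_id t).symm
  show t ∈ R
  rw [ht, map_list_prod]
  refine list_prod_mem fun s hs => ?_
  simp only [List.mem_map, List.mem_ofFn] at hs
  obtain ⟨_, ⟨j, rfl⟩, rfl⟩ := hs
  refine ⟨lift (t ≫ co j) x ≫ F j, ?_⟩
  show _ = (x ≫ g) * ((t ≫ co j ≫ e j) ≫ v ≫ l) * (x ≫ g)⁻¹
  rw [← hval, ← htC, Category.assoc, Category.assoc tC, reassoc_of% (hF j), ← Category.assoc (lift (t ≫ co j) x),
    comp_lift, lift_fst_assoc, lift_snd, Category.assoc t]

end H20Borel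

end
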